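import Mathlib
import Cfsg.Agent.Lib.FieldAutCard
import Cfsg.Agent.Lib.SL2Mat

/-!
# The natural module of `SL₂(F)`: additive maps commuting with, or normalising, `SL₂(F)`
-/

set_option autoImplicit false
set_option linter.unusedSectionVars false

namespace Cfsg.Agent.Omega.NatPair

open Cfsg.Agent.Lib.SL2Mat

variable {F : Type*} [Field F]

/-- the action of `SL₂(F)` on `F²` -/
def ap (A : Matrix.SpecialLinearGroup (Fin 2) F) (x : Fin 2 → F) : Fin 2 → F :=
  ![ent A 0 0 * x 0 + ent A 0 1 * x 1, ent A 1 0 * x 0 + ent A 1 1 * x 1]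

theorem ext2 {x y : Fin 2 → F} (h0 : x 0 = y 0) (h1 : x 1 = y 1) : x = y := by
  funext i
  fin_cases i
  · exact h0
  · exact h1

theorem ap_zero' (A : Matrix.SpecialLinearGroup (Fin 2) F) (x : Fin 2 → F) :
    ap A x 0 = ent A 0 0 * x 0 + ent A 0 1 * x 1 := rfl

theorem ap_one' (A : Matrix.SpecialLinearGroup (Fin 2) F) (x : Fin 2 → F) :
    ap A x 1 = ent A 1 0 * x 0 + ent A 1 1 * x 1 := rfl

theorem ap_mul (A B : Matrix.SpecialLinearGroup (Fin 2) F) (x : Fin 2 → F) : ap (A * B) x = ap A (ap B x) := by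
  apply ext2
  · rw [ap_zero', ap_zero', ap_zero', ap_one', ent_mul, ent_mul]; ring
  · rw [ap_one', ap_one', ap_zero', ap_one', ent_mul, ent_mul]; ring

theorem ap_one (x : Fin 2 → F) : ap 1 x = x := by
  apply ext2
  · rw [ap_zero', ent_one_00, ent_one_01]; ring
  · rw [ap_one', ent_one_10, ent_one_11]; ring

theorem ap_add (A : Matrix.SpecialLinearGroup (Fin 2) F) (x y : Fin 2 → F) : ap A (x + y) = ap A x + ap A y := by
  apply ext2
  · rw [Pi.add_apply, ap_zero', ap_zero', ap_zero', Pi.add_apply, Pi.add_apply]; ring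
  · rw [Pi.add_apply, ap_one', ap_one', ap_one', Pi.add_apply, Pi.add_apply]; ring

theorem ap_smul (A : Matrix.SpecialLinearGroup (Fin 2) F) (c : F) (x : Fin 2 → F) : ap A (c • x) = c • ap A x := by
  apply ext2
  · rw [Pi.smul_apply, ap_zero', ap_zero', Pi.smul_apply, Pi.smul_apply, smul_eq_mul, smul_eq_mul, smul_eq_mul]; ring
  · rw [Pi.smul_apply, ap_one', ap_one', Pi.smul_apply, Pi.smul_apply, smul_eq_mul, smul_eq_mul, smul_eq_mul]; ring

theorem ap_inv_ap (A : Matrix.SpecialLinearGroup (Fin 2) F) (x : Fin 2 → F) : ap A⁻¹ (ap A x) = x := by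
  rw [← ap_mul, inv_mul_cancel, ap_one]

theorem ap_ap_inv (A : Matrix.SpecialLinearGroup (Fin 2) F) (x : Fin 2 → F) : ap A (ap A⁻¹ x) = x := by
  rw [← ap_mul, mul_inv_cancel, ap_one]

/-- `SL₂(F)` acts faithfully -/
theorem ap_inj {A B : Matrix.SpecialLinearGroup (Fin 2) F} (h : ∀ x, ap A x = ap B x) : A = B := by
  have h1 := h ![1, 0]
  have h2 := h ![0, 1]
  have e1 := congrFun h1 0
  have e2 := congrFun h1 1
  have e3 := congrFun h2 0
  have e4 := congrFun h2 1
  rw [ap_zero', ap_zero'] at e1 e3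
  rw [ap_one', ap_one'] at e2 e4
  simp only [Matrix.cons_val_zero, Matrix.cons_val_one, mul_one, mul_zero, add_zero, zero_add] at e1 e2 e3 e4
  exact ext_ent e1 e3 e2 e4

/-- `SL₂(F)` is transitive on the nonzero vectors -/
theorem exists_ap_e {x : Fin 2 → F} (hx : x ≠ 0) :
    ∃ A : Matrix.SpecialLinearGroup (Fin 2) F, ap A ![1, 0] = x := by
  by_cases h0 : x 0 = 0
  · have h1 : x 1 ≠ 0 := fun h => hx (ext2 h0 h)
    refine ⟨mk (x 0) (-(x 1)⁻¹) (x 1) 0 (by rw [h0]; field_simp; ring), ?_⟩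
    apply ext2
    · rw [ap_zero']; simp
    · rw [ap_one']; simp
  · refine ⟨mk (x 0) 0 (x 1) (x 0)⁻¹ (by field_simp; ring), ?_⟩
    apply ext2
    · rw [ap_zero']; simp
    · rw [ap_one']; simp

theorem exists_ap {x y : Fin 2 → F} (hx : x ≠ 0) (hy : y ≠ 0) :
    ∃ A : Matrix.SpecialLinearGroup (Fin 2) F, ap A x = y := by
  obtain ⟨A, hA⟩ := exists_ap_e hx
  obtain ⟨B, hB⟩ := exists_ap_e hy
  refine ⟨B * A⁻¹, ?_⟩
  rw [← hA, ap_mul, ap_inv_ap, hB]

theorem ap_up_e (a : F) : ap (up a) ![1, 0] = ![1, 0] := by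
  apply ext2
  · rw [ap_zero']; simp
  · rw [ap_one']; simp

/-- additive maps commuting with `SL₂(F)` are scalars -/
theorem exists_scalar (φ : (Fin 2 → F) → (Fin 2 → F)) (hadd : ∀ x y, φ (x + y) = φ x + φ y)
    (hc : ∀ A : Matrix.SpecialLinearGroup (Fin 2) F, ∀ x, φ (ap A x) = ap A (φ x)) : ∃ c : F, ∀ x, φ x = c • x := by
  have h0 : φ 0 = 0 := by
    have := hadd 0 0
    rw [add_zero] at this
    exact left_eq_add.1 this
  have h1 : (φ ![1, 0]) 1 = 0 := by
    have h2 := hc (up 1) ![1, 0]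
    rw [ap_up_e] at h2
    have h4 := congrFun h2 0
    rw [ap_zero', up_00, up_01, one_mul, one_mul] at h4
    exact left_eq_add.1 h4
  refine ⟨(φ ![1, 0]) 0, fun x => ?_⟩
  by_cases hx : x = 0
  · rw [hx, h0, smul_zero]
  · obtain ⟨A, hA⟩ := exists_ap_e hx
    have h2 := hc A ![1, 0]
    rw [hA] at h2
    have h3 : φ ![1, 0] = (φ ![1, 0]) 0 • ![1, 0] := by
      apply ext2
      · simp
      · rw [h1]; simp
    rw [h2]
    nth_rewrite 1 [h3]
    rw [ap_smul, hA]

/-- additive bijections normalising `SL₂(F)` are semilinear -/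
theorem exists_semi (T T' : (Fin 2 → F) → (Fin 2 → F)) (hadd : ∀ x y, T (x + y) = T x + T y)
    (h1 : ∀ x, T' (T x) = x) (h2 : ∀ x, T (T' x) = x)
    (hn : ∀ A : Matrix.SpecialLinearGroup (Fin 2) F, ∃ B : Matrix.SpecialLinearGroup (Fin 2) F,
      ∀ x, T' (ap A (T x)) = ap B x) :
    ∃ σ : F → F, ∀ (c : F) x, T (c • x) = σ c • T x := by
  have hadd' : ∀ x y, T' (x + y) = T' x + T' y := by
    intro x y
    have h3 := hadd (T' x) (T' y)
    rw [h2, h2] at h3
    rw [← h3, h1]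
  have key : ∀ c : F, ∃ d : F, ∀ x, T (c • T' x) = d • x := by
    intro c
    refine exists_scalar (fun x => T (c • T' x)) ?_ ?_
    · intro x y
      show T (c • T' (x + y)) = _
      rw [hadd', smul_add, hadd]
    · intro A x
      show T (c • T' (ap A x)) = ap A (T (c • T' x))
      obtain ⟨B, hB⟩ := hn A
      have h4 : ∀ y, ap A (T y) = T (ap B y) := fun y => by rw [← hB y, h2]
      have h5 : T' (ap A x) = ap B (T' x) := by
        rw [← hB (T' x), h2]
      rw [h5, h4, ← ap_smul]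
  choose σ hσ using key
  refine ⟨σ, fun c x => ?_⟩
  have := hσ c (T x)
  rwa [h1] at this

/-- a ring automorphism out of a semilinear bijection -/
theorem exists_ringEquiv [Finite F] (T T' : (Fin 2 → F) → (Fin 2 → F)) (hadd : ∀ x y, T (x + y) = T x + T y)
    (h1 : ∀ x, T' (T x) = x) (σ : F → F) (hσ : ∀ (c : F) x, T (c • x) = σ c • T x) :
    ∃ s : F ≃+* F, ∀ (c : F) x, T (c • x) = s c • T x := by
  have h0 : T 0 = 0 := by
    have := hadd 0 0
    rw [add_zero] at this
    exact left_eq_add.1 this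
  set w : Fin 2 → F := ![1, 0] with hw
  have hw0 : w ≠ 0 := by
    intro h
    have := congrFun h 0
    simp [hw] at this
  have hTw : T w ≠ 0 := by
    intro h
    apply hw0
    have h2 := h1 w
    rw [h] at h2
    have h3 := h1 0
    rw [h0] at h3
    rw [← h2, h3]
  have hcan : ∀ a b : F, a • T w = b • T w → a = b := fun a b h => smul_left_injective F hTw h
  have hone : σ 1 = 1 := by
    apply hcan
    rw [← hσ, one_smul, one_smul]
  have hmul : ∀ a b, σ (a * b) = σ a * σ b := by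
    intro a b
    apply hcan
    rw [← hσ, mul_smul, hσ, hσ, smul_smul]
  have hzero : σ 0 = 0 := by
    apply hcan
    rw [← hσ, zero_smul, zero_smul, h0]
  have hadd2 : ∀ a b, σ (a + b) = σ a + σ b := by
    intro a b
    apply hcan
    rw [← hσ, add_smul, hadd, hσ, hσ, add_smul]
  let f : F →+* F := { toFun := σ, map_one' := hone, map_mul' := hmul, map_zero' := hzero, map_add' := hadd2 }
  have hbij : Function.Bijective f := Finite.injective_iff_bijective.1 f.injective
  exact ⟨RingEquiv.ofBijective f hbij, fun c x => hσ c x⟩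

/-- a finite field has fewer automorphisms than elements -/
theorem card_ringAut_lt (F : Type*) [Field F] [Finite F] : Nat.card (F ≃+* F) < Nat.card F := by
  have : Fintype F := Fintype.ofFinite F
  obtain ⟨p, hp⟩ := CharP.exists F
  obtain ⟨n, hpp, hn⟩ := FiniteField.card F p
  have : Fact p.Prime := ⟨hpp⟩
  rw [Lib.FieldAutCard.card_ringAut (p := p) (f := n) n.pos hn, Nat.card_eq_fintype_card, hn]
  exact Nat.lt_pow_self hpp.one_lt

/-- a linear map of order two in characteristic two with a fixed vector is a transvection in `SL₂(F)` -/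
theorem exists_of_fix {x : Fin 2 → F} (hx : x ≠ 0) (T : (Fin 2 → F) → (Fin 2 → F)) (hadd : ∀ y z, T (y + z) = T y + T z)
    (hsm : ∀ (c : F) y, T (c • y) = c • T y) (hfix : T x = x) (hq : ∀ y, ∃ c : F, T y - y = c • x) :
    ∃ A : Matrix.SpecialLinearGroup (Fin 2) F, ∀ y, T y = ap A y := by
  obtain ⟨B, hB⟩ := exists_ap_e hx
  set w : Fin 2 → F := ap B ![0, 1] with hw
  obtain ⟨c, hc⟩ := hq w
  refine ⟨B * up c * B⁻¹, fun y => ?_⟩
  obtain ⟨z, hz⟩ : ∃ z, ap B z = y := ⟨ap B⁻¹ y, ap_ap_inv B y⟩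
  have hz2 : z = z 0 • ![1, 0] + z 1 • ![0, 1] := by
    apply ext2 <;> simp
  rw [ap_mul, ap_mul, ← hz, ap_inv_ap]
  nth_rewrite 1 [hz2]
  rw [ap_add, ap_smul, ap_smul, hB, ← hw, hadd, hsm, hsm, hfix]
  have h1 : T w = w + c • x := by rw [← hc]; abel
  have h2 : ap (up c) z = (z 0 + c * z 1) • ![1, 0] + z 1 • ![0, 1] := by
    apply ext2
    · rw [ap_zero']; simp
    · rw [ap_one']; simp
  rw [h1, h2, ap_add, ap_smul, ap_smul, hB, ← hw]
  rw [smul_add, add_smul, smul_smul, mul_comm (z 1) c]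
  abel

end Cfsg.Agent.Omega.NatPair
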