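import Cfsg.Agent.Omega.NatPair.Semi

/-!
# Natural `SL₂(q)`-modules as subgroups of a group, and their quadratic offenders

`NatMod F V`: the subgroup `V` of `G` is identified with `F²` in such a way that `N_G(V)/C_G(V)` has the normal subgroup
`SL₂(F)`.

`NatMod.quad_ff`: `A ≤ N_G(V)`, `[V, A] ≠ 1`, `[V, A, A] = 1` and `|V / C_V(A)| ≤ |A / C_A(V)|` imply that `A` induces a
full Sylow 2-subgroup of `SL₂(F)` on `V` (structure `Quad`).
-/

set_option autoImplicit false
set_option linter.unusedSectionVars false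

namespace Cfsg.Agent.Omega.NatPair

open Subgroup Cfsg.Agent.Lib.SL2Mat

variable {G : Type*} [Group G]

/-- `V` is the natural module `F²` for a normal subgroup `SL₂(F)` of `N_G(V) / C_G(V)` -/
structure NatMod (F : Type*) [Field F] (V : Subgroup G) where
  e : (Fin 2 → F) → G
  e_add : ∀ x y, e (x + y) = e x * e y
  e_inj : Function.Injective e
  mem_iff : ∀ g, g ∈ V ↔ ∃ x, e x = g
  lift : ∀ A : Matrix.SpecialLinearGroup (Fin 2) F, ∃ g, ∀ x, g * e x * g⁻¹ = e (ap A x)
  norm : ∀ g ∈ normalizer (V : Set G), ∀ (h : G) (A : Matrix.SpecialLinearGroup (Fin 2) F),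
    (∀ x, h * e x * h⁻¹ = e (ap A x)) → ∃ B : Matrix.SpecialLinearGroup (Fin 2) F,
      ∀ x, g * h * g⁻¹ * e x * (g * h * g⁻¹)⁻¹ = e (ap B x)

namespace NatMod

variable {F : Type*} [Field F] {V : Subgroup G} (M : NatMod F V)

/-- `h` acts as `A` on `V` -/
def Ind (h : G) (A : Matrix.SpecialLinearGroup (Fin 2) F) : Prop := ∀ x, h * M.e x * h⁻¹ = M.e (ap A x)

theorem e_zero : M.e 0 = 1 := by
  have := M.e_add 0 0
  rw [add_zero] at this
  exact left_eq_mul.1 this

theorem e_neg (x : Fin 2 → F) : M.e (-x) = (M.e x)⁻¹ := by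
  rw [eq_inv_iff_mul_eq_one, ← M.e_add, neg_add_cancel, M.e_zero]

theorem e_sub (x y : Fin 2 → F) : M.e (x - y) = M.e x * (M.e y)⁻¹ := by
  rw [sub_eq_add_neg, M.e_add, M.e_neg]

theorem e_eq_one {x : Fin 2 → F} : M.e x = 1 ↔ x = 0 := by
  rw [← M.e_zero]
  exact M.e_inj.eq_iff

theorem e_mem (x : Fin 2 → F) : M.e x ∈ V := (M.mem_iff _).2 ⟨x, rfl⟩

include M in
theorem comm {v w : G} (hv : v ∈ V) (hw : w ∈ V) : v * w = w * v := by
  obtain ⟨x, rfl⟩ := (M.mem_iff v).1 hv
  obtain ⟨y, rfl⟩ := (M.mem_iff w).1 hw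
  rw [← M.e_add, ← M.e_add, add_comm]

include M in
theorem sq [CharP F 2] {v : G} (hv : v ∈ V) : v * v = 1 := by
  obtain ⟨x, rfl⟩ := (M.mem_iff v).1 hv
  rw [← M.e_add, show x + x = 0 from funext fun i => CharTwo.add_self_eq_zero (x i), M.e_zero]

include M in
theorem card_V : Nat.card V = Nat.card F ^ 2 := by
  have h1 : Nat.card (Fin 2 → F) = Nat.card V := by
    refine Nat.card_congr (Equiv.ofBijective (fun x => ⟨M.e x, M.e_mem x⟩) ⟨?_, ?_⟩)
    · intro x y h
      exact M.e_inj (congrArg Subtype.val h)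
    · rintro ⟨v, hv⟩
      obtain ⟨x, rfl⟩ := (M.mem_iff v).1 hv
      exact ⟨x, rfl⟩
  rw [← h1]
  simp [Nat.card_fun]

/-- the action of `g ∈ N_G(V)` on `F²` -/
noncomputable def act (g : G) (x : Fin 2 → F) : Fin 2 → F :=
  open Classical in if h : ∃ y, M.e y = g * M.e x * g⁻¹ then h.choose else x

theorem e_act {g : G} (hg : g ∈ normalizer (V : Set G)) (x : Fin 2 → F) : M.e (M.act g x) = g * M.e x * g⁻¹ := by
  have h : ∃ y, M.e y = g * M.e x * g⁻¹ := (M.mem_iff _).1 ((mem_normalizer_iff.1 hg _).1 (M.e_mem x))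
  rw [act, dif_pos h]
  exact h.choose_spec

theorem act_add {g : G} (hg : g ∈ normalizer (V : Set G)) (x y : Fin 2 → F) :
    M.act g (x + y) = M.act g x + M.act g y := by
  apply M.e_inj
  rw [M.e_add, M.e_act hg, M.e_act hg, M.e_act hg, M.e_add]; group

theorem act_mul {g h : G} (hg : g ∈ normalizer (V : Set G)) (hh : h ∈ normalizer (V : Set G)) (x : Fin 2 → F) :
    M.act (g * h) x = M.act g (M.act h x) := by
  apply M.e_inj
  rw [M.e_act hg, M.e_act hh, M.e_act (mul_mem hg hh)]; group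

theorem act_one (x : Fin 2 → F) : M.act 1 x = x := by
  apply M.e_inj
  rw [M.e_act (one_mem _)]; group

theorem act_inv_act {g : G} (hg : g ∈ normalizer (V : Set G)) (x : Fin 2 → F) : M.act g⁻¹ (M.act g x) = x := by
  rw [← M.act_mul (inv_mem hg) hg, inv_mul_cancel, M.act_one]

theorem act_act_inv {g : G} (hg : g ∈ normalizer (V : Set G)) (x : Fin 2 → F) : M.act g (M.act g⁻¹ x) = x := by
  rw [← M.act_mul hg (inv_mem hg), mul_inv_cancel, M.act_one]

theorem act_sub {g : G} (hg : g ∈ normalizer (V : Set G)) (x y : Fin 2 → F) :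
    M.act g (x - y) = M.act g x - M.act g y := by
  have := M.act_add hg (x - y) y
  rw [sub_add_cancel] at this
  rw [this, add_sub_cancel_right]

theorem mem_normalizer {h : G} {A : Matrix.SpecialLinearGroup (Fin 2) F} (hA : M.Ind h A) :
    h ∈ normalizer (V : Set G) := by
  rw [mem_normalizer_iff]
  intro n
  constructor
  · intro hn
    obtain ⟨x, rfl⟩ := (M.mem_iff n).1 hn
    rw [hA]; exact M.e_mem _
  · intro hn
    obtain ⟨x, hx⟩ := (M.mem_iff _).1 hn
    refine (M.mem_iff n).2 ⟨ap A⁻¹ x, ?_⟩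
    have h1 := hA (ap A⁻¹ x)
    rw [ap_ap_inv, hx] at h1
    have h2 : h⁻¹ * (h * M.e (ap A⁻¹ x) * h⁻¹) * h = h⁻¹ * (h * n * h⁻¹) * h := by rw [h1]
    simpa [mul_assoc] using h2

theorem act_of_ind {h : G} {A : Matrix.SpecialLinearGroup (Fin 2) F} (hA : M.Ind h A) (x : Fin 2 → F) :
    M.act h x = ap A x := by
  apply M.e_inj
  rw [M.e_act (M.mem_normalizer hA), hA]

theorem ind_of_act {h : G} (hh : h ∈ normalizer (V : Set G)) {A : Matrix.SpecialLinearGroup (Fin 2) F}
    (hA : ∀ x, M.act h x = ap A x) : M.Ind h A := fun x => by rw [← M.e_act hh, hA]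

/-- the elements of `N_G(V)` act semilinearly -/
theorem exists_semi [Finite F] {g : G} (hg : g ∈ normalizer (V : Set G)) :
    ∃ s : F ≃+* F, ∀ (c : F) x, M.act g (c • x) = s c • M.act g x := by
  obtain ⟨σ, hσ⟩ := NatPair.exists_semi (M.act g) (M.act g⁻¹) (M.act_add hg) (M.act_inv_act hg) (M.act_act_inv hg)
    (by
      intro A
      obtain ⟨h, hA⟩ := M.lift A
      obtain ⟨B, hB⟩ := M.norm g⁻¹ (inv_mem hg) h A hA
      refine ⟨B, fun x => ?_⟩
      have h1 : h ∈ normalizer (V : Set G) := M.mem_normalizer hA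
      have h2 : M.Ind (g⁻¹ * h * g⁻¹⁻¹) B := hB
      rw [← M.act_of_ind h2, inv_inv, M.act_mul (mul_mem (inv_mem hg) h1) hg, M.act_mul (inv_mem hg) h1,
        M.act_of_ind hA])
  exact exists_ringEquiv (M.act g) (M.act g⁻¹) (M.act_add hg) (M.act_inv_act hg) σ hσ

/-- the field automorphism of `g` -/
noncomputable def sg [Finite F] (g : normalizer (V : Set G)) : F ≃+* F := (M.exists_semi g.2).choose

theorem sg_spec [Finite F] (g : normalizer (V : Set G)) (c : F) (x : Fin 2 → F) :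
    M.act g (c • x) = M.sg g c • M.act g x := (M.exists_semi g.2).choose_spec c x

theorem act_ne_zero {g : G} (hg : g ∈ normalizer (V : Set G)) {x : Fin 2 → F} (hx : x ≠ 0) : M.act g x ≠ 0 := by
  intro h
  apply hx
  have h1 := M.act_inv_act hg x
  rw [h] at h1
  rw [← h1]
  apply M.e_inj
  rw [M.e_act (inv_mem hg), M.e_zero]; group

theorem sg_eq [Finite F] {g : normalizer (V : Set G)} {s : F ≃+* F}
    (h : ∀ (c : F) x, M.act g (c • x) = s c • M.act g x) : M.sg g = s := by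
  ext c
  have hw : (![1, 0] : Fin 2 → F) ≠ 0 := by
    intro h
    have := congrFun h 0
    simp at this
  have h1 := M.sg_spec g c ![1, 0]
  rw [h] at h1
  exact (smul_left_injective F (M.act_ne_zero g.2 hw) h1).symm

/-- the homomorphism `N_G(V) → Aut F` -/
noncomputable def sgHom [Finite F] : normalizer (V : Set G) →* RingAut F where
  toFun := M.sg
  map_one' := by
    apply M.sg_eq
    intro c x
    show M.act 1 (c • x) = c • M.act 1 x
    rw [M.act_one, M.act_one]
  map_mul' g h := by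
    apply M.sg_eq
    intro c x
    show M.act ((g : G) * h) (c • x) = M.sg g (M.sg h c) • M.act ((g : G) * h) x
    rw [M.act_mul g.2 h.2, M.act_mul g.2 h.2, M.sg_spec, M.sg_spec]

/-- the line of the vector `w` -/
def line (w : Fin 2 → F) : Subgroup G where
  carrier := {g | ∃ c : F, M.e (c • w) = g}
  mul_mem' := by
    rintro _ _ ⟨c, rfl⟩ ⟨d, rfl⟩
    exact ⟨c + d, by rw [add_smul, M.e_add]⟩
  one_mem' := ⟨0, by rw [zero_smul, M.e_zero]⟩
  inv_mem' := by
    rintro _ ⟨c, rfl⟩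
    exact ⟨-c, by rw [neg_smul, M.e_neg]⟩

theorem mem_line {w : Fin 2 → F} {g : G} : g ∈ M.line w ↔ ∃ c : F, M.e (c • w) = g := Iff.rfl

theorem line_le (w : Fin 2 → F) : M.line w ≤ V := by
  rintro _ ⟨c, rfl⟩
  exact M.e_mem _

theorem e_mem_line {w x : Fin 2 → F} : M.e x ∈ M.line w ↔ ∃ c : F, x = c • w := by
  constructor
  · rintro ⟨c, hc⟩
    exact ⟨c, (M.e_inj hc).symm⟩
  · rintro ⟨c, rfl⟩
    exact ⟨c, rfl⟩

theorem card_line {w : Fin 2 → F} (hw : w ≠ 0) : Nat.card (M.line w) = Nat.card F := by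
  refine (Nat.card_congr (Equiv.ofBijective (fun c : F => (⟨M.e (c • w), c, rfl⟩ : M.line w)) ⟨?_, ?_⟩)).symm
  · intro c d h
    exact smul_left_injective F hw (M.e_inj (congrArg Subtype.val h))
  · rintro ⟨_, c, rfl⟩
    exact ⟨c, rfl⟩

theorem commute_e {g : G} (hg : g ∈ normalizer (V : Set G)) {x : Fin 2 → F} :
    g * M.e x = M.e x * g ↔ M.act g x = x := by
  rw [← M.e_inj.eq_iff, M.e_act hg, mul_inv_eq_iff_eq_mul]

end NatMod

/-- the determinant of two vectors -/
def dt {F : Type*} [Field F] (w x : Fin 2 → F) : F := w 0 * x 1 - w 1 * x 0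

theorem dt_add {F : Type*} [Field F] (w x y : Fin 2 → F) : dt w (x + y) = dt w x + dt w y := by
  simp only [dt, Pi.add_apply]; ring

theorem dt_smul {F : Type*} [Field F] (w x : Fin 2 → F) (c : F) : dt w (c • x) = c * dt w x := by
  simp only [dt, Pi.smul_apply, smul_eq_mul]; ring

theorem exists_smul_of_dt {F : Type*} [Field F] {w x : Fin 2 → F} (hw : w ≠ 0) (h : dt w x = 0) : ∃ c : F, x = c • w := by
  unfold dt at h
  by_cases h0 : w 0 = 0
  · have h1 : w 1 ≠ 0 := fun h1 => hw (ext2 h0 h1)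
    refine ⟨x 1 * (w 1)⁻¹, ?_⟩
    have hx : x 0 = 0 := by
      rw [h0, zero_mul, zero_sub, neg_eq_zero] at h
      exact (mul_eq_zero.1 h).resolve_left h1
    apply ext2
    · simp [h0, hx]
    · simp [h1]
  · refine ⟨x 0 * (w 0)⁻¹, ?_⟩
    apply ext2
    · simp [h0]
    · simp only [Pi.smul_apply, smul_eq_mul]
      field_simp
      linear_combination h

theorem exists_comb {F : Type*} [Field F] {w x : Fin 2 → F} (h : dt w x ≠ 0) (y : Fin 2 → F) :
    ∃ a b : F, y = a • w + b • x := by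
  unfold dt at h
  refine ⟨(y 0 * x 1 - y 1 * x 0) / (w 0 * x 1 - w 1 * x 0), (w 0 * y 1 - w 1 * y 0) / (w 0 * x 1 - w 1 * x 0), ?_⟩
  apply ext2
  · simp only [Pi.add_apply, Pi.smul_apply, smul_eq_mul]
    rw [div_mul_eq_mul_div, div_mul_eq_mul_div, ← add_div, eq_div_iff h]
    ring
  · simp only [Pi.add_apply, Pi.smul_apply, smul_eq_mul]
    rw [div_mul_eq_mul_div, div_mul_eq_mul_div, ← add_div, eq_div_iff h]
    ring

/-- a linear map which fixes two independent vectors is trivial -/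
theorem fix_all {F : Type*} [Field F] {w x : Fin 2 → F} (h : dt w x ≠ 0) (T : (Fin 2 → F) → (Fin 2 → F))
    (hadd : ∀ y z, T (y + z) = T y + T z) (hsm : ∀ (c : F) y, T (c • y) = c • T y) (hw : T w = w) (hx : T x = x)
    (y : Fin 2 → F) : T y = y := by
  obtain ⟨a, b, rfl⟩ := exists_comb h y
  rw [hadd, hsm, hsm, hw, hx]

/-- the conclusion on a quadratic offender -/
structure NatMod.Quad {F : Type*} [Field F] {V : Subgroup G} (M : NatMod F V) (A : Subgroup G) (w : Fin 2 → F) :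
    Prop where
  ne : w ≠ 0
  lin : ∀ a ∈ A, ∃ B, ap B w = w ∧ M.Ind a B
  full : ∀ B, ap B w = w → ∃ a ∈ A, M.Ind a B
  cent : centralizer (A : Set G) ⊓ V = M.line w
  card : (centralizer (V : Set G)).relIndex A = Nat.card F
  index : (centralizer (A : Set G)).relIndex V = Nat.card F
  comm : ∀ a ∈ A, ∀ v ∈ V, a * v * a⁻¹ * v⁻¹ ∈ M.line w
  comm' : ∀ r ∈ M.line w, ∃ a ∈ A, ∃ v ∈ V, a * v * a⁻¹ * v⁻¹ = r

end Cfsg.Agent.Omega.NatPair
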