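import Cfsg.Agent.Omega.NatPair.Quad

/-!
# Mutual pairs of natural `SL₂(q)`-modules

* `pair`: `V`, `V'` natural modules (for `F`, `F'`), `V ≤ N(V')`, `V' ≤ N(V)`, `[V, V'] ≠ 1`: `|F| = |F'|` and
  `V ∩ V' = C_V(V') = C_{V'}(V) = [V, V']` is a line of both;
* `exists_conj`: if `V'` is conjugate to `V`, then `V'` is conjugate to `V` in `N_G(V ∩ V')`;
* `le_center_of`, `nonlocal`: `N_G(V)` and `N_G(V ∩ V')` are not contained in a common subgroup `M` with
  `C_M(O₂(M)) ≤ O₂(M)`;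
* `exists_sylow`: `N_G(V) ∩ N_G(R)` contains a Sylow 2-subgroup of `G`, `R` a line of `V`.
-/

set_option autoImplicit false
set_option linter.unusedSectionVars false

namespace Cfsg.Agent.Omega.NatPair

open Subgroup Cfsg.Agent.Lib.SL2Mat

variable {G : Type*} [Group G]

/-- two subgroups which normalise each other and do not commute -/
structure Mutual (V V' : Subgroup G) : Prop where
  le : V' ≤ normalizer (V : Set G)
  le' : V ≤ normalizer (V' : Set G)
  ne : ∃ v ∈ V, ∃ w ∈ V', v * w ≠ w * v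

theorem Mutual.symm {V V' : Subgroup G} (h : Mutual V V') : Mutual V' V where
  le := h.le'
  le' := h.le
  ne := by
    obtain ⟨v, hv, w, hw, hvw⟩ := h.ne
    exact ⟨w, hw, v, hv, fun h => hvw h.symm⟩

theorem Mutual.comm_mem {V V' : Subgroup G} (h : Mutual V V') {a v : G} (ha : a ∈ V') (hv : v ∈ V) :
    a * v * a⁻¹ * v⁻¹ ∈ V ⊓ V' := by
  rw [mem_inf]
  constructor
  · exact mul_mem ((mem_normalizer_iff.1 (h.le ha) v).1 hv) (inv_mem hv)
  · have h1 : v * a⁻¹ * v⁻¹ ∈ V' := (mem_normalizer_iff.1 (h.le' hv) a⁻¹).1 (inv_mem ha)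
    have h2 : a * v * a⁻¹ * v⁻¹ = a * (v * a⁻¹ * v⁻¹) := by group
    rw [h2]
    exact mul_mem ha h1

section pair

variable {F F' : Type*} [Field F] [Field F'] {V V' : Subgroup G} (M : NatMod F V) (M' : NatMod F' V')

include M' in
theorem Mutual.quad (h : Mutual V V') : ∀ a ∈ V', ∀ b ∈ V', ∀ v ∈ V,
    b * (a * v * a⁻¹ * v⁻¹) = (a * v * a⁻¹ * v⁻¹) * b := fun _ ha _ hb _ hv =>
  M'.comm hb (mem_inf.1 (h.comm_mem ha hv)).2

theorem Mutual.ne_of {V V' : Subgroup G} (h : Mutual V V') : ∃ a ∈ V', ∃ v ∈ V, a * v ≠ v * a := by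
  obtain ⟨v, hv, w, hw, hvw⟩ := h.ne
  exact ⟨w, hw, v, hv, fun h => hvw h.symm⟩

theorem pair_aux [Finite G] [Finite F] [Finite F'] [CharP F 2] [CharP F' 2] (h : Mutual V V')
    (hle : (centralizer (V' : Set G)).relIndex V ≤ (centralizer (V : Set G)).relIndex V') :
    ∃ w w', M.Quad V' w ∧ M'.Quad V w' := by
  obtain ⟨w, hw⟩ := M.quad_ff h.le h.ne_of (h.quad M') hle
  obtain ⟨w', hw'⟩ := M'.quad_ff h.le' h.symm.ne_of (h.symm.quad M) (by rw [hw.card, hw.index])
  exact ⟨w, w', hw, hw'⟩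

theorem pair_aux' [Finite G] [Finite F] [Finite F'] [CharP F 2] [CharP F' 2] (h : Mutual V V') :
    ∃ w w', M.Quad V' w ∧ M'.Quad V w' := by
  rcases le_total ((centralizer (V' : Set G)).relIndex V) ((centralizer (V : Set G)).relIndex V') with hle | hle
  · exact pair_aux M M' h hle
  · obtain ⟨w', w, h1, h2⟩ := pair_aux M' M h.symm hle
    exact ⟨w, w', h2, h1⟩

/-- **mutual pairs of natural modules** -/
theorem pair [Finite G] [Finite F] [Finite F'] [CharP F 2] [CharP F' 2] (h : Mutual V V') :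
    Nat.card F = Nat.card F' ∧ ∃ w w', M.Quad V' w ∧ M'.Quad V w' ∧ V ⊓ V' = M.line w ∧ V ⊓ V' = M'.line w' := by
  obtain ⟨w, w', hw, hw'⟩ := pair_aux' M M' h
  refine ⟨by rw [← hw.card, hw'.index], w, w', hw, hw', ?_, ?_⟩
  · apply le_antisymm
    · rw [← hw.cent]
      intro g hg
      rw [mem_inf] at hg ⊢
      exact ⟨mem_centralizer_iff.2 fun v hv => M'.comm hv hg.2, hg.1⟩
    · intro r hr
      obtain ⟨a, ha, v, hv, rfl⟩ := hw.comm' r hr
      exact h.comm_mem ha hv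
  · apply le_antisymm
    · rw [← hw'.cent]
      intro g hg
      rw [mem_inf] at hg ⊢
      exact ⟨mem_centralizer_iff.2 fun v hv => M.comm hv hg.1, hg.2⟩
    · intro r hr
      obtain ⟨a, ha, v, hv, rfl⟩ := hw'.comm' r hr
      have := h.symm.comm_mem ha hv
      rwa [inf_comm]

end pair

section conj

variable {F : Type*} [Field F] {V : Subgroup G} (M : NatMod F V)

/-- the conjugate of a subgroup -/
abbrev cj (g : G) (V : Subgroup G) : Subgroup G := V.map (MulAut.conj g).toMonoidHom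

theorem mem_cj {g x : G} {V : Subgroup G} : x ∈ cj g V ↔ g⁻¹ * x * g ∈ V := by
  rw [cj, Subgroup.mem_map]
  constructor
  · rintro ⟨y, hy, rfl⟩
    have : g⁻¹ * (MulAut.conj g y) * g = y := by rw [MulAut.conj_apply]; group
    show g⁻¹ * (MulAut.conj g y) * g ∈ V
    rwa [this]
  · intro h
    refine ⟨_, h, ?_⟩
    show MulAut.conj g (g⁻¹ * x * g) = x
    rw [MulAut.conj_apply]; group

theorem cj_mul (g h : G) (V : Subgroup G) : cj (g * h) V = cj g (cj h V) := by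
  ext x
  rw [mem_cj, mem_cj, mem_cj]
  have : (g * h)⁻¹ * x * (g * h) = h⁻¹ * (g⁻¹ * x * g) * h := by group
  rw [this]

theorem cj_one (V : Subgroup G) : cj 1 V = V := by
  ext x
  rw [mem_cj]
  simp

theorem cj_eq_iff {g : G} {V : Subgroup G} : cj g V = V ↔ g ∈ normalizer (V : Set G) := by
  rw [mem_normalizer_iff]
  constructor
  · intro h x
    have h1 : g * x * g⁻¹ ∈ cj g V ↔ x ∈ V := by
      rw [mem_cj]
      have : g⁻¹ * (g * x * g⁻¹) * g = x := by group
      rw [this]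
    rw [h] at h1
    exact h1.symm
  · intro h
    ext x
    rw [mem_cj, h]
    have : g * (g⁻¹ * x * g) * g⁻¹ = x := by group
    rw [this]

theorem mem_normalizer_cj {g x : G} {V : Subgroup G} :
    x ∈ normalizer ((cj g V : Subgroup G) : Set G) ↔ g⁻¹ * x * g ∈ normalizer (V : Set G) := by
  rw [← cj_eq_iff, ← cj_eq_iff, ← cj_mul]
  constructor
  · intro h
    have h1 : cj (g⁻¹ * x * g) V = cj g⁻¹ (cj (x * g) V) := by rw [← cj_mul]; congr 1; group
    rw [h1, h, ← cj_mul, inv_mul_cancel, cj_one]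
  · intro h
    have h1 : cj (x * g) V = cj g (cj (g⁻¹ * x * g) V) := by rw [← cj_mul]; congr 1; group
    rw [h1, h]

/-- the conjugate of a natural module -/
def NatMod.conj (g : G) : NatMod F (cj g V) where
  e x := g * M.e x * g⁻¹
  e_add x y := by rw [M.e_add]; group
  e_inj x y h := M.e_inj (mul_left_cancel (mul_right_cancel h))
  mem_iff x := by
    rw [mem_cj, M.mem_iff]
    constructor
    · rintro ⟨y, hy⟩
      exact ⟨y, by rw [hy]; group⟩
    · rintro ⟨y, hy⟩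
      exact ⟨y, by rw [← hy]; group⟩
  lift A := by
    obtain ⟨h, hA⟩ := M.lift A
    refine ⟨g * h * g⁻¹, fun x => ?_⟩
    rw [← hA x]; group
  norm x hx h A hA := by
    rw [mem_normalizer_cj] at hx
    obtain ⟨B, hB⟩ := M.norm _ hx (g⁻¹ * h * g) A (by
      intro y
      have h1 : g⁻¹ * h * g * M.e y * (g⁻¹ * h * g)⁻¹ = g⁻¹ * (h * (g * M.e y * g⁻¹) * h⁻¹) * g := by group
      rw [h1, hA]; group)
    refine ⟨B, fun y => ?_⟩
    rw [← hB y]; group

theorem NatMod.conj_line (g : G) (w : Fin 2 → F) : (M.conj g).line w = cj g (M.line w) := by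
  ext x
  rw [NatMod.mem_line, mem_cj, NatMod.mem_line]
  constructor
  · rintro ⟨c, hc⟩
    refine ⟨c, ?_⟩
    rw [← hc]
    show _ = g⁻¹ * (g * M.e (c • w) * g⁻¹) * g
    group
  · rintro ⟨c, hc⟩
    refine ⟨c, ?_⟩
    show g * M.e (c • w) * g⁻¹ = x
    rw [hc]; group

theorem NatMod.cj_line_of_ind {h : G} {A : Matrix.SpecialLinearGroup (Fin 2) F} (hA : M.Ind h A) (w : Fin 2 → F) :
    cj h (M.line w) = M.line (ap A w) := by
  ext x
  rw [mem_cj, NatMod.mem_line, NatMod.mem_line]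
  constructor
  · rintro ⟨c, hc⟩
    refine ⟨c, ?_⟩
    rw [← ap_smul, ← hA, hc]; group
  · rintro ⟨c, hc⟩
    refine ⟨c, ?_⟩
    rw [← ap_smul, ← hA] at hc
    rw [← hc]; group

include M in
/-- `V` and `V' = gVg⁻¹` are conjugate in `N_G(V ∩ V')` -/
theorem exists_conj [Finite G] [Finite F] [CharP F 2] {g : G} (h : Mutual V (cj g V)) :
    ∃ x ∈ normalizer ((V ⊓ cj g V : Subgroup G) : Set G), cj x V = cj g V := by
  obtain ⟨-, w, w', hw, hw', hl, hl'⟩ := pair M (M.conj g) h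
  obtain ⟨A, hA⟩ := exists_ap hw.ne hw'.ne
  obtain ⟨l, hlA⟩ := M.lift A
  have h1 : cj l (M.line w) = M.line w' := by rw [M.cj_line_of_ind hlA, hA]
  refine ⟨g * l, ?_, ?_⟩
  · rw [← cj_eq_iff]
    nth_rewrite 1 [hl]
    rw [cj_mul, h1, ← M.conj_line, ← hl']
  · rw [cj_mul, cj_eq_iff.2 (M.mem_normalizer hlA)]

include M in
/-- `N_G(V)` is transitive on the nontrivial elements of `V` -/
theorem NatMod.trans {v v' : G} (hv : v ∈ V) (hv1 : v ≠ 1) (hv' : v' ∈ V) (hv'1 : v' ≠ 1) :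
    ∃ l ∈ normalizer (V : Set G), l * v * l⁻¹ = v' := by
  obtain ⟨x, rfl⟩ := (M.mem_iff v).1 hv
  obtain ⟨y, rfl⟩ := (M.mem_iff v').1 hv'
  obtain ⟨A, hA⟩ := exists_ap (x := x) (y := y) (fun h => hv1 (by rw [h, M.e_zero])) (fun h => hv'1 (by rw [h, M.e_zero]))
  obtain ⟨l, hl⟩ := M.lift A
  exact ⟨l, M.mem_normalizer hl, by rw [hl, hA]⟩

include M in
/-- if `N_G(V) ≤ K`, `Q` a normal 2-subgroup of `K` with `C_K(Q) ≤ Q`, then `V ≤ Z(Q)` -/
theorem NatMod.le_center_of [Finite G] [Finite F] [CharP F 2] (S : Sylow 2 G) (hS : (S : Subgroup G) ≤ normalizer (V : Set G))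
    (hZ : ∀ z ∈ S, z * z = 1 → (∀ s ∈ S, s * z = z * s) → z ∈ V) {K Q : Subgroup G} (hVK : normalizer (V : Set G) ≤ K)
    (hQK : Q ≤ K) (hQ : IsPGroup 2 Q) (hQn : K ≤ normalizer (Q : Set G)) (hQc : ∀ x ∈ K, (∀ q ∈ Q, q * x = x * q) → x ∈ Q) :
    ∀ v ∈ V, v ∈ Q ∧ ∀ q ∈ Q, q * v = v * q := by
  have : Fact (Nat.Prime 2) := ⟨Nat.prime_two⟩
  -- `Q ≤ S`
  have hQS : Q ≤ (S : Subgroup G) := by
    have hSQ : (S : Subgroup G) ≤ normalizer (Q : Set G) := (hS.trans hVK).trans hQn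
    have h1 : IsPGroup 2 ((S : Subgroup G) ⊔ Q : Subgroup G) := S.isPGroup'.to_sup_of_normal_right' hQ hSQ
    have h2 := S.is_maximal' h1 le_sup_left
    rw [← h2]
    exact le_sup_right
  -- a central involution of `S`
  have hVne : Nontrivial V := by
    have h1 : (1 : ℕ) < Nat.card V := by
      rw [M.card_V]
      exact Nat.one_lt_pow (by norm_num) Finite.one_lt_card
    exact Finite.one_lt_card_iff_nontrivial.1 h1
  have hSne : Nontrivial S := by
    have h2V : IsPGroup 2 V := fun v => ⟨1, by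
      rw [pow_one, pow_two]; exact Subtype.ext (M.sq v.2)⟩
    obtain ⟨P, hP⟩ := h2V.exists_le_sylow
    have h1 : Nat.card S = Nat.card P := Nat.card_congr (Sylow.equiv S P).toEquiv
    rw [← Finite.one_lt_card_iff_nontrivial, h1]
    exact lt_of_lt_of_le (Finite.one_lt_card_iff_nontrivial.2 hVne)
      (Nat.card_le_card_of_injective _ (inclusion_injective hP))
  obtain ⟨z, hzS, hz2, hzc, hz1⟩ : ∃ z ∈ (S : Subgroup G), z * z = 1 ∧ (∀ s ∈ S, s * z = z * s) ∧ z ≠ 1 := by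
    have h1 : Nontrivial (center S) := S.isPGroup'.center_nontrivial
    have h2 : 2 ∣ Nat.card (center S) := by
      obtain ⟨n, hn⟩ := IsPGroup.iff_card.1 (S.isPGroup'.to_subgroup (center S))
      rw [hn]
      have : n ≠ 0 := by
        rintro rfl
        rw [pow_zero] at hn
        exact absurd (Finite.one_lt_card_iff_nontrivial.2 h1) (by rw [hn]; norm_num)
      exact dvd_pow_self 2 this
    obtain ⟨z, hz⟩ := exists_prime_orderOf_dvd_card' 2 h2
    have hz2 : z * z = 1 := by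
      have h3 := pow_orderOf_eq_one z
      rwa [hz, pow_two] at h3
    refine ⟨((z : S) : G), (z : S).2, ?_, ?_, ?_⟩
    · exact congrArg (fun t : center S => ((t : S) : G)) hz2
    · intro s hs
      exact congrArg Subtype.val (mem_center_iff.1 z.2 ⟨s, hs⟩)
    · intro h
      have : z = 1 := Subtype.ext (Subtype.ext h)
      rw [this, orderOf_one] at hz
      norm_num at hz
  have hzV : z ∈ V := hZ z hzS hz2 hzc
  have hzQ : z ∈ Q := hQc z (hVK (hS hzS)) fun q hq => hzc q (hQS hq)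
  intro v hv
  by_cases hv1 : v = 1
  · rw [hv1]
    exact ⟨one_mem _, fun q _ => by rw [mul_one, one_mul]⟩
  · obtain ⟨l, hl, rfl⟩ := M.trans hzV hz1 hv hv1
    have hlQ := hQn (hVK hl)
    refine ⟨(mem_normalizer_iff.1 hlQ z).1 hzQ, fun q hq => ?_⟩
    have h1 : l⁻¹ * q * l ∈ Q := by
      have := (mem_normalizer_iff.1 (inv_mem hlQ) q).1 hq
      rwa [inv_inv] at this
    have h2 := hzc _ (hQS h1)
    calc q * (l * z * l⁻¹) = l * (l⁻¹ * q * l * z) * l⁻¹ := by group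
      _ = l * (z * (l⁻¹ * q * l)) * l⁻¹ := by rw [h2]
      _ = l * z * l⁻¹ * q := by group

include M in
/-- **Lemma R**: `⟨N_G(V), N_G(V ∩ V')⟩` is not contained in a subgroup of characteristic 2 -/
theorem nonlocal [Finite G] [Finite F] [CharP F 2] (S : Sylow 2 G) (hS : (S : Subgroup G) ≤ normalizer (V : Set G))
    (hZ : ∀ z ∈ S, z * z = 1 → (∀ s ∈ S, s * z = z * s) → z ∈ V) {g : G} (h : Mutual V (cj g V)) {K Q : Subgroup G}
    (hVK : normalizer (V : Set G) ≤ K) (hRK : normalizer ((V ⊓ cj g V : Subgroup G) : Set G) ≤ K)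
    (hQK : Q ≤ K) (hQ : IsPGroup 2 Q) (hQn : K ≤ normalizer (Q : Set G))
    (hQc : ∀ x ∈ K, (∀ q ∈ Q, q * x = x * q) → x ∈ Q) : False := by
  have h1 := M.le_center_of S hS hZ hVK hQK hQ hQn hQc
  obtain ⟨x, hx, hxV⟩ := exists_conj M h
  obtain ⟨v, hv, w, hw, hvw⟩ := h.ne
  apply hvw
  refine ((h1 v hv).2 w ?_).symm
  rw [← hxV, mem_cj] at hw
  have h2 := (h1 _ hw).1
  have h3 := (mem_normalizer_iff.1 (hQn (hRK hx)) _).1 h2
  have h4 : x * (x⁻¹ * w * x) * x⁻¹ = w := by group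
  rwa [h4] at h3

end conj

end Cfsg.Agent.Omega.NatPair
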