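import Cfsg.Agent.Omega.NatPair.Pair

/-!
# Natural `SL₂(q)`-modules: Sylow subgroups, and 2-groups normalised by a torus

* `NatMod.exists_sylow`: a line of `V` is normalised by a Sylow 2-subgroup of `G` inside `N_G(V)`;
* `NatMod.full_of_sylow`: a Sylow 2-subgroup of `G` inside `N_G(V) ∩ N_G(R)`, `R` a line, induces all the transvections with
  axis `R`; so `C_V(S) ≤ R` (`NatMod.cent_le_of_sylow`);
* `NatMod.lin_of_torus`: a 2-subgroup `Q` of `N_G(V) ∩ N_G(R)` normalised by `N_G(V) ∩ N_G(R)` induces transvections with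
  axis `R` only (no field automorphisms).
-/

set_option autoImplicit false
set_option linter.unusedSectionVars false

namespace Cfsg.Agent.Omega.NatPair

open Subgroup Cfsg.Agent.Lib.SL2Mat

variable {G : Type*} [Group G]

namespace NatMod

variable {F : Type*} [Field F] {V : Subgroup G} (M : NatMod F V)

/-- the image of a line -/
theorem cj_line [Finite F] {g : G} (hg : g ∈ normalizer (V : Set G)) (w : Fin 2 → F) :
    cj g (M.line w) = M.line (M.act g w) := by
  obtain ⟨s, hs⟩ := M.exists_semi hg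
  ext x
  rw [mem_cj, mem_line, mem_line]
  constructor
  · rintro ⟨c, hc⟩
    refine ⟨s c, ?_⟩
    rw [← hs, M.e_act hg, hc]; group
  · rintro ⟨c, hc⟩
    refine ⟨s.symm c, ?_⟩
    have h1 : M.act g (s.symm c • w) = c • M.act g w := by rw [hs, RingEquiv.apply_symm_apply]
    have h2 := M.e_act hg (s.symm c • w)
    rw [h1, hc] at h2
    rw [h2]; group

theorem line_smul {w : Fin 2 → F} {c : F} (hc : c ≠ 0) : M.line (c • w) = M.line w := by
  ext x
  rw [mem_line, mem_line]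
  constructor
  · rintro ⟨d, hd⟩
    exact ⟨d * c, by rw [mul_smul]; exact hd⟩
  · rintro ⟨d, hd⟩
    refine ⟨d * c⁻¹, ?_⟩
    rw [smul_smul, mul_assoc, inv_mul_cancel₀ hc, mul_one]
    exact hd

theorem line_eq_iff {w w' : Fin 2 → F} (hw' : w' ≠ 0) : M.line w' = M.line w ↔ ∃ c : F, w' = c • w := by
  constructor
  · intro h
    have h1 : M.e w' ∈ M.line w' := M.e_mem_line.2 ⟨1, (one_smul _ _).symm⟩
    rw [h, M.e_mem_line] at h1
    exact h1
  · rintro ⟨c, rfl⟩
    refine M.line_smul ?_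
    rintro rfl
    exact hw' (zero_smul _ _)

/-- a line of `V` is normalised by a Sylow 2-subgroup of `G` inside `N_G(V)` -/
theorem exists_sylow [Finite G] [Finite F] [CharP F 2] (S : Sylow 2 G) (hS : (S : Subgroup G) ≤ normalizer (V : Set G))
    {w : Fin 2 → F} (hw : w ≠ 0) :
    ∃ S₁ : Sylow 2 G, (S₁ : Subgroup G) ≤ normalizer (V : Set G) ∧
      (S₁ : Subgroup G) ≤ normalizer ((M.line w : Subgroup G) : Set G) := by
  have : Fact (Nat.Prime 2) := ⟨Nat.prime_two⟩
  -- a fixed vector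
  let _ : MulAction S (Fin 2 → F) :=
    { smul := fun s x => M.act s x
      one_smul := fun x => M.act_one x
      mul_smul := fun s t x => M.act_mul (hS s.2) (hS t.2) x }
  have hcard : 2 ∣ Nat.card (Fin 2 → F) := by
    have h1 : 2 ∣ Nat.card F := by
      have : Fintype F := Fintype.ofFinite F
      obtain ⟨n, -, hn⟩ := FiniteField.card F 2
      rw [Nat.card_eq_fintype_card, hn]
      exact dvd_pow_self 2 n.pos.ne'
    rw [show Nat.card (Fin 2 → F) = Nat.card F * Nat.card F by simp [Nat.card_fun, pow_two]]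
    exact h1.mul_left _
  obtain ⟨x, hx, hx0⟩ := S.isPGroup'.exists_fixed_point_of_prime_dvd_card_of_fixed_point (Fin 2 → F) hcard (a := 0) (by
    intro s
    show M.act s 0 = 0
    apply M.e_inj
    rw [M.e_act (hS s.2), M.e_zero]; group)
  obtain ⟨A, hA⟩ := exists_ap (x := x) (y := w) (Ne.symm hx0) hw
  obtain ⟨l, hl⟩ := M.lift A
  have hlV := M.mem_normalizer hl
  refine ⟨l • S, ?_, ?_⟩
  · intro s hs
    have h1 : l⁻¹ * s * l ∈ (S : Subgroup G) := by
      have h2 := Subgroup.mem_pointwise_smul_iff_inv_smul_mem.1 hs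
      rw [← map_inv, MulAut.smul_def, MulAut.conj_apply, inv_inv] at h2
      exact h2
    have h2 := mul_mem (mul_mem hlV (hS h1)) (inv_mem hlV)
    have h3 : l * (l⁻¹ * s * l) * l⁻¹ = s := by group
    rwa [h3] at h2
  · intro s hs
    have h1 : l⁻¹ * s * l ∈ (S : Subgroup G) := by
      have h2 := Subgroup.mem_pointwise_smul_iff_inv_smul_mem.1 hs
      rw [← map_inv, MulAut.smul_def, MulAut.conj_apply, inv_inv] at h2
      exact h2
    have h2 : M.act (l⁻¹ * s * l) x = x := hx ⟨_, h1⟩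
    rw [← cj_eq_iff, ← hA, ← M.cj_line_of_ind hl, ← cj_mul]
    have h3 : s * l = l * (l⁻¹ * s * l) := by group
    rw [h3, cj_mul, M.cj_line (hS h1), h2]

/-- an element of `SL₂(F)` fixing a vector is an involution or trivial -/
theorem _root_.Cfsg.Agent.Omega.NatPair.sq_of_fix [CharP F 2] {B : Matrix.SpecialLinearGroup (Fin 2) F} {w : Fin 2 → F}
    (hw : w ≠ 0) (hB : ap B w = w) (x : Fin 2 → F) : ap B (ap B x) = x := by
  have h1 : dt w (ap B x - x) = 0 := by
    have h2 : dt (ap B w) (ap B x) = dt w x := by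
      unfold dt
      rw [ap_zero', ap_zero', ap_one', ap_one']
      linear_combination (w 0 * x 1 - w 1 * x 0) * det_eq B
    rw [hB] at h2
    unfold dt at h2 ⊢
    rw [Pi.sub_apply, Pi.sub_apply]
    linear_combination h2
  obtain ⟨c, hc⟩ := exists_smul_of_dt hw h1
  have h2 : ap B x = x + c • w := by rw [← hc]; abel
  rw [h2, ap_add, ap_smul, hB, h2, add_assoc,
    show c • w + c • w = 0 from funext fun i => CharTwo.add_self_eq_zero ((c • w) i), add_zero]

/-- the group of all elements which induce a transvection with axis `w` -/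
def UW (w : Fin 2 → F) : Subgroup G where
  carrier := {u | ∃ B, ap B w = w ∧ M.Ind u B}
  mul_mem' := by
    rintro a b ⟨A, hA, hA'⟩ ⟨B, hB, hB'⟩
    refine ⟨A * B, by rw [ap_mul, hB, hA], fun x => ?_⟩
    have h1 : a * b * M.e x * (a * b)⁻¹ = a * (b * M.e x * b⁻¹) * a⁻¹ := by group
    rw [h1, hB', hA', ap_mul]
  one_mem' := ⟨1, ap_one w, fun x => by rw [ap_one]; group⟩
  inv_mem' := by
    rintro a ⟨A, hA, hA'⟩
    refine ⟨A⁻¹, ?_, fun x => ?_⟩
    · nth_rewrite 1 [← hA]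
      exact ap_inv_ap A w
    · have h1 := hA' (ap A⁻¹ x)
      rw [ap_ap_inv] at h1
      rw [← h1]; group

theorem UW_le (w : Fin 2 → F) : M.UW w ≤ normalizer (V : Set G) := by
  rintro u ⟨B, -, hB⟩
  exact M.mem_normalizer hB

theorem conj_mem_UW [Finite F] {w : Fin 2 → F} (hw : w ≠ 0) {g u : G} (hg : g ∈ normalizer (V : Set G))
    (hgw : g ∈ normalizer ((M.line w : Subgroup G) : Set G)) (hu : u ∈ M.UW w) : g * u * g⁻¹ ∈ M.UW w := by
  obtain ⟨B, hB, hB'⟩ := hu
  obtain ⟨B', hB''⟩ := M.norm g hg u B hB'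
  have hI : M.Ind (g * u * g⁻¹) B' := hB''
  have huV : u ∈ normalizer (V : Set G) := M.mem_normalizer hB'
  refine ⟨B', ?_, hI⟩
  rw [← cj_eq_iff, M.cj_line hg, M.line_eq_iff (M.act_ne_zero hg hw)] at hgw
  obtain ⟨c, hc⟩ := hgw
  have hc0 : c ≠ 0 := by
    rintro rfl
    rw [zero_smul] at hc
    exact M.act_ne_zero hg hw hc
  have h1 : M.act (g * u * g⁻¹) (M.act g w) = M.act g w := by
    rw [← M.act_mul (M.mem_normalizer hI) hg]
    have h2 : g * u * g⁻¹ * g = g * u := by group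
    rw [h2, M.act_mul hg huV, M.act_of_ind hB', hB]
  rw [M.act_of_ind hI, hc, ap_smul] at h1
  exact smul_right_injective _ hc0 h1

/-- a Sylow 2-subgroup of `G` inside `N_G(V) ∩ N_G(R)` induces all the transvections with axis `R` -/
theorem full_of_sylow [Finite G] [Finite F] [CharP F 2] (S : Sylow 2 G)
    (hS : (S : Subgroup G) ≤ normalizer (V : Set G)) {w : Fin 2 → F} (hw : w ≠ 0)
    (hSw : (S : Subgroup G) ≤ normalizer ((M.line w : Subgroup G) : Set G)) {B : Matrix.SpecialLinearGroup (Fin 2) F}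
    (hB : ap B w = w) : ∃ s ∈ S, M.Ind s B := by
  have : Fact (Nat.Prime 2) := ⟨Nat.prime_two⟩
  set N := normalizer (V : Set G) with hN
  let φ : N →* MulAut V := V.normalizerMonoidHom
  have hφ : ∀ n : N, ∀ v : V, ((φ n v : V) : G) = n * v * (n : G)⁻¹ := fun n v => rfl
  let ψ : N →* φ.range := φ.rangeRestrict
  have hψ : Function.Surjective ψ := φ.rangeRestrict_surjective
  let P : Sylow 2 N := S.subtype hS
  let P' : Sylow 2 φ.range := P.mapSurjective hψ
  let U : Subgroup φ.range := ((M.UW w).subgroupOf N).map ψ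
  have hU2 : IsPGroup 2 U := by
    rintro ⟨_, ⟨n, hn, rfl⟩⟩
    obtain ⟨B, hB, hB'⟩ := mem_subgroupOf.1 hn
    refine ⟨1, ?_⟩
    apply Subtype.ext
    show ψ n ^ (2 ^ 1) = 1
    rw [pow_one, pow_two]
    apply Subtype.ext
    show φ n * φ n = 1
    ext v
    obtain ⟨x, hx⟩ := (M.mem_iff (v : G)).1 v.2
    show (n : G) * ((n : G) * v * (n : G)⁻¹) * (n : G)⁻¹ = v
    rw [← hx, hB', hB', sq_of_fix hw hB]
  have hnorm : (P' : Subgroup φ.range) ≤ normalizer (U : Set φ.range) := by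
    rintro _ ⟨p, hp, rfl⟩
    have hp' : (p : G) ∈ (S : Subgroup G) := mem_subgroupOf.1 hp
    have key : ∀ g : N, (g : G) ∈ normalizer ((M.line w : Subgroup G) : Set G) → ∀ u ∈ U, ψ g * u * (ψ g)⁻¹ ∈ U := by
      rintro g hg _ ⟨n, hn, rfl⟩
      refine ⟨g * n * g⁻¹, ?_, by rw [map_mul, map_mul, map_inv]⟩
      exact mem_subgroupOf.2 (M.conj_mem_UW hw g.2 hg (mem_subgroupOf.1 hn))
    rw [mem_normalizer_iff]
    intro u
    constructor
    · exact key p (hSw hp') u
    · intro h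
      have h1 := key p⁻¹ (inv_mem (hSw hp')) _ h
      rw [map_inv, inv_inv] at h1
      have h2 : (ψ p)⁻¹ * (ψ p * u * (ψ p)⁻¹) * ψ p = u := by group
      rwa [h2] at h1
  have h1 : IsPGroup 2 ((P' : Subgroup φ.range) ⊔ U : Subgroup φ.range) := P'.isPGroup'.to_sup_of_normal_right' hU2 hnorm
  have h2 := P'.is_maximal' h1 le_sup_left
  have hUP : U ≤ (P' : Subgroup φ.range) := by rw [← h2]; exact le_sup_right
  obtain ⟨l, hl⟩ := M.lift B
  have hlN : l ∈ N := M.mem_normalizer hl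
  obtain ⟨p, hp, hpl⟩ := hUP ⟨⟨l, hlN⟩, mem_subgroupOf.2 ⟨B, hB, hl⟩, rfl⟩
  refine ⟨p, mem_subgroupOf.1 hp, fun x => ?_⟩
  have h3 : φ p = φ ⟨l, hlN⟩ := congrArg Subtype.val hpl
  have h4 := congrArg (fun α : MulAut V => ((α ⟨M.e x, M.e_mem x⟩ : V) : G)) h3
  rw [← hl x]
  exact h4

theorem cent_le_of_sylow [Finite G] [Finite F] [CharP F 2] (S : Sylow 2 G)
    (hS : (S : Subgroup G) ≤ normalizer (V : Set G)) {w : Fin 2 → F} (hw : w ≠ 0)
    (hSw : (S : Subgroup G) ≤ normalizer ((M.line w : Subgroup G) : Set G)) :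
    centralizer ((S : Subgroup G) : Set G) ⊓ V ≤ M.line w := by
  intro v hv
  rw [mem_inf] at hv
  obtain ⟨x, rfl⟩ := (M.mem_iff v).1 hv.2
  obtain ⟨D, hD⟩ := exists_ap_e hw
  have h1 : ap (D * up 1 * D⁻¹) w = w := by
    rw [← hD, ap_mul, ap_mul, ap_inv_ap, ap_up_e]
  obtain ⟨s, hs, hsB⟩ := M.full_of_sylow S hS hw hSw h1
  have h2 : ap (D * up 1 * D⁻¹) x = x := by
    apply M.e_inj
    rw [← hsB, mul_inv_eq_iff_eq_mul]
    exact mem_centralizer_iff.1 hv.1 s hs
  obtain ⟨y, rfl⟩ : ∃ y, ap D y = x := ⟨ap D⁻¹ x, ap_ap_inv D x⟩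
  rw [ap_mul, ap_mul, ap_inv_ap] at h2
  have h3 : ap (up 1) y = y := by
    have h4 := congrArg (ap D⁻¹) h2
    rwa [ap_inv_ap, ap_inv_ap] at h4
  have h4 := congrFun h3 0
  rw [ap_zero', up_00, up_01, one_mul, one_mul] at h4
  have h5 : y 1 = 0 := left_eq_add.1 h4.symm
  rw [M.e_mem_line]
  refine ⟨y 0, ?_⟩
  rw [← hD, ← ap_smul]
  congr 1
  apply ext2
  · simp
  · rw [h5]; simp

theorem act_pow {g : G} (hg : g ∈ normalizer (V : Set G)) {w : Fin 2 → F} {γ : F}
    (hl : ∀ (c : F) x, M.act g (c • x) = c • M.act g x) (hw : M.act g w = γ • w) (n : ℕ) :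
    M.act (g ^ n) w = γ ^ n • w := by
  induction n with
  | zero => rw [pow_zero, pow_zero, M.act_one, one_smul]
  | succ n ih => rw [pow_succ', M.act_mul hg (pow_mem hg n), ih, hl, hw, smul_smul, ← pow_succ]

theorem _root_.Cfsg.Agent.Omega.NatPair.eq_one_of_pow [CharP F 2] {γ : F} {k : ℕ} (h : γ ^ 2 ^ k = 1) : γ = 1 := by
  have h1 : (γ - 1) ^ 2 ^ k = 0 := by
    rw [sub_pow_char_pow, h, one_pow, sub_self]
  exact sub_eq_zero.1 (pow_eq_zero_iff (by positivity) |>.1 h1)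

/-- the torus element -/
theorem exists_torus {w : Fin 2 → F} (hw : w ≠ 0) {c : F} (hc : c ≠ 0) :
    ∃ l : G, ∃ B : Matrix.SpecialLinearGroup (Fin 2) F, M.Ind l B ∧ ap B w = c • w := by
  obtain ⟨D, hD⟩ := exists_ap_e hw
  obtain ⟨l, hl⟩ := M.lift (D * dg c hc * D⁻¹)
  refine ⟨l, _, hl, ?_⟩
  rw [← hD, ap_mul, ap_mul, ap_inv_ap, ← ap_smul]
  congr 1
  apply ext2
  · rw [ap_zero']; simp
  · rw [ap_one']; simp

/-- a 2-subgroup of `N_G(V) ∩ N_G(R)` normalised by `N_G(V) ∩ N_G(R)` induces transvections with axis `R` only -/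
theorem lin_of_torus [Finite G] [Finite F] [CharP F 2] {w : Fin 2 → F} (hw : w ≠ 0) {Q : Subgroup G}
    (hQV : Q ≤ normalizer (V : Set G)) (hQw : Q ≤ normalizer ((M.line w : Subgroup G) : Set G)) (hQ : IsPGroup 2 Q)
    (hQn : ∀ g ∈ normalizer (V : Set G), g ∈ normalizer ((M.line w : Subgroup G) : Set G) → ∀ x ∈ Q, g * x * g⁻¹ ∈ Q) :
    Q ≤ M.UW w := by
  intro x hx
  have hxV := hQV hx
  have hmul : ∀ g ∈ normalizer (V : Set G), g ∈ normalizer ((M.line w : Subgroup G) : Set G) →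
      ∃ c : F, c ≠ 0 ∧ M.act g w = c • w := by
    intro g hg hgw
    rw [← cj_eq_iff, M.cj_line hg, M.line_eq_iff (M.act_ne_zero hg hw)] at hgw
    obtain ⟨c, hc⟩ := hgw
    refine ⟨c, ?_, hc⟩
    rintro rfl
    rw [zero_smul] at hc
    exact M.act_ne_zero hg hw hc
  obtain ⟨s, hs⟩ := M.exists_semi hxV
  obtain ⟨s', hs'⟩ := M.exists_semi (inv_mem hxV)
  obtain ⟨α, hα0, hα⟩ := hmul x hxV (hQw hx)
  obtain ⟨β, hβ0, hβ⟩ := hmul x⁻¹ (inv_mem hxV) (inv_mem (hQw hx))
  have hαβ : s β * α = 1 := by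
    have h1 := M.act_act_inv hxV w
    rw [hβ, hs, hα, smul_smul] at h1
    exact smul_left_injective F hw (by simpa using h1)
  have hss : ∀ c, s (s' c) = c := by
    intro c
    have h1 := M.act_act_inv hxV (c • w)
    rw [hs', hs, M.act_act_inv hxV] at h1
    exact smul_left_injective F hw h1
  -- the field automorphism is trivial
  have hs1 : ∀ c, s c = c := by
    intro c
    by_cases hc : c = 0
    · rw [hc, map_zero]
    obtain ⟨l, T, hl, hT⟩ := M.exists_torus hw hc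
    have hlV : l ∈ normalizer (V : Set G) := M.mem_normalizer hl
    have hlw : l ∈ normalizer ((M.line w : Subgroup G) : Set G) := by
      rw [← cj_eq_iff, M.cj_line_of_ind hl, hT, M.line_smul hc]
    have hlact : ∀ y, M.act l y = ap T y := M.act_of_ind hl
    have hlinv : ∀ (d : F) y, M.act l⁻¹ (d • y) = d • M.act l⁻¹ y := by
      intro d y
      obtain ⟨z, rfl⟩ : ∃ z, M.act l z = y := ⟨M.act l⁻¹ y, M.act_act_inv hlV y⟩
      rw [M.act_inv_act hlV, hlact, ← ap_smul, ← hlact, M.act_inv_act hlV]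
    have hlw' : M.act l⁻¹ w = c⁻¹ • w := by
      have h1 : w = M.act l (c⁻¹ • w) := by
        rw [hlact, ap_smul, hT, smul_smul, inv_mul_cancel₀ hc, one_smul]
      nth_rewrite 1 [h1]
      rw [M.act_inv_act hlV]
    set u := x * (l * x⁻¹ * l⁻¹) with hu
    have huQ : u ∈ Q := mul_mem hx (hQn l hlV hlw _ (inv_mem hx))
    have huV := hQV huQ
    have hact : ∀ y, M.act u y = M.act x (M.act l (M.act x⁻¹ (M.act l⁻¹ y))) := by
      intro y
      rw [hu, M.act_mul hxV (mul_mem (mul_mem hlV (inv_mem hxV)) (inv_mem hlV)),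
        M.act_mul (mul_mem hlV (inv_mem hxV)) (inv_mem hlV), M.act_mul hlV (inv_mem hxV)]
    have hulin : ∀ (d : F) y, M.act u (d • y) = d • M.act u y := by
      intro d y
      rw [hact, hact, hlinv, hs', hlact, ap_smul, hs, hss, hlact]
    have huw : M.act u w = (s c * c⁻¹) • w := by
      rw [hact, hlw', hs', hβ, smul_smul, hlact, ap_smul, hT, smul_smul, hs, hα, smul_smul]
      congr 1
      rw [map_mul, map_mul, hss]
      calc c⁻¹ * s β * s c * α = (s β * α) * (s c * c⁻¹) := by ring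
        _ = s c * c⁻¹ := by rw [hαβ, one_mul]
    obtain ⟨k, hk⟩ := hQ ⟨u, huQ⟩
    have hk' : u ^ 2 ^ k = 1 := congrArg Subtype.val hk
    have h1 := M.act_pow huV hulin huw (2 ^ k)
    rw [hk', M.act_one] at h1
    have h2 : (s c * c⁻¹) ^ 2 ^ k = 1 := (smul_left_injective F hw (by simpa using h1)).symm
    have h3 := eq_one_of_pow h2
    rwa [mul_inv_eq_one₀ hc] at h3
  have hlin : ∀ (d : F) y, M.act x (d • y) = d • M.act x y := fun d y => by rw [hs, hs1]
  obtain ⟨k, hk⟩ := hQ ⟨x, hx⟩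
  have hk' : x ^ 2 ^ k = 1 := congrArg Subtype.val hk
  have hα1 : α = 1 := by
    have h1 := M.act_pow hxV hlin hα (2 ^ k)
    rw [hk', M.act_one] at h1
    exact eq_one_of_pow (smul_left_injective F hw (by simpa using h1)).symm
  rw [hα1, one_smul] at hα
  -- the determinant
  obtain ⟨D, hD⟩ := exists_ap_e hw
  set y := ap D ![0, 1] with hy
  have hwy : dt w y = 1 := by
    have h1 := det_eq D
    rw [← hD, hy]
    unfold dt
    rw [ap_zero', ap_zero', ap_one', ap_one']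
    simp only [Matrix.cons_val_zero, Matrix.cons_val_one, mul_one, mul_zero, add_zero, zero_add]
    rw [← h1]; ring
  have hww : dt w w = 0 := by unfold dt; ring
  set δ := dt w (M.act x y) with hδ
  have hdt : ∀ z, dt w (M.act x z) = δ * dt w z := by
    intro z
    obtain ⟨a, b, rfl⟩ := exists_comb (by rw [hwy]; exact one_ne_zero : dt w y ≠ 0) z
    rw [M.act_add hxV, hlin, hlin, hα]
    simp only [dt_add, dt_smul, hww, hwy, ← hδ]
    ring
  have hdt' : ∀ (n : ℕ) z, dt w (M.act (x ^ n) z) = δ ^ n * dt w z := by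
    intro n
    induction n with
    | zero => intro z; rw [pow_zero, pow_zero, M.act_one, one_mul]
    | succ n ih =>
      intro z
      rw [pow_succ', M.act_mul hxV (pow_mem hxV n), hdt, ih, pow_succ']; ring
  have hδ1 : δ = 1 := by
    have h1 := hdt' (2 ^ k) y
    rw [hk', M.act_one, hwy, mul_one] at h1
    exact eq_one_of_pow h1.symm
  obtain ⟨B, hB⟩ := exists_of_fix hw (M.act x) (M.act_add hxV) hlin hα (fun z => by
    refine exists_smul_of_dt hw ?_
    have h1 := hdt z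
    rw [hδ1, one_mul] at h1
    unfold dt at h1 ⊢
    rw [Pi.sub_apply, Pi.sub_apply]
    linear_combination h1)
  exact ⟨B, by rw [← hB, hα], M.ind_of_act hxV hB⟩

end NatMod

/-- **the bridge**: `V' ≤ Q` a mutual partner of `V`, `Q` a 2-group normalised by `N_G(V) ∩ N_G(R)`, `R = V ∩ V'`: `Q`
induces on `V` exactly the transvections with axis `R`; in particular `C_V(Q) = R` and `[V, Q] ≤ R` -/
theorem bridge [Finite G] {F F' : Type*} [Field F] [Field F'] [Finite F] [Finite F'] [CharP F 2] [CharP F' 2]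
    {V V' : Subgroup G} (M : NatMod F V) (M' : NatMod F' V') (h : Mutual V V') {Q : Subgroup G} (hV'Q : V' ≤ Q)
    (hQV : Q ≤ normalizer (V : Set G)) (hQR : Q ≤ normalizer ((V ⊓ V' : Subgroup G) : Set G)) (hQ : IsPGroup 2 Q)
    (hQn : ∀ g ∈ normalizer (V : Set G), g ∈ normalizer ((V ⊓ V' : Subgroup G) : Set G) → ∀ x ∈ Q, g * x * g⁻¹ ∈ Q) :
    ∃ w, w ≠ 0 ∧ V ⊓ V' = M.line w ∧ Q ≤ M.UW w ∧ (∀ B, ap B w = w → ∃ x ∈ V', M.Ind x B) ∧
      centralizer (Q : Set G) ⊓ V = V ⊓ V' ∧ ∀ x ∈ Q, ∀ v ∈ V, x * v * x⁻¹ * v⁻¹ ∈ V ⊓ V' := by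
  obtain ⟨-, w, w', hw, hw', hl, -⟩ := pair M M' h
  have hU : Q ≤ M.UW w := M.lin_of_torus hw.ne hQV (by rwa [← hl]) hQ (by rw [← hl]; exact hQn)
  refine ⟨w, hw.ne, hl, hU, hw.full, ?_, ?_⟩
  · apply le_antisymm
    · rw [hl, ← hw.cent]
      exact inf_le_inf_right _ (centralizer_le hV'Q)
    · rw [hl]
      rintro _ ⟨c, rfl⟩
      refine mem_inf.2 ⟨mem_centralizer_iff.2 ?_, M.e_mem _⟩
      intro x hx
      obtain ⟨B, hB, hB'⟩ := hU hx
      rw [M.commute_e (hQV hx), M.act_of_ind hB', ap_smul, hB]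
  · intro x hx v hv
    obtain ⟨B, hB, hB'⟩ := hU hx
    obtain ⟨b, hb, hb'⟩ := hw.full B hB
    have h1 : x * v * x⁻¹ = b * v * b⁻¹ := by
      obtain ⟨y, rfl⟩ := (M.mem_iff v).1 hv
      rw [hB' y, hb' y]
    rw [h1, hl]
    exact hw.comm b hb v hv

end Cfsg.Agent.Omega.NatPair
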