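import Cfsg.Agent.Omega.NatPair.NormLev
import Cfsg.Agent.Omega.NatPair.Mod

/-!
# LEMMA NORM, the exceptional case `|F| = 4` (bb OMEGA #12618 (d))
-/

set_option autoImplicit false
set_option linter.unusedSectionVars false

namespace Cfsg.Agent.Omega.NatPair.NormExc

open Subgroup Cfsg.Agent.Lib.SL2Mat
open NormAbs NormLev
open Cfsg.Agent.ClassTwoFusion.Quad (cv d mem_cv_singleton)

/-- a matrix from its values on a basis -/
theorem exists_ap2 {F : Type*} [Field F] {f₁ f₂ g₁ g₂ : Fin 2 → F} (hf : dt f₁ f₂ ≠ 0) (h : dt g₁ g₂ = dt f₁ f₂) :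
    ∃ A : Matrix.SpecialLinearGroup (Fin 2) F, ap A f₁ = g₁ ∧ ap A f₂ = g₂ := by
  unfold dt at hf h
  refine ⟨mk ((g₁ 0 * f₂ 1 - g₂ 0 * f₁ 1) / (f₁ 0 * f₂ 1 - f₁ 1 * f₂ 0))
    ((g₂ 0 * f₁ 0 - g₁ 0 * f₂ 0) / (f₁ 0 * f₂ 1 - f₁ 1 * f₂ 0))
    ((g₁ 1 * f₂ 1 - g₂ 1 * f₁ 1) / (f₁ 0 * f₂ 1 - f₁ 1 * f₂ 0))
    ((g₂ 1 * f₁ 0 - g₁ 1 * f₂ 0) / (f₁ 0 * f₂ 1 - f₁ 1 * f₂ 0)) ?_, ?_, ?_⟩
  · rw [div_mul_div_comm, div_mul_div_comm, ← sub_div, div_eq_one_iff_eq (mul_ne_zero hf hf)]
    linear_combination (f₁ 0 * f₂ 1 - f₁ 1 * f₂ 0) * h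
  · apply ext2
    · rw [ap_zero', mk_00, mk_01, div_mul_eq_mul_div, div_mul_eq_mul_div, ← add_div, div_eq_iff hf]
      ring
    · rw [ap_one', mk_10, mk_11, div_mul_eq_mul_div, div_mul_eq_mul_div, ← add_div, div_eq_iff hf]
      ring
  · apply ext2
    · rw [ap_zero', mk_00, mk_01, div_mul_eq_mul_div, div_mul_eq_mul_div, ← add_div, div_eq_iff hf]
      ring
    · rw [ap_one', mk_10, mk_11, div_mul_eq_mul_div, div_mul_eq_mul_div, ← add_div, div_eq_iff hf]
      ring

/-- the field of order four -/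
theorem exists_pow {F : Type*} [Field F] [CharP F 2] (h4 : Nat.card F = 4) {κ : F} (h0 : κ ≠ 0) (h1 : κ ≠ 1) (η : F)
    (hη : η ≠ 0) : ∃ i : ℕ, κ ^ i = η := by
  classical
  have hfin : Finite F := Nat.finite_of_card_ne_zero (by omega)
  have : Fintype F := Fintype.ofFinite F
  have h2 : κ ^ 2 ≠ 0 := pow_ne_zero _ h0
  have h3 : κ ^ 2 ≠ 1 := by
    intro h
    have : (κ - 1) ^ 2 = 0 := by
      have h5 : (2 : F) = 0 := CharTwo.two_eq_zero
      linear_combination h + (1 - κ) * h5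
    exact h1 (sub_eq_zero.1 (pow_eq_zero_iff (by norm_num) |>.1 this))
  have h5 : κ ^ 2 ≠ κ := by
    intro h
    have : κ * (κ - 1) = 0 := by linear_combination h
    rcases mul_eq_zero.1 this with h | h
    · exact h0 h
    · exact h1 (sub_eq_zero.1 h)
  have h6 : ({0, 1, κ, κ ^ 2} : Finset F).card = 4 := by
    rw [Finset.card_insert_of_notMem, Finset.card_insert_of_notMem, Finset.card_insert_of_notMem, Finset.card_singleton]
    · simpa using h5.symm
    · simp only [Finset.mem_insert, Finset.mem_singleton, not_or]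
      exact ⟨h1.symm, h3.symm⟩
    · simp only [Finset.mem_insert, Finset.mem_singleton, not_or]
      exact ⟨zero_ne_one, h0.symm, h2.symm⟩
  have h7 : ({0, 1, κ, κ ^ 2} : Finset F) = Finset.univ := by
    apply Finset.eq_univ_of_card
    rw [h6, ← Nat.card_eq_fintype_card, h4]
  have h8 : η ∈ ({0, 1, κ, κ ^ 2} : Finset F) := by rw [h7]; exact Finset.mem_univ _
  simp only [Finset.mem_insert, Finset.mem_singleton] at h8
  rcases h8 with h | h | h | h
  · exact absurd h hη
  · exact ⟨0, by rw [h, pow_zero]⟩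
  · exact ⟨1, by rw [h, pow_one]⟩
  · exact ⟨2, h.symm⟩

/-- an automorphism of order 3 of a group of order four with a fixed involution is trivial -/
theorem comm_of_three {L : Type*} [Group L] {U : Subgroup L} [Finite U] (h4 : Nat.card U = 4) {c a u : L} (hc3 : c ^ 3 = 1)
    (hcU : ∀ x ∈ U, c * x * c⁻¹ ∈ U) (ha : a ∈ U) (ha1 : a ≠ 1) (hca : c * a = a * c) (hu : u ∈ U) :
    c * u = u * c := by
  classical
  set p := c * u * c⁻¹ with hp
  set q := c * p * c⁻¹ with hq
  have hpU : p ∈ U := hcU u hu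
  have hqU : q ∈ U := hcU p hpU
  have hqu : c * q * c⁻¹ = u := by
    have e : c * q * c⁻¹ = c ^ 3 * u * (c ^ 3)⁻¹ := by
      rw [hq, hp]; simp only [pow_succ, pow_zero]; group
    rw [e, hc3, one_mul, inv_one, mul_one]
  have hca' : c * a * c⁻¹ = a := by rw [hca]; group
  have inj : ∀ x y : L, c * x * c⁻¹ = c * y * c⁻¹ → x = y := fun x y h => by
    have := mul_right_cancel h
    exact mul_left_cancel this
  suffices hs : p = u by
    rw [hp, mul_inv_eq_iff_eq_mul] at hs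
    exact hs
  by_contra hpu
  have hu1 : u ≠ 1 := by
    intro h
    apply hpu
    rw [hp, h, mul_one, mul_inv_cancel]
  have hua : u ≠ a := by
    intro h
    apply hpu
    rw [hp, h, hca']
  have hp1 : p ≠ 1 := by
    intro h
    apply hu1
    apply inj
    rw [← hp, h, mul_one, mul_inv_cancel]
  have hpa : p ≠ a := by
    intro h
    apply hua
    apply inj
    rw [← hp, h, hca']
  have hq1 : q ≠ 1 := by
    intro h
    apply hp1
    apply inj
    rw [← hq, h, mul_one, mul_inv_cancel]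
  have hqa : q ≠ a := by
    intro h
    apply hpa
    apply inj
    rw [← hq, h, hca']
  have hqp : q ≠ p := by
    intro h
    apply hpu
    apply inj
    rw [← hq, ← hp, h]
  have hqu' : q ≠ u := by
    intro h
    apply hpu
    rw [hp]
    rw [h] at hqu
    exact hqu
  have h5 : ({1, a, u, p, q} : Finset L).card = 5 := by
    rw [Finset.card_insert_of_notMem, Finset.card_insert_of_notMem, Finset.card_insert_of_notMem,
      Finset.card_insert_of_notMem, Finset.card_singleton]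
    · simpa using hqp.symm
    · simp only [Finset.mem_insert, Finset.mem_singleton, not_or]
      exact ⟨fun h => hpu h.symm, hqu'.symm⟩
    · simp only [Finset.mem_insert, Finset.mem_singleton, not_or]
      exact ⟨hua.symm, hpa.symm, hqa.symm⟩
    · simp only [Finset.mem_insert, Finset.mem_singleton, not_or]
      exact ⟨ha1.symm, hu1.symm, hp1.symm, hq1.symm⟩
  have h6 : (({1, a, u, p, q} : Finset L) : Set L) ⊆ (U : Set L) := by
    intro x hx
    simp only [Finset.coe_insert, Finset.coe_singleton, Set.mem_insert_iff, Set.mem_singleton_iff] at hx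
    rcases hx with rfl | rfl | rfl | rfl | rfl
    · exact one_mem U
    · exact ha
    · exact hu
    · exact hpU
    · exact hqU
  have h7 := Set.ncard_le_ncard h6 (Set.toFinite _)
  rw [Set.ncard_coe_finset, h5] at h7
  have h8 : (U : Set L).ncard = 4 := by rw [← h4]; rfl
  omega

variable {F L V : Type*} [Field F] [Group L] [Group V] [MulDistribMulAction L V] (M : Co F L V)

/-- the elements centralising the root group -/
theorem T_of_comm {c : L} (hc : ∀ u ∈ M.Up, c * u = u * c) :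
    ∃ (κ : F) (u : F → F), κ ≠ 0 ∧ ∀ x, M.T c x = ![x 0 * κ + u (x 1), x 1 * κ] := by
  have hc' : ∀ (α : F) x, M.T c (ap (up α) x) = ap (up α) (M.T c x) := by
    intro α x
    have h1 := hc _ (⟨α, rfl⟩ : M.m (up α) ∈ M.Up)
    have h2 : M.T (c * M.m (up α)) x = M.T (M.m (up α) * c) x := by rw [h1]
    rwa [M.T_mul, M.T_mul, M.T_m, M.T_m] at h2
  -- `h y`
  have h1 : ∀ α y : F, M.T c ![α * y, 0] = ![α * M.T c ![0, y] 1, 0] := by
    intro α y
    have h2 := hc' α ![0, y]
    have e : ap (up α) ![0, y] = ![α * y, 0] + ![0, y] := by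
      rw [Co.ap_up]
      apply ext2 <;> simp
    rw [e, M.T_add, Co.ap_up] at h2
    have h3 : M.T c ![α * y, 0] = ![M.T c ![0, y] 0 + α * M.T c ![0, y] 1, M.T c ![0, y] 1] - M.T c ![0, y] := by
      rw [← h2]; abel
    rw [h3]
    apply ext2 <;> simp
  refine ⟨M.T c ![0, 1] 1, fun y => M.T c ![0, y] 0, ?_, ?_⟩
  · intro h
    have h2 := h1 1 1
    rw [h, mul_zero, one_mul] at h2
    apply M.T_ne_zero (g := c) Co.e1_ne
    rw [h2]
    apply ext2 <;> simp
  · intro x
    have h2 : ∀ α : F, M.T c ![α, 0] = ![α * M.T c ![0, 1] 1, 0] := by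
      intro α
      have := h1 α 1
      rwa [mul_one] at this
    have h3 : M.T c ![0, x 1] 1 = x 1 * M.T c ![0, 1] 1 := by
      have h4 := h1 1 (x 1)
      rw [one_mul, one_mul, h2] at h4
      have := congrFun h4 0
      simpa using this.symm
    have e : x = ![x 0, 0] + ![0, x 1] := by
      apply ext2 <;> simp
    nth_rewrite 1 [e]
    rw [M.T_add, h2]
    apply ext2
    · simp
    · simp [h3]

theorem T_comm_pow {c : L} {κ : F} {u : F → F} (h : ∀ x, M.T c x = ![x 0 * κ + u (x 1), x 1 * κ]) (hu : u 0 = 0)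
    (n : ℕ) : (∀ x, M.T (c ^ n) x 1 = x 1 * κ ^ n) ∧ ∀ x, x 1 = 0 → M.T (c ^ n) x = ![x 0 * κ ^ n, 0] := by
  induction n with
  | zero =>
    constructor
    · intro x; rw [pow_zero, M.T_one, pow_zero, mul_one]
    · intro x hx
      rw [pow_zero, M.T_one, pow_zero, mul_one]
      apply ext2 <;> simp [hx]
  | succ n ih =>
    constructor
    · intro x
      rw [pow_succ', M.T_mul, h]
      simp only [Matrix.cons_val_one, Matrix.cons_val_fin_one, ih.1, pow_succ]
      ring
    · intro x hx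
      rw [pow_succ', M.T_mul, ih.2 x hx, h]
      apply ext2
      · simp [pow_succ, hu, mul_assoc]
      · simp

section finite

variable [Finite F] [CharP F 2] [Finite L]
variable {S : Sylow 2 L} (hU : M.Up ≤ (S : Subgroup L)) (hS : (S : Subgroup L) ≤ normalizer (M.E : Set L))

/-- **the exceptional case**: fusion of the lines with the other fours groups -/
theorem exc (h4 : 4 ≤ Nat.card F) (hst : ¬ (M.inp hU hS h4).Strong) {ρ : F} (hρ : ρ ≠ 0) {v : Fin 2 → F} (hv : v 1 ≠ 0) :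
    ∃ k : L, M.T k⁻¹ ![ρ, 0] 1 = 0 ∧ M.T k⁻¹ v 1 = 0 := by
  have hfV : Finite V := Finite.of_equiv _ M.e
  set h := M.inp hU hS h4 with hh
  have hA4 : Nat.card M.Up = 4 := h.card_eq_four hst
  have hF4 : Nat.card F = 4 := by rw [← M.card_Up, hA4]
  unfold Inp.Strong at hst
  push Not at hst
  obtain ⟨a, ha, g, htS, htA⟩ := hst
  set t := g * a * g⁻¹ with ht
  have ha1 : a ≠ 1 := by
    intro e
    apply htA
    rw [ht, e, mul_one, mul_inv_cancel]
    exact one_mem _
  have ht2 : t * t = 1 := by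
    have e : t * t = g * (a * a) * g⁻¹ := by rw [ht]; group
    rw [e, h.A_sq ha, mul_one, mul_inv_cancel]
  have ht1 : t ≠ 1 := fun e => htA (by rw [e]; exact one_mem _)
  have htB : t ∈ NormAbs.cj g M.Up := conj_mem_cj ha
  obtain ⟨σ, γ, β, δ, hσ, hγ, hδ, hT⟩ := M.normal_form hU hS htS
  have hσ1 : σ ≠ 1 := fun e => htA (M.mem_Up_of_sg hU hS htS (by rw [← hσ, e]))
  have hTT : ∀ x, M.T t (M.T t x) = x := fun x => by rw [← M.T_mul, ht2, M.T_one]
  -- the fixed points of `t`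
  have hW : ∀ x, M.T t x = x → M.T g⁻¹ x 1 = 0 := by
    intro x hx
    have h1 : M.T a (M.T g⁻¹ x) = M.T g⁻¹ x := by
      rw [← M.T_mul]
      have e : a * g⁻¹ = g⁻¹ * t := by rw [ht]; group
      rw [e, M.T_mul, hx]
    obtain ⟨α, rfl⟩ := ha
    have hα : α ≠ 0 := by
      rintro rfl
      exact ha1 (by rw [up_zero, M.m_one])
    rw [M.T_m, Co.ap_up] at h1
    have h2 := congrFun h1 0
    simpa [hα] using h2
  have hW' : ∀ x, M.T g⁻¹ x 1 = 0 → M.T t x = x := by
    intro x hx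
    have h1 : M.T a (M.T g⁻¹ x) = M.T g⁻¹ x := by
      obtain ⟨α, rfl⟩ := ha
      rw [M.T_m, Co.ap_up, hx, mul_zero, add_zero]
      apply ext2 <;> simp [hx]
    have e : t = g * (a * g⁻¹) := by rw [ht]; group
    rw [e, M.T_mul, M.T_mul, h1, M.T_T_inv]
  -- `r₀`
  obtain ⟨ρ₀, hρ0, hρt⟩ : ∃ ρ₀ : F, ρ₀ ≠ 0 ∧ M.T t ![ρ₀, 0] = ![ρ₀, 0] := by
    by_cases h1 : M.T t ![1, 0] = ![1, 0]
    · exact ⟨1, one_ne_zero, h1⟩
    · have h2 : M.T t ![1, 0] = ![γ, 0] := by rw [hT]; apply ext2 <;> simp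
      refine ⟨1 + γ, ?_, ?_⟩
      · intro h3
        apply h1
        rw [h2]
        have : γ = 1 := by
          have h5 : (2 : F) = 0 := CharTwo.two_eq_zero
          linear_combination h3 - h5
        rw [this]
      · have h3 : (![1 + γ, 0] : Fin 2 → F) = ![1, 0] + M.T t ![1, 0] := by
          rw [h2]; apply ext2 <;> simp
        rw [h3, M.T_add, hTT, add_comm]
  -- `v₀`
  obtain ⟨v₀, hv0, hvt⟩ : ∃ v₀ : Fin 2 → F, v₀ 1 ≠ 0 ∧ M.T t v₀ = v₀ := by
    by_contra hc
    push Not at hc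
    -- then `t` is trivial on the line
    have h1 : ∀ c : F, M.T t ![c, 0] = ![c, 0] := by
      -- the map `c ↦ T g (c, 0)` is a bijection onto the line
      have h2 : ∀ c : F, M.T g ![c, 0] 1 = 0 := by
        intro c
        by_contra h3
        exact hc _ h3 (hW' _ (by rw [M.T_inv_T]; rfl))
      have h3 : Function.Injective (fun c : F => M.T g ![c, 0] 0) := by
        intro c d hcd
        have h5 : M.T g ![c, 0] = M.T g ![d, 0] := ext2 hcd (by rw [h2, h2])
        have h6 := congrArg (M.T g⁻¹) h5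
        rw [M.T_inv_T, M.T_inv_T] at h6
        exact congrFun h6 0
      have h5 : Function.Surjective (fun c : F => M.T g ![c, 0] 0) := Finite.injective_iff_surjective.1 h3
      intro c
      obtain ⟨d, hd⟩ := h5 c
      have h6 : (![c, 0] : Fin 2 → F) = M.T g ![d, 0] := by
        apply ext2
        · simpa using hd.symm
        · rw [h2]; rfl
      rw [h6]
      exact hW' _ (by rw [M.T_inv_T]; rfl)
    apply hσ1
    have h2 : ∀ c, σ c * γ = c := by
      intro c
      have h3 := congrFun (h1 c) 0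
      rw [hT] at h3
      simpa using h3
    have h3 : γ = 1 := by
      have := h2 1
      rwa [map_one, one_mul] at this
    ext c
    have := h2 c
    rw [h3, mul_one] at this
    rw [this]; rfl
  -- `D` of order three in `C_E(t)`
  set f : Fin 2 → F := ![ρ₀, 0] with hf
  have hdt : dt f v₀ ≠ 0 := by
    unfold dt
    rw [hf]
    simpa using ⟨hρ0, hv0⟩
  have h20 : (2 : F) = 0 := CharTwo.two_eq_zero
  obtain ⟨D, hD1, hD2⟩ := exists_ap2 (f₁ := f) (f₂ := v₀) (g₁ := v₀) (g₂ := f + v₀) hdt (by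
    unfold dt
    rw [Pi.add_apply, Pi.add_apply]
    linear_combination (v₀ 0 * f 1 - v₀ 1 * f 0) * h20)
  have hD3 : M.m D ^ 3 = 1 := by
    apply M.ext
    intro x
    rw [M.T_one]
    refine fix_all hdt (fun x => M.T (M.m D ^ 3) x) (M.T_add _) ?_ ?_ ?_ x
    · intro c y
      rw [pow_succ, pow_two, M.T_mul, M.T_mul, M.T_mul, M.T_mul, M.T_m, M.T_m, M.T_m, M.T_m, M.T_m, M.T_m, ap_smul,
        ap_smul, ap_smul]
    · show M.T (M.m D ^ 3) f = f
      rw [pow_succ, pow_two, M.T_mul, M.T_mul, M.T_m, M.T_m, M.T_m, hD1, hD2, ap_add, hD1, hD2]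
      funext i
      simp only [Pi.add_apply]
      linear_combination (v₀ i) * h20
    · show M.T (M.m D ^ 3) v₀ = v₀
      rw [pow_succ, pow_two, M.T_mul, M.T_mul, M.T_m, M.T_m, M.T_m, hD2, ap_add, hD1, hD2, ap_add, ap_add, hD1, hD2]
      funext i
      simp only [Pi.add_apply]
      linear_combination (f i + v₀ i) * h20
  have hDt : M.m D * t = t * M.m D := by
    apply M.ext
    intro x
    obtain ⟨p, q, rfl⟩ := exists_comb hdt x
    have hsm : ∀ (c : F) y, M.T t (c • y) = σ c • M.T t y := by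
      intro c y
      rw [hσ]
      exact M.sg_spec ⟨t, hS htS⟩ c y
    rw [M.T_mul (M.m D) t, M.T_mul t (M.m D), M.T_m, M.T_m, ap_add, ap_smul, ap_smul, hD1, hD2, M.T_add, M.T_add, hsm,
      hsm, hsm, hsm, M.T_add, hρt, hvt, ap_add, ap_smul, ap_smul, hD1, hD2]
  have hD1' : M.m D ≠ 1 := by
    intro e
    have h1 : M.T (M.m D) f = f := by rw [e, M.T_one]
    rw [M.T_m, hD1] at h1
    rw [h1, hf] at hv0
    exact hv0 rfl
  -- `c`
  set c := g⁻¹ * M.m D * g with hc
  have hc3 : c ^ 3 = 1 := by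
    have e : c ^ 3 = g⁻¹ * (M.m D ^ 3) * g := by rw [hc]; simp only [pow_succ, pow_zero]; group
    rw [e, hD3, mul_one, inv_mul_cancel]
  have hc1 : c ≠ 1 := by
    intro e
    apply hD1'
    have e2 : M.m D = g * c * g⁻¹ := by rw [hc]; group
    rw [e2, e, mul_one, mul_inv_cancel]
  have hcB : NormAbs.cj c M.Up = M.Up := by
    have h1 : NormAbs.cj (M.m D * g) M.Up = NormAbs.cj g M.Up := by
      refine h.ti (a := t) ?_ htB ht1
      rw [NormAbs.cj_mul, NormAbs.mem_cj]
      have e : (M.m D)⁻¹ * t * M.m D = t := by rw [mul_assoc, ← hDt, inv_mul_cancel_left]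
      rw [e]; exact htB
    have e : c = g⁻¹ * (M.m D * g) := by rw [hc]; group
    rw [e, NormAbs.cj_mul, h1, NormAbs.cj_inv_cj]
  have hca : c * a = a * c := by
    have e : c * a * c⁻¹ = a := by
      have e1 : c * a * c⁻¹ = g⁻¹ * (M.m D * t * (M.m D)⁻¹) * g := by rw [hc, ht]; group
      rw [e1, hDt, mul_inv_cancel_right, ht]; group
    rwa [mul_inv_eq_iff_eq_mul] at e
  have hcU : ∀ u ∈ M.Up, c * u = u * c := by
    intro u hu
    refine comm_of_three hA4 hc3 (fun x hx => ?_) ha ha1 hca hu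
    rw [← hcB]
    exact conj_mem_cj hx
  obtain ⟨κ, w, hκ0, hTc⟩ := T_of_comm M hcU
  have hw0 : w 0 = 0 := by
    have h1 := hTc 0
    rw [M.T_zero] at h1
    have h2 := congrFun h1 0
    simpa using h2.symm
  have hκ1 : κ ≠ 1 := by
    rintro rfl
    apply hc1
    have h1 : c ^ 2 = 1 := by
      apply M.ext
      intro x
      rw [pow_two, M.T_mul, M.T_one, hTc, hTc]
      apply ext2
      · simp only [Matrix.cons_val_zero, Matrix.cons_val_one, Matrix.cons_val_fin_one, mul_one]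
        linear_combination (w (x 1)) * h20
      · simp
    calc c = c ^ 3 * (c ^ 2)⁻¹ := by group
      _ = 1 := by rw [hc3, h1]; simp
  -- the element moving `(f, v₀)` to `(ρ, v)`
  have hlm : ρ * ρ₀⁻¹ * (v 1 * (v₀ 1)⁻¹) ≠ 0 :=
    mul_ne_zero (mul_ne_zero hρ (inv_ne_zero hρ0)) (mul_ne_zero hv (inv_ne_zero hv0))
  obtain ⟨i, hi⟩ := exists_pow hF4 hκ0 hκ1 ((ρ * ρ₀⁻¹ * (v 1 * (v₀ 1)⁻¹)) ^ 2) (pow_ne_zero _ hlm)
  have hi2 : (κ ^ i) ^ 2 = ρ * ρ₀⁻¹ * (v 1 * (v₀ 1)⁻¹) := by
    have : Fintype F := Fintype.ofFinite F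
    rw [hi, ← pow_mul]
    have h1 := FiniteField.pow_card (ρ * ρ₀⁻¹ * (v 1 * (v₀ 1)⁻¹))
    rwa [← Nat.card_eq_fintype_card, hF4] at h1
  have hki : κ ^ i ≠ 0 := pow_ne_zero _ hκ0
  set b : F := ρ * ρ₀⁻¹ * (κ ^ i)⁻¹ with hb
  have hb0 : b ≠ 0 := mul_ne_zero (mul_ne_zero hρ (inv_ne_zero hρ0)) (inv_ne_zero hki)
  obtain ⟨hp1, hp2⟩ := T_comm_pow M hTc hw0 i
  set n := c ^ i * M.m (dg b hb0) with hn
  have hnf : M.T n f = ![ρ, 0] := by
    rw [hn, M.T_mul, M.T_m]
    have h1 : ap (dg b hb0) f = ![b * ρ₀, 0] := by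
      apply ext2
      · rw [ap_zero', hf]; simp
      · rw [ap_one', hf]; simp
    rw [h1, hp2 _ rfl]
    apply ext2
    · simp only [Matrix.cons_val_zero]
      rw [hb]
      field_simp
    · rfl
  have hnv : M.T n v₀ 1 = v 1 := by
    rw [hn, M.T_mul, M.T_m, hp1]
    have h1 : ap (dg b hb0) v₀ 1 = b⁻¹ * v₀ 1 := by
      rw [ap_one']; simp
    rw [h1, hb]
    have h2 : (κ ^ i) ^ 2 * (ρ₀ * v₀ 1) = ρ * v 1 := by
      rw [hi2]; field_simp
    field_simp
    linear_combination h2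
  set α : F := (v 0 - M.T n v₀ 0) * (v 1)⁻¹ with hα
  refine ⟨M.m (up α) * n * g, ?_, ?_⟩
  · have h1 : M.T (M.m (up α) * n) f = ![ρ, 0] := by
      rw [M.T_mul, hnf, M.T_m, Co.ap_up]
      apply ext2 <;> simp
    rw [← h1, ← M.T_mul]
    have e : (M.m (up α) * n * g)⁻¹ * (M.m (up α) * n) = g⁻¹ := by group
    rw [e]
    exact hW _ hρt
  · have h1 : M.T (M.m (up α) * n) v₀ = v := by
      rw [M.T_mul, M.T_m, Co.ap_up]
      apply ext2
      · simp only [Matrix.cons_val_zero]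
        rw [hnv, hα]
        field_simp
        ring
      · simp only [Matrix.cons_val_one, Matrix.cons_val_fin_one]
        rw [hnv]
    rw [← h1, ← M.T_mul]
    have e : (M.m (up α) * n * g)⁻¹ * (M.m (up α) * n) = g⁻¹ := by group
    rw [e]
    exact hW _ hvt

end finite

end Cfsg.Agent.Omega.NatPair.NormExc
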