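import Cfsg.Agent.Omega.NatPair.NormAbs
import Cfsg.Agent.Omega.NatPair.Semi
import Cfsg.Agent.LieRecognition.FieldSemilinear

/-!
# `SL₂(F)` on its natural module inside a bigger linear group (LEMMA NORM, bb OMEGA #12618)

`Co F L V`: `L` acts faithfully on `V`, `V` is identified with `F²` (`e`) and `L` contains `E = SL₂(F)` (`m`).  If a Sylow
2-subgroup of `L` normalises `E` then `E` is normal in `L` or `|F| = 4` (`Co.norm_or`).
-/

set_option autoImplicit false
set_option linter.unusedSectionVars false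

namespace Cfsg.Agent.Omega.NatPair.NormLev

open Subgroup Cfsg.Agent.Lib.SL2Mat
open NormAbs
open Cfsg.Agent.ClassTwoFusion.Quad (cv d mem_cv_singleton)

/-- coordinates -/
structure Co (F L V : Type*) [Field F] [Group L] [Group V] [MulDistribMulAction L V] where
  e : (Fin 2 → F) ≃ V
  e_add : ∀ x y, e (x + y) = e x * e y
  m : Matrix.SpecialLinearGroup (Fin 2) F → L
  m_smul : ∀ A x, m A • e x = e (ap A x)
  faith : ∀ g : L, (∀ v : V, g • v = v) → g = 1

namespace Co

variable {F L V : Type*} [Field F] [Group L] [Group V] [MulDistribMulAction L V] (M : Co F L V)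

/-- the action in coordinates -/
def T (g : L) (x : Fin 2 → F) : Fin 2 → F := M.e.symm (g • M.e x)

theorem e_T (g : L) (x : Fin 2 → F) : M.e (M.T g x) = g • M.e x := M.e.apply_symm_apply _

theorem T_add (g : L) (x y : Fin 2 → F) : M.T g (x + y) = M.T g x + M.T g y := by
  apply M.e.injective
  rw [M.e_add, M.e_T, M.e_T, M.e_T, M.e_add, smul_mul']

theorem T_mul (g h : L) (x : Fin 2 → F) : M.T (g * h) x = M.T g (M.T h x) := by
  apply M.e.injective
  rw [M.e_T, M.e_T, M.e_T, mul_smul]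

theorem T_one (x : Fin 2 → F) : M.T 1 x = x := by
  apply M.e.injective
  rw [M.e_T, one_smul]

theorem T_inv_T (g : L) (x : Fin 2 → F) : M.T g⁻¹ (M.T g x) = x := by rw [← M.T_mul, inv_mul_cancel, M.T_one]

theorem T_T_inv (g : L) (x : Fin 2 → F) : M.T g (M.T g⁻¹ x) = x := by rw [← M.T_mul, mul_inv_cancel, M.T_one]

theorem T_zero (g : L) : M.T g 0 = 0 := by
  have := M.T_add g 0 0
  rw [add_zero] at this
  exact left_eq_add.1 this

theorem T_ne_zero {g : L} {x : Fin 2 → F} (hx : x ≠ 0) : M.T g x ≠ 0 := by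
  intro h
  apply hx
  rw [← M.T_inv_T g x, h, M.T_zero]

theorem ext {g h : L} (H : ∀ x, M.T g x = M.T h x) : g = h := by
  have h1 : h⁻¹ * g = 1 := M.faith _ (fun v => by
    obtain ⟨x, rfl⟩ := M.e.surjective v
    rw [mul_smul, ← M.e_T, H, M.e_T, inv_smul_smul])
  rw [inv_mul_eq_one] at h1
  exact h1.symm

theorem T_m (A : Matrix.SpecialLinearGroup (Fin 2) F) (x : Fin 2 → F) : M.T (M.m A) x = ap A x := by
  apply M.e.injective
  rw [M.e_T, M.m_smul]

theorem m_mul (A B : Matrix.SpecialLinearGroup (Fin 2) F) : M.m (A * B) = M.m A * M.m B :=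
  M.ext (fun x => by rw [M.T_mul, M.T_m, M.T_m, M.T_m, ap_mul])

theorem m_one : M.m 1 = 1 := M.ext (fun x => by rw [M.T_m, M.T_one, ap_one])

theorem m_inj {A B : Matrix.SpecialLinearGroup (Fin 2) F} (h : M.m A = M.m B) : A = B :=
  ap_inj (fun x => by rw [← M.T_m, h, M.T_m])

/-- the embedding of `SL₂(F)` -/
def mHom : Matrix.SpecialLinearGroup (Fin 2) F →* L := MonoidHom.mk' M.m M.m_mul

theorem mHom_apply (A : Matrix.SpecialLinearGroup (Fin 2) F) : M.mHom A = M.m A := rfl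

theorem m_inv (A : Matrix.SpecialLinearGroup (Fin 2) F) : M.m A⁻¹ = (M.m A)⁻¹ := map_inv M.mHom A

/-- `E ≅ SL₂(F)` -/
def E : Subgroup L := M.mHom.range

theorem mem_E {g : L} : g ∈ M.E ↔ ∃ A, M.m A = g := Iff.rfl

theorem m_mem (A : Matrix.SpecialLinearGroup (Fin 2) F) : M.m A ∈ M.E := ⟨A, rfl⟩

/-- the elements of `N_L(E)` are semilinear -/
theorem exists_sg [Finite F] {g : L} (hg : g ∈ normalizer (M.E : Set L)) :
    ∃ s : F ≃+* F, ∀ (c : F) x, M.T g (c • x) = s c • M.T g x := by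
  obtain ⟨σ, hσ⟩ := NatPair.exists_semi (M.T g) (M.T g⁻¹) (M.T_add g) (M.T_inv_T g) (M.T_T_inv g) (by
    intro A
    have h1 : g⁻¹ * M.m A * g⁻¹⁻¹ ∈ M.E := (mem_normalizer_iff.1 (inv_mem hg) _).1 (M.m_mem A)
    obtain ⟨B, hB⟩ := M.mem_E.1 h1
    refine ⟨B, fun x => ?_⟩
    rw [← M.T_m B, hB, inv_inv, M.T_mul, M.T_mul, M.T_m])
  exact exists_ringEquiv (M.T g) (M.T g⁻¹) (M.T_add g) (M.T_inv_T g) σ hσ

/-- the field automorphism of `g` -/
noncomputable def sg [Finite F] (g : normalizer (M.E : Set L)) : F ≃+* F := (M.exists_sg g.2).choose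

theorem sg_spec [Finite F] (g : normalizer (M.E : Set L)) (c : F) (x : Fin 2 → F) :
    M.T g (c • x) = M.sg g c • M.T g x := (M.exists_sg g.2).choose_spec c x

theorem e1_ne : (![1, 0] : Fin 2 → F) ≠ 0 := by
  intro h
  have := congrFun h 0
  simp at this

theorem sg_eq [Finite F] {g : normalizer (M.E : Set L)} {s : F ≃+* F}
    (h : ∀ (c : F) x, M.T g (c • x) = s c • M.T g x) : M.sg g = s := by
  ext c
  have h1 := M.sg_spec g c ![1, 0]
  rw [h] at h1
  exact (smul_left_injective F (M.T_ne_zero e1_ne) h1).symm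

/-- the homomorphism `N_L(E) → Aut F` -/
noncomputable def sgHom [Finite F] : normalizer (M.E : Set L) →* RingAut F where
  toFun := M.sg
  map_one' := by
    apply M.sg_eq
    intro c x
    show M.T 1 (c • x) = c • M.T 1 x
    rw [M.T_one, M.T_one]
  map_mul' g h := by
    apply M.sg_eq
    intro c x
    show M.T ((g : L) * h) (c • x) = M.sg g (M.sg h c) • M.T ((g : L) * h) x
    rw [M.T_mul, M.T_mul, M.sg_spec, M.sg_spec]

/-- the transvections with axis `F e₁` -/
def Up : Subgroup L where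
  carrier := {g | ∃ a : F, M.m (up a) = g}
  one_mem' := ⟨0, by rw [up_zero, M.m_one]⟩
  mul_mem' := by
    rintro _ _ ⟨a, rfl⟩ ⟨b, rfl⟩
    exact ⟨a + b, by rw [← up_mul, M.m_mul]⟩
  inv_mem' := by
    rintro _ ⟨a, rfl⟩
    exact ⟨-a, by rw [← up_inv, M.m_inv]⟩

theorem mem_Up {g : L} : g ∈ M.Up ↔ ∃ a : F, M.m (up a) = g := Iff.rfl

theorem Up_le : M.Up ≤ M.E := by
  rintro _ ⟨a, rfl⟩
  exact M.m_mem _

theorem ap_up (a : F) (x : Fin 2 → F) : ap (up a) x = ![x 0 + a * x 1, x 1] := by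
  apply ext2
  · rw [ap_zero']; simp
  · rw [ap_one']; simp

theorem card_Up : Nat.card M.Up = Nat.card F := by
  refine (Nat.card_congr (Equiv.ofBijective (fun a : F => (⟨M.m (up a), a, rfl⟩ : M.Up)) ⟨?_, ?_⟩)).symm
  · intro a b h
    exact up_inj (M.m_inj (congrArg Subtype.val h))
  · rintro ⟨_, a, rfl⟩
    exact ⟨a, rfl⟩

include M in
theorem card_V : Nat.card V = Nat.card F * Nat.card F := by
  rw [← Nat.card_congr M.e, Nat.card_fun]
  simp [pow_two]

theorem mem_cv_Up {x : Fin 2 → F} : M.e x ∈ cv V (M.Up : Set L) ↔ x 1 = 0 := by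
  constructor
  · intro h
    have h1 := h _ ⟨1, rfl⟩
    rw [M.m_smul] at h1
    have h2 := congrFun (M.e.injective h1) 0
    rw [ap_up] at h2
    simpa using h2
  · rintro h _ ⟨a, rfl⟩
    rw [M.m_smul, ap_up, h, mul_zero, add_zero]
    congr 1
    apply ext2 <;> simp [h]

theorem mem_cv_up {a : F} (ha : a ≠ 0) {x : Fin 2 → F} : M.e x ∈ cv V ({M.m (up a)} : Set L) ↔ x 1 = 0 := by
  constructor
  · intro h
    have h1 := h _ rfl
    rw [M.m_smul] at h1
    have h2 := congrFun (M.e.injective h1) 0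
    rw [ap_up] at h2
    simpa [ha] using h2
  · intro h g hg
    exact M.mem_cv_Up.2 h g (by rw [hg]; exact ⟨a, rfl⟩)

section finite

variable [Finite F] [CharP F 2] [Finite L]

theorem dvd_card : 2 ∣ Nat.card F := by
  have : Fintype F := Fintype.ofFinite F
  obtain ⟨n, -, hn⟩ := FiniteField.card F 2
  rw [Nat.card_eq_fintype_card, hn]
  exact dvd_pow_self 2 n.pos.ne'

theorem isPGroup_Up : IsPGroup 2 M.Up := by
  have : Fact (Nat.Prime 2) := ⟨Nat.prime_two⟩
  have : Fintype F := Fintype.ofFinite F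
  obtain ⟨n, -, hn⟩ := FiniteField.card F 2
  exact IsPGroup.of_card (n := n) (by rw [M.card_Up, Nat.card_eq_fintype_card, hn])

/-- a Sylow 2-subgroup containing the standard root group -/
theorem exists_good (S : Sylow 2 L) (hS : (S : Subgroup L) ≤ normalizer (M.E : Set L)) :
    ∃ T : Sylow 2 L, M.Up ≤ (T : Subgroup L) ∧ (T : Subgroup L) ≤ normalizer (M.E : Set L) := by
  have : Fact (Nat.Prime 2) := ⟨Nat.prime_two⟩
  set H : Subgroup L := normalizer (M.E : Set L) with hH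
  have hUH : M.Up ≤ H := M.Up_le.trans le_normalizer
  have hp : IsPGroup 2 (M.Up.subgroupOf H) := M.isPGroup_Up.of_equiv (subgroupOfEquivOfLe hUH).symm
  obtain ⟨Q, hQ⟩ := hp.exists_le_sylow
  obtain ⟨h, hh⟩ := MulAction.exists_smul_eq H (S.subtype hS) Q
  refine ⟨(h : L) • S, ?_, ?_⟩
  · intro u hu
    have h1 : (⟨u, hUH hu⟩ : H) ∈ (Q : Subgroup H) := hQ (mem_subgroupOf.2 hu)
    rw [← hh, Sylow.coe_subgroup_smul] at h1
    have h2 := Subgroup.mem_pointwise_smul_iff_inv_smul_mem.1 h1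
    have h3 : ((MulAut.conj h)⁻¹ • (⟨u, hUH hu⟩ : H) : H).1 ∈ (S : Subgroup L) := h2
    rw [Sylow.coe_subgroup_smul]
    apply Subgroup.mem_pointwise_smul_iff_inv_smul_mem.2
    exact h3
  · intro s hs
    rw [Sylow.coe_subgroup_smul] at hs
    have h1 := Subgroup.mem_pointwise_smul_iff_inv_smul_mem.1 hs
    rw [← map_inv, MulAut.smul_def, MulAut.conj_apply, inv_inv] at h1
    have h2 := mul_mem (mul_mem h.2 (hS h1)) (inv_mem h.2)
    have h3 : (h : L) * ((h : L)⁻¹ * s * h) * (h : L)⁻¹ = s := by group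
    rwa [h3] at h2

variable {S : Sylow 2 L} (hU : M.Up ≤ (S : Subgroup L)) (hS : (S : Subgroup L) ≤ normalizer (M.E : Set L))
include hU hS

/-- `S ∩ E` is the standard root group -/
theorem mem_Up_of {g : L} (hg : g ∈ (S : Subgroup L)) (hgE : g ∈ M.E) : g ∈ M.Up := by
  have : Fact (Nat.Prime 2) := ⟨Nat.prime_two⟩
  let D : Subgroup L := (S : Subgroup L) ⊓ M.E
  let _ : MulAction D (Fin 2 → F) :=
    { smul := fun s x => M.T s x
      one_smul := fun x => M.T_one x
      mul_smul := fun s t x => M.T_mul s t x }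
  have hcard : 2 ∣ Nat.card (Fin 2 → F) := by
    rw [show Nat.card (Fin 2 → F) = Nat.card F * Nat.card F by simp [Nat.card_fun, pow_two]]
    exact (dvd_card (F := F)).mul_left _
  have hD : IsPGroup 2 D := S.isPGroup'.to_le inf_le_left
  obtain ⟨x, hx, hx0⟩ := hD.exists_fixed_point_of_prime_dvd_card_of_fixed_point (Fin 2 → F) hcard (a := 0)
    (fun s => M.T_zero s)
  have hfix : ∀ s ∈ D, M.T s x = x := fun s hs => hx ⟨s, hs⟩
  have h1 := hfix (M.m (up 1)) (mem_inf.2 ⟨hU ⟨1, rfl⟩, M.m_mem _⟩)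
  rw [M.T_m, ap_up] at h1
  have hx1 : x 1 = 0 := by
    have := congrFun h1 0
    simpa using this
  have hx00 : x 0 ≠ 0 := fun h => hx0 (ext2 h.symm hx1.symm)
  obtain ⟨B, rfl⟩ := M.mem_E.1 hgE
  have h2 := hfix _ (mem_inf.2 ⟨hg, hgE⟩)
  rw [M.T_m] at h2
  have h3 := congrFun h2 0
  have h4 := congrFun h2 1
  rw [ap_zero', hx1, mul_zero, add_zero] at h3
  rw [ap_one', hx1, mul_zero, add_zero] at h4
  have h5 : ent B 0 0 = 1 := by
    have : (ent B 0 0 - 1) * x 0 = 0 := by rw [sub_mul, h3]; ring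
    exact sub_eq_zero.1 ((mul_eq_zero.1 this).resolve_right hx00)
  have h6 : ent B 1 0 = 0 := (mul_eq_zero.1 h4).resolve_right hx00
  have h7 : ent B 1 1 = 1 := by
    have := det_eq B
    rw [h5, h6] at this
    linear_combination this
  exact ⟨ent B 0 1, congrArg M.m (ext_ent (by rw [up_00, h5]) (by rw [up_01]) (by rw [up_10, h6]) (by rw [up_11, h7]))⟩

/-- `S` normalises the standard root group -/
theorem conj_Up {s : L} (hs : s ∈ (S : Subgroup L)) {u : L} (hu : u ∈ M.Up) : s * u * s⁻¹ ∈ M.Up :=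
  M.mem_Up_of hU hS (mul_mem (mul_mem hs (hU hu)) (inv_mem hs)) ((mem_normalizer_iff.1 (hS hs) u).1 (M.Up_le hu))

theorem T_e1 {s : L} (hs : s ∈ (S : Subgroup L)) {x : Fin 2 → F} (hx : x 1 = 0) : M.T s x 1 = 0 := by
  obtain ⟨a, ha⟩ := M.conj_Up hU hS (inv_mem hs) (⟨1, rfl⟩ : M.m (up 1) ∈ M.Up)
  have h1 : M.T (M.m (up 1)) (M.T s x) = M.T s x := by
    have e : M.m (up 1) * s = s * M.m (up a) := by rw [ha]; group
    rw [← M.T_mul, e, M.T_mul, M.T_m]
    congr 1
    rw [ap_up, hx, mul_zero, add_zero]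
    apply ext2 <;> simp [hx]
  rw [M.T_m, ap_up] at h1
  have := congrFun h1 0
  simpa using this

/-- the semilinear normal form of the elements of `S` -/
theorem normal_form {s : L} (hs : s ∈ (S : Subgroup L)) : ∃ (σ : F ≃+* F) (γ β δ : F), σ = M.sg ⟨s, hS hs⟩ ∧ γ ≠ 0 ∧ δ ≠ 0 ∧
    ∀ x, M.T s x = ![σ (x 0) * γ + σ (x 1) * β, σ (x 1) * δ] := by
  set σ := M.sg ⟨s, hS hs⟩ with hσ
  have h1 : M.T s ![1, 0] 1 = 0 := M.T_e1 hU hS hs rfl
  have key : ∀ x, M.T s x = ![σ (x 0) * M.T s ![1, 0] 0 + σ (x 1) * M.T s ![0, 1] 0, σ (x 1) * M.T s ![0, 1] 1] := by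
    intro x
    have h2 : x = x 0 • ![1, 0] + x 1 • ![0, 1] := by
      apply ext2 <;> simp
    have h3 := M.sg_spec ⟨s, hS hs⟩
    nth_rewrite 1 [h2]
    rw [M.T_add, h3, h3]
    apply ext2
    · simp [hσ]
    · simp [hσ, h1]
  refine ⟨σ, _, _, _, rfl, ?_, ?_, key⟩
  · intro h
    exact M.T_ne_zero (g := s) e1_ne (ext2 h h1)
  · intro h
    have h2 := M.T_T_inv s ![0, 1]
    have h3 := congrFun h2 1
    rw [key] at h3
    simp [h] at h3

theorem T_pow {s : L} {γ β δ : F} (h : ∀ x, M.T s x = ![x 0 * γ + x 1 * β, x 1 * δ]) (n : ℕ) :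
    (∀ x, M.T (s ^ n) x 1 = x 1 * δ ^ n) ∧ M.T (s ^ n) ![1, 0] = ![γ ^ n, 0] := by
  induction n with
  | zero =>
    constructor
    · intro x; rw [pow_zero, M.T_one, pow_zero, mul_one]
    · rw [pow_zero, M.T_one, pow_zero]
  | succ n ih =>
    constructor
    · intro x
      rw [pow_succ', M.T_mul, h]
      simp only [Matrix.cons_val_one, Matrix.cons_val_fin_one, ih.1, pow_succ]
      ring
    · rw [pow_succ', M.T_mul, ih.2, h]
      apply ext2
      · simp [pow_succ]
      · simp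

theorem eq_one_of_pow {γ : F} {k : ℕ} (h : γ ^ 2 ^ k = 1) : γ = 1 := by
  have h1 : (γ - 1) ^ 2 ^ k = 0 := by
    rw [sub_pow_char_pow, h, one_pow, sub_self]
  exact sub_eq_zero.1 (pow_eq_zero_iff (by positivity) |>.1 h1)

/-- a linear element of `S` is in the standard root group -/
theorem mem_Up_of_sg {s : L} (hs : s ∈ (S : Subgroup L)) (h : M.sg ⟨s, hS hs⟩ = 1) : s ∈ M.Up := by
  obtain ⟨σ, γ, β, δ, hσ, -, -, hT⟩ := M.normal_form hU hS hs
  rw [h] at hσ
  have hT' : ∀ x, M.T s x = ![x 0 * γ + x 1 * β, x 1 * δ] := by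
    intro x
    rw [hT, hσ]; rfl
  obtain ⟨k, hk⟩ := S.isPGroup' ⟨s, hs⟩
  have hk' : s ^ 2 ^ k = 1 := congrArg Subtype.val hk
  obtain ⟨h1, h2⟩ := M.T_pow hU hS hT' (2 ^ k)
  have h3 := h1 ![0, 1]
  rw [hk', M.T_one] at h2 h3
  have hγ : γ = 1 := by
    have := congrFun h2 0
    exact M.eq_one_of_pow hU hS (k := k) (by simpa using this.symm)
  have hδ : δ = 1 := M.eq_one_of_pow hU hS (k := k) (by simpa using h3.symm)
  refine ⟨β, M.ext (fun x => ?_)⟩
  rw [M.T_m, hT', ap_up, hγ, hδ]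
  apply ext2
  · simp [mul_comm]
  · simp

/-- the homomorphism to the field automorphisms, with values in a cyclic group -/
noncomputable def ph : ↥(S : Subgroup L) →* Multiplicative (ZMod (Nat.card (RingAut F))) :=
  ((zmodCyclicMulEquiv (LieRecognition.FieldSemilinear.isCyclic_ringAut F)).symm.toMonoidHom.comp M.sgHom).comp
    (Subgroup.inclusion hS)

theorem ph_eq_one {s : ↥(S : Subgroup L)} : M.ph hS s = 1 ↔ M.sg ⟨s, hS s.2⟩ = 1 := by
  show (zmodCyclicMulEquiv (LieRecognition.FieldSemilinear.isCyclic_ringAut F)).symm (M.sgHom ⟨s, hS s.2⟩) = 1 ↔ _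
  rw [MulEquiv.map_eq_one_iff]
  rfl

theorem sg_of_mem_Up {s : L} (hs : s ∈ (S : Subgroup L)) (h : s ∈ M.Up) : M.sg ⟨s, hS hs⟩ = 1 := by
  apply M.sg_eq
  obtain ⟨a, rfl⟩ := h
  intro c x
  show M.T (M.m (up a)) (c • x) = c • M.T (M.m (up a)) x
  rw [M.T_m, M.T_m, ap_smul]

/-- the fixed points of a field automorphism on the root group -/
theorem fix_le {s : L} (hs : s ∈ (S : Subgroup L)) (hsU : s ∉ M.Up) :
    Nat.card ↥(M.Up ⊓ centralizer ({s} : Set L)) ^ 2 ≤ Nat.card M.Up := by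
  obtain ⟨σ, γ, β, δ, hσ, hγ, hδ, hT⟩ := M.normal_form hU hS hs
  have hσ1 : σ ≠ 1 := fun e => hsU (M.mem_Up_of_sg hU hS hs (by rw [← hσ, e]))
  obtain ⟨b, hb⟩ : ∃ b, σ b ≠ b := by
    by_contra hc
    push Not at hc
    exact hσ1 (RingEquiv.ext hc)
  rw [M.card_Up, pow_two, ← Nat.card_prod]
  have hc : ∀ u : ↥(M.Up ⊓ centralizer ({s} : Set L)), ∃ α : F, M.m (up α) = (u : L) ∧ σ α * γ = α * δ := by
    intro u
    obtain ⟨α, hα⟩ := (mem_inf.1 u.2).1
    refine ⟨α, hα, ?_⟩
    have h1 := mem_centralizer_singleton_iff.1 (mem_inf.1 u.2).2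
    rw [← hα] at h1
    have h2 : M.T (M.m (up α) * s) ![0, 1] = M.T (s * M.m (up α)) ![0, 1] := by rw [h1]
    rw [M.T_mul, M.T_mul, M.T_m, M.T_m, ap_up, ap_up, hT, hT] at h2
    have h3 := congrFun h2 0
    simp only [Matrix.cons_val_zero, Matrix.cons_val_one, Matrix.cons_val_fin_one, map_zero, map_one, zero_mul, one_mul,
      zero_add, mul_one] at h3
    linear_combination -h3
  choose α hα hα' using hc
  refine Nat.card_le_card_of_injective (fun p => α p.1 + α p.2 * b) ?_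
  rintro ⟨u, u'⟩ ⟨v, v'⟩ h
  have h : α u + α u' * b = α v + α v' * b := h
  have key : α u' = α v' := by
    by_contra hne
    have h1 : α u' - α v' ≠ 0 := sub_ne_zero.2 hne
    have h2 : (α u' - α v') * b = α v - α u := by linear_combination h
    have h3 : σ (α u' - α v') * γ = (α u' - α v') * δ := by
      rw [map_sub]; linear_combination hα' u' - hα' v'
    have h4 : σ (α v - α u) * γ = (α v - α u) * δ := by
      rw [map_sub]; linear_combination hα' v - hα' u
    rw [← h2, map_mul] at h4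
    apply hb
    have h5 : (α u' - α v') * δ * (σ b - b) = 0 := by
      linear_combination h4 - σ b * h3
    rcases mul_eq_zero.1 h5 with h6 | h6
    · exact absurd h6 (mul_ne_zero h1 hδ)
    · exact sub_eq_zero.1 h6
  have key2 : α u = α v := by
    rw [key] at h
    exact add_right_cancel h
  have e1 : u = v := Subtype.ext (by rw [← hα, ← hα, key2])
  have e2 : u' = v' := Subtype.ext (by rw [← hα, ← hα, key])
  rw [e1, e2]

theorem card_cv_Up : Nat.card (cv V (M.Up : Set L)) = Nat.card F := by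
  refine (Nat.card_congr (Equiv.ofBijective
    (fun c : F => (⟨M.e ![c, 0], M.mem_cv_Up.2 rfl⟩ : cv V (M.Up : Set L))) ⟨?_, ?_⟩)).symm
  · intro c d h
    have := congrFun (M.e.injective (congrArg Subtype.val h)) 0
    simpa using this
  · rintro ⟨v, hv⟩
    obtain ⟨x, rfl⟩ := M.e.surjective v
    have h1 := M.mem_cv_Up.1 hv
    refine ⟨x 0, Subtype.ext ?_⟩
    show M.e ![x 0, 0] = M.e x
    congr 1
    apply ext2 <;> simp [h1]

/-- the input of `NormAbs` -/
theorem inp (h4 : 4 ≤ Nat.card F) : Inp V S M.Up (M.ph hS) where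
  comm v w := by
    obtain ⟨x, rfl⟩ := M.e.surjective v
    obtain ⟨y, rfl⟩ := M.e.surjective w
    rw [← M.e_add, ← M.e_add, add_comm]
  sq v := by
    obtain ⟨x, rfl⟩ := M.e.surjective v
    have h1 : M.e 0 = 1 := by
      have := M.e_add 0 0
      rw [add_zero] at this
      exact left_eq_mul.1 this
    rw [← M.e_add, show x + x = 0 from funext fun i => CharTwo.add_self_eq_zero (x i), h1]
  faith := M.faith
  AS := hU
  ker s := by
    rw [M.ph_eq_one hU hS]
    exact ⟨fun h => M.mem_Up_of_sg hU hS s.2 h, fun h => M.sg_of_mem_Up hU hS s.2 h⟩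
  cyc := inferInstance
  quad := by
    rintro _ ⟨a, rfl⟩ b hb v
    obtain ⟨x, rfl⟩ := M.e.surjective v
    have h1 : d (M.m (up a)) (M.e x) = M.e (ap (up a) x + x) := by
      unfold d
      rw [M.m_smul, M.e_add]
    rw [h1]
    exact M.mem_cv_Up.2 (by rw [ap_up]; simp [CharTwo.add_self_eq_zero]) b hb
  reg := by
    rintro _ ⟨a, rfl⟩ ha
    have ha0 : a ≠ 0 := by
      rintro rfl
      exact ha (by rw [up_zero, M.m_one])
    ext v
    obtain ⟨x, rfl⟩ := M.e.surjective v
    rw [M.mem_cv_up ha0, M.mem_cv_Up]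
  idx := by
    have : Finite V := Finite.of_equiv _ M.e
    have h1 := card_mul_index (cv V (M.Up : Set L))
    rw [M.card_cv_Up hU hS, M.card_V] at h1
    rw [M.card_Up]
    exact Nat.eq_of_mul_eq_mul_left Nat.card_pos h1
  card := by rw [M.card_V, M.card_Up]
  lin := by
    intro s hs h1 _
    apply M.mem_Up_of_sg hU hS hs
    obtain ⟨σ, γ, β, δ, hσ, hγ, -, hT⟩ := M.normal_form hU hS hs
    rw [← hσ]
    have h2 : ∀ c : F, σ c * γ = c := by
      intro c
      have h3 := h1 (M.e ![c, 0]) (M.mem_cv_Up.2 rfl)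
      rw [← M.e_T] at h3
      have h4 := congrFun (M.e.injective h3) 0
      rw [hT] at h4
      simpa using h4
    have h3 : γ = 1 := by
      have := h2 1
      rwa [map_one, one_mul] at this
    ext c
    have := h2 c
    rw [h3, mul_one] at this
    rw [this]; rfl
  fix := fun s hs hsU => M.fix_le hU hS hs hsU
  four := by rw [M.card_Up]; exact h4

omit hU hS in
/-- `E` is generated by two conjugates of the root group -/
theorem m_mem_of {K : Subgroup L} (h1 : ∀ a, M.m (up a) ∈ K) (h2 : ∀ a, M.m (lo a) ∈ K)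
    (A : Matrix.SpecialLinearGroup (Fin 2) F) : M.m A ∈ K := by
  obtain ⟨a, b, c, d, rfl⟩ := exists_up_lo A
  rw [M.m_mul, M.m_mul, M.m_mul]
  exact mul_mem (mul_mem (mul_mem (h1 a) (h2 b)) (h1 c)) (h2 d)

omit hU hS [Finite L] in
theorem lo_mem_cj (a : F) : M.m (lo a) ∈ NormAbs.cj (M.m (wm 1 one_ne_zero)) M.Up := by
  rw [NormAbs.mem_cj]
  refine ⟨-a, ?_⟩
  have h1 : lo a = wm 1 one_ne_zero * up (-a) * (wm 1 one_ne_zero)⁻¹ := by
    rw [wm_up, mul_assoc, mul_inv_cancel, mul_one]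
    congr 1
    simp
  rw [h1, M.m_mul, M.m_mul, M.m_inv]
  group

omit hU hS [Finite L] in
theorem cj_Up_le_E (A : Matrix.SpecialLinearGroup (Fin 2) F) : NormAbs.cj (M.m A) M.Up ≤ M.E := by
  intro x hx
  obtain ⟨a, ha⟩ := NormAbs.mem_cj.1 hx
  refine ⟨A * up a * A⁻¹, ?_⟩
  show M.m _ = _
  rw [M.m_mul, M.m_mul, M.m_inv, ha]
  group

/-- **strongly closed**: `E` is normal -/
theorem norm_of_strong (h4 : 4 ≤ Nat.card F) (hst : (M.inp hU hS h4).Strong) (g : L) (A : Matrix.SpecialLinearGroup (Fin 2) F) :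
    g * M.m A * g⁻¹ ∈ M.E := by
  have hfV : Finite V := Finite.of_equiv _ M.e
  set h := M.inp hU hS h4 with hh
  -- conjugates of the root group lie in `E`
  have key : ∀ k : L, NormAbs.cj k M.Up ≤ M.E := by
    intro k
    have h1 : k⁻¹⁻¹ • M.e ![1, 0] ∈ cv V ((NormAbs.cj k M.Up : Subgroup L) : Set L) := by
      rw [NormAbs.mem_cv_cj, inv_inv, inv_smul_smul]
      exact M.mem_cv_Up.2 rfl
    rw [inv_inv, ← M.e_T] at h1
    obtain ⟨P, hP⟩ := exists_ap_e (M.T_ne_zero (g := k) e1_ne)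
    have h2 : NormAbs.cj ((M.m P)⁻¹ * k) M.Up = M.Up := by
      by_contra hne
      have h3 := h.disj hst hne
      have h4 : M.e ![1, 0] ∈ cv V (M.Up : Set L) ⊓ cv V ((NormAbs.cj ((M.m P)⁻¹ * k) M.Up : Subgroup L) : Set L) := by
        refine mem_inf.2 ⟨M.mem_cv_Up.2 rfl, ?_⟩
        rw [NormAbs.cj_mul, NormAbs.mem_cv_cj, inv_inv, M.m_smul, hP]
        exact h1
      rw [h3, mem_bot] at h4
      have h5 : M.e 0 = 1 := by
        have := M.e_add 0 0
        rw [add_zero] at this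
        exact left_eq_mul.1 this
      rw [← h5] at h4
      exact e1_ne (M.e.injective h4)
    have h3 : NormAbs.cj k M.Up = NormAbs.cj (M.m P) M.Up := by
      have e : k = M.m P * ((M.m P)⁻¹ * k) := by group
      rw [e, NormAbs.cj_mul, h2]
    rw [h3]
    exact M.cj_Up_le_E P
  have h1 := M.m_mem_of (K := M.E.comap (MulAut.conj g).toMonoidHom)
    (fun a => key g (NormAbs.conj_mem_cj ⟨a, rfl⟩)) (fun a => by
      have h2 := NormAbs.mem_cj.1 (M.lo_mem_cj a)
      have h3 := NormAbs.conj_mem_cj (g := g * M.m (wm 1 one_ne_zero)) h2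
      have e : g * M.m (wm 1 one_ne_zero) * ((M.m (wm 1 one_ne_zero))⁻¹ * M.m (lo a) * M.m (wm 1 one_ne_zero)) *
        (g * M.m (wm 1 one_ne_zero))⁻¹ = g * M.m (lo a) * g⁻¹ := by group
      rw [e] at h3
      exact key _ h3) A
  exact h1

omit hU hS [Finite L] in
/-- `|F| = 2`: `E` is everything -/
theorem mem_E_of_two (h2 : Nat.card F = 2) (g : L) : g ∈ M.E := by
  classical
  have : Fintype F := Fintype.ofFinite F
  have hF : ∀ c : F, c = 0 ∨ c = 1 := by
    intro c
    by_contra hc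
    push Not at hc
    have h3 : ({0, 1, c} : Finset F).card ≤ Fintype.card F := Finset.card_le_univ _
    rw [← Nat.card_eq_fintype_card, h2] at h3
    have h4 : ({0, 1, c} : Finset F).card = 3 := by
      rw [Finset.card_eq_three]
      exact ⟨0, 1, c, zero_ne_one, hc.1.symm, hc.2.symm, rfl⟩
    omega
  have hsm : ∀ (c : F) x, M.T g (c • x) = c • M.T g x := by
    intro c x
    rcases hF c with rfl | rfl
    · rw [zero_smul, zero_smul, M.T_zero]
    · rw [one_smul, one_smul]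
  set p := M.T g ![1, 0] with hp
  set q := M.T g ![0, 1] with hq
  have hT : ∀ x, M.T g x = x 0 • p + x 1 • q := by
    intro x
    have h2 : x = x 0 • ![1, 0] + x 1 • ![0, 1] := by
      apply ext2 <;> simp
    nth_rewrite 1 [h2]
    rw [M.T_add, hsm, hsm]
  have hdet : p 0 * q 1 - q 0 * p 1 ≠ 0 := by
    intro hd
    have h5 : M.T g ![q 1, -(p 1)] = 0 := by
      rw [hT]
      apply ext2
      · simp only [Pi.add_apply, Pi.smul_apply, smul_eq_mul, Matrix.cons_val_zero, Matrix.cons_val_one,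
          Matrix.cons_val_fin_one, Pi.zero_apply]
        linear_combination hd
      · simp only [Pi.add_apply, Pi.smul_apply, smul_eq_mul, Matrix.cons_val_zero, Matrix.cons_val_one,
          Matrix.cons_val_fin_one, Pi.zero_apply]
        ring
    have h6 : M.T g ![q 0, -(p 0)] = 0 := by
      rw [hT]
      apply ext2
      · simp only [Pi.add_apply, Pi.smul_apply, smul_eq_mul, Matrix.cons_val_zero, Matrix.cons_val_one,
          Matrix.cons_val_fin_one, Pi.zero_apply]
        ring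
      · simp only [Pi.add_apply, Pi.smul_apply, smul_eq_mul, Matrix.cons_val_zero, Matrix.cons_val_one,
          Matrix.cons_val_fin_one, Pi.zero_apply]
        linear_combination -hd
    have h7 : (![q 1, -(p 1)] : Fin 2 → F) = 0 := by
      by_contra hne
      exact M.T_ne_zero hne h5
    have h8 : (![q 0, -(p 0)] : Fin 2 → F) = 0 := by
      by_contra hne
      exact M.T_ne_zero hne h6
    have h9 : p = 0 := by
      apply ext2
      · have := congrFun h8 1
        simpa using this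
      · have := congrFun h7 1
        simpa using this
    exact M.T_ne_zero (g := g) e1_ne h9
  have hdet1 : p 0 * q 1 - q 0 * p 1 = 1 := (hF _).resolve_left hdet
  refine ⟨Lib.SL2Mat.mk (p 0) (q 0) (p 1) (q 1) hdet1, M.ext (fun x => ?_)⟩
  show M.T (M.m _) x = _
  rw [M.T_m, hT]
  apply ext2
  · rw [ap_zero']; simp [mul_comm]
  · rw [ap_one']; simp [mul_comm]

end finite

end Co

end Cfsg.Agent.Omega.NatPair.NormLev
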