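import Cfsg.Agent.Omega.NatPair.Pair

/-!
# `V = F²` and `N_G(V)` induces at least `SL₂(F)`  (`PreMod`, = `NatMod` without normality)

* `PreMod.toNatMod`: the `SL₂(F)` is normal;
* `PreMod.Exc`: the exceptional alternative of LEMMA NORM (bb OMEGA #12618; `A₇` on `2⁴`);
* LEMMA NORM itself is `PreMod.dich` in `Omega.NatPair.Norm`.
-/

set_option autoImplicit false
set_option linter.unusedSectionVars false

namespace Cfsg.Agent.Omega.NatPair

open Subgroup Cfsg.Agent.Lib.SL2Mat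

variable {G : Type*} [Group G]

/-- `V` is `F²` and `N_G(V)` induces at least `SL₂(F)` -/
structure PreMod (F : Type*) [Field F] (V : Subgroup G) where
  e : (Fin 2 → F) → G
  e_add : ∀ x y, e (x + y) = e x * e y
  e_inj : Function.Injective e
  mem_iff : ∀ g, g ∈ V ↔ ∃ x, e x = g
  lift : ∀ A : Matrix.SpecialLinearGroup (Fin 2) F, ∃ g, ∀ x, g * e x * g⁻¹ = e (ap A x)

/-- forget that `SL₂(F)` is normal -/
def NatMod.toPreMod {F : Type*} [Field F] {V : Subgroup G} (M : NatMod F V) : PreMod F V :=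
  { e := M.e, e_add := M.e_add, e_inj := M.e_inj, mem_iff := M.mem_iff, lift := M.lift }

namespace PreMod

variable {F : Type*} [Field F] {V : Subgroup G} (M : PreMod F V)

/-- `h` acts as `A` on `V` -/
def Ind (h : G) (A : Matrix.SpecialLinearGroup (Fin 2) F) : Prop := ∀ x, h * M.e x * h⁻¹ = M.e (ap A x)

/-- `g` normalises the `SL₂(F)` -/
def Nm (g : G) : Prop := ∀ (h : G) (A : Matrix.SpecialLinearGroup (Fin 2) F), M.Ind h A →
  ∃ B : Matrix.SpecialLinearGroup (Fin 2) F, M.Ind (g * h * g⁻¹) B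

/-- the natural module, if all of `N_G(V)` normalises the `SL₂(F)` -/
def toNatMod (h : ∀ g ∈ normalizer (V : Set G), M.Nm g) : NatMod F V :=
  { e := M.e, e_add := M.e_add, e_inj := M.e_inj, mem_iff := M.mem_iff, lift := M.lift
    norm := fun g hg k A hA => h g hg k A hA }

theorem e_zero : M.e 0 = 1 := by
  have := M.e_add 0 0
  rw [add_zero] at this
  exact left_eq_mul.1 this

theorem e_neg (x : Fin 2 → F) : M.e (-x) = (M.e x)⁻¹ := by
  rw [eq_inv_iff_mul_eq_one, ← M.e_add, neg_add_cancel, M.e_zero]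

theorem e_eq_one {x : Fin 2 → F} : M.e x = 1 ↔ x = 0 := by
  rw [← M.e_zero]
  exact M.e_inj.eq_iff

theorem e_mem (x : Fin 2 → F) : M.e x ∈ V := (M.mem_iff _).2 ⟨x, rfl⟩

include M in
theorem comm {v w : G} (hv : v ∈ V) (hw : w ∈ V) : v * w = w * v := by
  obtain ⟨x, rfl⟩ := (M.mem_iff v).1 hv
  obtain ⟨y, rfl⟩ := (M.mem_iff w).1 hw
  rw [← M.e_add, ← M.e_add, add_comm]

include M in
theorem sq [CharP F 2] {v : G} (hv : v ∈ V) : v * v = 1 := by
  obtain ⟨x, rfl⟩ := (M.mem_iff v).1 hv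
  rw [← M.e_add, show x + x = 0 from funext fun i => CharTwo.add_self_eq_zero (x i), M.e_zero]

include M in
theorem card_V : Nat.card V = Nat.card F ^ 2 := by
  have h1 : Nat.card (Fin 2 → F) = Nat.card V := by
    refine Nat.card_congr (Equiv.ofBijective (fun x => ⟨M.e x, M.e_mem x⟩) ⟨?_, ?_⟩)
    · intro x y h
      exact M.e_inj (congrArg Subtype.val h)
    · rintro ⟨v, hv⟩
      obtain ⟨x, rfl⟩ := (M.mem_iff v).1 hv
      exact ⟨x, rfl⟩
  rw [← h1]
  simp [Nat.card_fun]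

theorem mem_normalizer {h : G} {A : Matrix.SpecialLinearGroup (Fin 2) F} (hA : M.Ind h A) :
    h ∈ normalizer (V : Set G) := by
  rw [mem_normalizer_iff]
  intro n
  constructor
  · intro hn
    obtain ⟨x, rfl⟩ := (M.mem_iff n).1 hn
    rw [hA]; exact M.e_mem _
  · intro hn
    obtain ⟨x, hx⟩ := (M.mem_iff _).1 hn
    refine (M.mem_iff n).2 ⟨ap A⁻¹ x, ?_⟩
    have h1 := hA (ap A⁻¹ x)
    rw [ap_ap_inv, hx] at h1
    have h2 : h⁻¹ * (h * M.e (ap A⁻¹ x) * h⁻¹) * h = h⁻¹ * (h * n * h⁻¹) * h := by rw [h1]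
    simpa [mul_assoc] using h2

theorem Ind.mul {h k : G} {A B : Matrix.SpecialLinearGroup (Fin 2) F} (hA : M.Ind h A) (hB : M.Ind k B) :
    M.Ind (h * k) (A * B) := by
  intro x
  have e1 : h * k * M.e x * (h * k)⁻¹ = h * (k * M.e x * k⁻¹) * h⁻¹ := by group
  rw [e1, hB, hA, ap_mul]

theorem ind_one : M.Ind 1 1 := fun x => by rw [one_mul, inv_one, mul_one, ap_one]

theorem Ind.inv {h : G} {A : Matrix.SpecialLinearGroup (Fin 2) F} (hA : M.Ind h A) : M.Ind h⁻¹ A⁻¹ := by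
  intro x
  have h1 := hA (ap A⁻¹ x)
  rw [ap_ap_inv] at h1
  rw [← h1]; group

theorem Nm.of_ind {g : G} {B : Matrix.SpecialLinearGroup (Fin 2) F} (hg : M.Ind g B) : M.Nm g :=
  fun _ _ hA => ⟨_, (hg.mul M hA).mul M (hg.inv M)⟩

/-- the line of the vector `w` -/
def line (w : Fin 2 → F) : Subgroup G where
  carrier := {g | ∃ c : F, M.e (c • w) = g}
  mul_mem' := by
    rintro _ _ ⟨c, rfl⟩ ⟨d, rfl⟩
    exact ⟨c + d, by rw [add_smul, M.e_add]⟩
  one_mem' := ⟨0, by rw [zero_smul, M.e_zero]⟩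
  inv_mem' := by
    rintro _ ⟨c, rfl⟩
    exact ⟨-c, by rw [neg_smul, M.e_neg]⟩

theorem mem_line {w : Fin 2 → F} {g : G} : g ∈ M.line w ↔ ∃ c : F, M.e (c • w) = g := Iff.rfl

theorem line_le (w : Fin 2 → F) : M.line w ≤ V := by
  rintro _ ⟨c, rfl⟩
  exact M.e_mem _

theorem e_mem_line {w x : Fin 2 → F} : M.e x ∈ M.line w ↔ ∃ c : F, x = c • w := by
  constructor
  · rintro ⟨c, hc⟩
    exact ⟨c, (M.e_inj hc).symm⟩
  · rintro ⟨c, rfl⟩
    exact ⟨c, rfl⟩

theorem card_line {w : Fin 2 → F} (hw : w ≠ 0) : Nat.card (M.line w) = Nat.card F := by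
  refine (Nat.card_congr (Equiv.ofBijective (fun c : F => (⟨M.e (c • w), c, rfl⟩ : M.line w)) ⟨?_, ?_⟩)).symm
  · intro c d h
    exact smul_left_injective F hw (M.e_inj (congrArg Subtype.val h))
  · rintro ⟨_, c, rfl⟩
    exact ⟨c, rfl⟩

/-- **the exceptional alternative of LEMMA NORM** (`|F| = 4`, `A₇` on `2⁴`): the lines are fused with all other subgroups
of order 4 of `V`, and `C_V(S)` has order two -/
structure Exc (S : Subgroup G) : Prop where
  card : Nat.card F = 4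
  fuse : ∀ w : Fin 2 → F, w ≠ 0 → ∀ r ∈ M.line w, r ≠ 1 → ∀ v ∈ V, v ∉ M.line w →
    ∃ g ∈ normalizer (V : Set G), r ∈ cj g (M.line w) ∧ v ∈ cj g (M.line w)
  point : ∃ w : Fin 2 → F, w ≠ 0 ∧ S ≤ normalizer ((M.line w : Subgroup G) : Set G) ∧
    V ⊓ centralizer (S : Set G) ≤ M.line w ∧ Nat.card ↥(V ⊓ centralizer (S : Set G)) = 2

end PreMod

end Cfsg.Agent.Omega.NatPair
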