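import Cfsg.Agent.Omega.NatPair.NormExc
import Cfsg.Agent.Omega.NatPair.PreMod

/-!
# LEMMA NORM (bb OMEGA #12618)

`PreMod.dich`: `V = F²`, `N_G(V)` induces at least `SL₂(F)`, a Sylow 2-subgroup `S ≤ N_G(V)` of `G` normalises the
`SL₂(F)`: then `N_G(V)` normalises the `SL₂(F)` or `|F| = 4` and `PreMod.Exc` holds.
-/

set_option autoImplicit false
set_option linter.unusedSectionVars false

namespace Cfsg.Agent.Omega.NatPair

open Subgroup Cfsg.Agent.Lib.SL2Mat

namespace NormLev.Co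

variable {F L V : Type*} [Field F] [Group L] [Group V] [MulDistribMulAction L V] (M : Co F L V)
variable [Finite F] [CharP F 2] [Finite L]

/-- a Sylow 2-subgroup containing the standard root group, with the conjugating element -/
theorem exists_good' (S : Sylow 2 L) (hS : (S : Subgroup L) ≤ normalizer (M.E : Set L)) :
    ∃ y ∈ normalizer (M.E : Set L), M.Up ≤ ((y • S : Sylow 2 L) : Subgroup L) ∧
      ((y • S : Sylow 2 L) : Subgroup L) ≤ normalizer (M.E : Set L) := by
  have : Fact (Nat.Prime 2) := ⟨Nat.prime_two⟩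
  set H : Subgroup L := normalizer (M.E : Set L) with hH
  have hUH : M.Up ≤ H := M.Up_le.trans le_normalizer
  have hp : IsPGroup 2 (M.Up.subgroupOf H) := M.isPGroup_Up.of_equiv (subgroupOfEquivOfLe hUH).symm
  obtain ⟨Q, hQ⟩ := hp.exists_le_sylow
  obtain ⟨h, hh⟩ := MulAction.exists_smul_eq H (S.subtype hS) Q
  refine ⟨(h : L), h.2, ?_, ?_⟩
  · intro u hu
    have h1 : (⟨u, hUH hu⟩ : H) ∈ (Q : Subgroup H) := hQ (mem_subgroupOf.2 hu)
    rw [← hh, Sylow.coe_subgroup_smul] at h1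
    have h2 := Subgroup.mem_pointwise_smul_iff_inv_smul_mem.1 h1
    have h3 : ((MulAut.conj h)⁻¹ • (⟨u, hUH hu⟩ : H) : H).1 ∈ (S : Subgroup L) := h2
    rw [Sylow.coe_subgroup_smul]
    apply Subgroup.mem_pointwise_smul_iff_inv_smul_mem.2
    exact h3
  · intro s hs
    rw [Sylow.coe_subgroup_smul] at hs
    have h1 := Subgroup.mem_pointwise_smul_iff_inv_smul_mem.1 hs
    rw [← map_inv, MulAut.smul_def, MulAut.conj_apply, inv_inv] at h1
    have h2 := mul_mem (mul_mem h.2 (hS h1)) (inv_mem h.2)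
    have h3 : (h : L) * ((h : L)⁻¹ * s * h) * (h : L)⁻¹ = s := by group
    rwa [h3] at h2

theorem mem_smul_sylow {S : Sylow 2 L} {y s : L} : y * s * y⁻¹ ∈ ((y • S : Sylow 2 L) : Subgroup L) ↔
    s ∈ (S : Subgroup L) := by
  rw [Sylow.coe_subgroup_smul, Subgroup.mem_pointwise_smul_iff_inv_smul_mem, ← map_inv, MulAut.smul_def,
    MulAut.conj_apply, inv_inv]
  have e : y⁻¹ * (y * s * y⁻¹) * y = s := by group
  rw [e]

section good

variable {S : Sylow 2 L} (hU : M.Up ≤ (S : Subgroup L)) (hS : (S : Subgroup L) ≤ normalizer (M.E : Set L))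
include hU hS

/-- exceptional case: `C_V(S)` has order two -/
theorem point_good (h4 : 4 ≤ Nat.card F) (hst : ¬ (M.inp hU hS h4).Strong) :
    ∃ w, w ≠ 0 ∧ (∀ s ∈ (S : Subgroup L), M.T s w = w) ∧ ∀ x, (∀ s ∈ (S : Subgroup L), M.T s x = x) → x = 0 ∨ x = w := by
  have : Fact (Nat.Prime 2) := ⟨Nat.prime_two⟩
  have hF4 : Nat.card F = 4 := by
    have hfV : Finite V := Finite.of_equiv _ M.e
    rw [← M.card_Up, (M.inp hU hS h4).card_eq_four hst]
  -- a fixed vector
  let _ : MulAction S (Fin 2 → F) :=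
    { smul := fun s x => M.T s x
      one_smul := fun x => M.T_one x
      mul_smul := fun s t x => M.T_mul s t x }
  have hcard : 2 ∣ Nat.card (Fin 2 → F) := by
    rw [show Nat.card (Fin 2 → F) = Nat.card F * Nat.card F by simp [Nat.card_fun, pow_two]]
    exact (dvd_card (F := F)).mul_left _
  obtain ⟨w, hw, hw0⟩ := S.isPGroup'.exists_fixed_point_of_prime_dvd_card_of_fixed_point (Fin 2 → F) hcard (a := 0)
    (fun s => M.T_zero s)
  have hw' : ∀ s ∈ (S : Subgroup L), M.T s w = w := fun s hs => hw ⟨s, hs⟩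
  refine ⟨w, hw0.symm, hw', ?_⟩
  have hline : ∀ x, (∀ s ∈ (S : Subgroup L), M.T s x = x) → x 1 = 0 := by
    intro x hx
    have h1 := hx (M.m (up 1)) (hU ⟨1, rfl⟩)
    rw [M.T_m, ap_up] at h1
    have := congrFun h1 0
    simpa using this
  -- a field automorphism
  unfold NormAbs.Inp.Strong at hst
  push Not at hst
  obtain ⟨a, ha, g, htS, htA⟩ := hst
  obtain ⟨σ, γ, β, δ, hσ, hγ, hδ, hT⟩ := M.normal_form hU hS htS
  have hσ1 : σ ≠ 1 := fun e => htA (M.mem_Up_of_sg hU hS htS (by rw [← hσ, e]))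
  have h2 : ∀ x, (∀ s ∈ (S : Subgroup L), M.T s x = x) → σ (x 0) * γ = x 0 := by
    intro x hx
    have h1 := hx _ htS
    have h3 := hline x hx
    rw [hT, h3] at h1
    have := congrFun h1 0
    simpa using this
  have hw1 := hline w hw'
  have hw00 : w 0 ≠ 0 := fun h => hw0.symm (ext2 h hw1)
  intro x hx
  by_cases hx0 : x 0 = 0
  · left
    exact ext2 hx0 (hline x hx)
  · right
    set κ := x 0 / w 0 with hκ
    have hκ0 : κ ≠ 0 := div_ne_zero hx0 hw00
    have hκσ : σ κ = κ := by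
      have e1 := h2 x hx
      have e2 := h2 w hw'
      have hσw : σ (w 0) ≠ 0 := by
        intro h
        rw [h, zero_mul] at e2
        exact hw00 e2.symm
      rw [hκ, map_div₀, div_eq_div_iff hσw hw00]
      have e3 : (σ (x 0) * w 0 - x 0 * σ (w 0)) * γ = 0 := by
        linear_combination w 0 * e1 - x 0 * e2
      rcases mul_eq_zero.1 e3 with h | h
      · linear_combination h
      · exact absurd h hγ
    by_cases hκ1 : κ = 1
    · apply ext2
      · rw [hκ, div_eq_one_iff_eq hw00] at hκ1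
        exact hκ1
      · rw [hline x hx, hw1]
    · exfalso
      apply hσ1
      ext c
      by_cases hc : c = 0
      · rw [hc, map_zero]; rfl
      · obtain ⟨i, hi⟩ := NormExc.exists_pow hF4 hκ0 hκ1 c hc
        rw [← hi, map_pow, hκσ]; rfl

end good

/-- **LEMMA NORM, linear level** -/
theorem dich (S : Sylow 2 L) (hS : (S : Subgroup L) ≤ normalizer (M.E : Set L)) :
    (∀ (g : L) (A : Matrix.SpecialLinearGroup (Fin 2) F), g * M.m A * g⁻¹ ∈ M.E) ∨
    (Nat.card F = 4 ∧ (∀ (ρ : F) (v : Fin 2 → F), ρ ≠ 0 → v 1 ≠ 0 → ∃ k : L, M.T k⁻¹ ![ρ, 0] 1 = 0 ∧ M.T k⁻¹ v 1 = 0) ∧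
      ∃ w, w ≠ 0 ∧ (∀ s ∈ (S : Subgroup L), M.T s w = w) ∧
        ∀ x, (∀ s ∈ (S : Subgroup L), M.T s x = x) → x = 0 ∨ x = w) := by
  by_cases h2 : Nat.card F = 2
  · exact Or.inl fun g A => M.mem_E_of_two h2 _
  have h4 : 4 ≤ Nat.card F := by
    have : Fintype F := Fintype.ofFinite F
    obtain ⟨n, -, hn⟩ := FiniteField.card F 2
    rw [Nat.card_eq_fintype_card, hn] at h2 ⊢
    rcases Nat.lt_or_ge (n : ℕ) 2 with h | h
    · exfalso
      have h1 : (n : ℕ) = 1 := by have := n.pos; omega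
      rw [h1] at h2
      exact h2 rfl
    · calc 4 = 2 ^ 2 := by norm_num
        _ ≤ 2 ^ (n : ℕ) := Nat.pow_le_pow_right (by norm_num) h
  obtain ⟨y, hy, hU, hT⟩ := M.exists_good' S hS
  by_cases hst : (M.inp hU hT h4).Strong
  · exact Or.inl fun g A => M.norm_of_strong hU hT h4 hst g A
  right
  refine ⟨?_, fun ρ v hρ hv => NormExc.exc M hU hT h4 hst hρ hv, ?_⟩
  · have hfV : Finite V := Finite.of_equiv _ M.e
    rw [← M.card_Up, (M.inp hU hT h4).card_eq_four hst]
  · obtain ⟨w, hw0, hw1, hw2⟩ := M.point_good hU hT h4 hst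
    refine ⟨M.T y⁻¹ w, M.T_ne_zero hw0, ?_, ?_⟩
    · intro s hs
      have h1 := hw1 _ (mem_smul_sylow.2 hs)
      have h3 := congrArg (M.T y⁻¹) h1
      rw [← M.T_mul] at h3
      have e : y⁻¹ * (y * s * y⁻¹) = s * y⁻¹ := by group
      rwa [e, M.T_mul] at h3
    · intro x hx
      have h1 := hw2 (M.T y x) (by
        intro s hs
        have h3 := hx (y⁻¹ * s * y) (by
          rw [← mem_smul_sylow (y := y)]
          have e : y * (y⁻¹ * s * y) * y⁻¹ = s := by group
          rwa [e])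
        have h5 := congrArg (M.T y) h3
        rw [← M.T_mul] at h5
        have e : y * (y⁻¹ * s * y) = s * y := by group
        rwa [e, M.T_mul] at h5)
      rcases h1 with h1 | h1
      · left
        rw [← M.T_inv_T y x, h1, M.T_zero]
      · right
        rw [← h1, M.T_inv_T]

end NormLev.Co

/-! ### The group level -/

namespace PreMod

variable {G : Type*} [Group G] {F : Type*} [Field F] {V : Subgroup G} (M : PreMod F V)

/-- the linear group induced by `N_G(V)` -/
abbrev Lin (V : Subgroup G) : Subgroup (MulAut V) := V.normalizerMonoidHom.range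

/-- the linear map induced by `g` -/
noncomputable def rr (g : normalizer (V : Set G)) : Lin V := V.normalizerMonoidHom.rangeRestrict g

theorem rr_smul (g : normalizer (V : Set G)) (v : V) : ((rr g • v : V) : G) = g * v * (g : G)⁻¹ := rfl

theorem rr_mul (g h : normalizer (V : Set G)) : rr (g * h) = rr g * rr h := map_mul _ _ _

theorem rr_inv (g : normalizer (V : Set G)) : rr g⁻¹ = (rr g)⁻¹ := map_inv _ _

theorem rr_surj (x : Lin V) : ∃ g : normalizer (V : Set G), rr g = x :=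
  V.normalizerMonoidHom.rangeRestrict_surjective x

/-- the bijection `F² ≃ V` -/
noncomputable def eqv : (Fin 2 → F) ≃ V := Equiv.ofBijective (fun x => ⟨M.e x, M.e_mem x⟩) (by
  constructor
  · intro x y h
    exact M.e_inj (congrArg Subtype.val h)
  · rintro ⟨v, hv⟩
    obtain ⟨x, rfl⟩ := (M.mem_iff v).1 hv
    exact ⟨x, rfl⟩)

theorem eqv_coe (x : Fin 2 → F) : ((M.eqv x : V) : G) = M.e x := rfl

/-- the linear level -/
noncomputable def toCo : NormLev.Co F (Lin V) V where
  e := M.eqv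
  e_add x y := Subtype.ext (by
    show M.e (x + y) = M.e x * M.e y
    rw [M.e_add])
  m A := rr ⟨(M.lift A).choose, M.mem_normalizer (M.lift A).choose_spec⟩
  m_smul A x := Subtype.ext (by
    rw [rr_smul]
    exact (M.lift A).choose_spec x)
  faith g h := by
    apply Subtype.ext
    apply MulEquiv.ext
    intro v
    exact h v

theorem e_T (g : normalizer (V : Set G)) (x : Fin 2 → F) : M.e (M.toCo.T (rr g) x) = g * M.e x * (g : G)⁻¹ := by
  have h := congrArg Subtype.val (M.toCo.e_T (rr g) x)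
  exact h

theorem ind_iff (g : normalizer (V : Set G)) (A : Matrix.SpecialLinearGroup (Fin 2) F) :
    M.Ind g A ↔ M.toCo.m A = rr g := by
  constructor
  · intro h
    apply M.toCo.ext
    intro x
    rw [M.toCo.T_m]
    apply M.e_inj
    rw [M.e_T, h]
  · intro h x
    rw [← M.e_T, ← h, M.toCo.T_m]

theorem mem_E_iff (g : normalizer (V : Set G)) : rr g ∈ M.toCo.E ↔ ∃ A, M.Ind g A := by
  constructor
  · rintro ⟨A, hA⟩
    exact ⟨A, (M.ind_iff g A).2 hA⟩
  · rintro ⟨A, hA⟩
    exact ⟨A, (M.ind_iff g A).1 hA⟩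

/-- **LEMMA NORM** -/
theorem dich [Finite G] [Finite F] [CharP F 2] (S : Sylow 2 G) (hSV : (S : Subgroup G) ≤ normalizer (V : Set G))
    (hS : ∀ s ∈ (S : Subgroup G), M.Nm s) :
    (∀ g ∈ normalizer (V : Set G), M.Nm g) ∨ M.Exc (S : Subgroup G) := by
  have : Fact (Nat.Prime 2) := ⟨Nat.prime_two⟩
  have hsurj : Function.Surjective V.normalizerMonoidHom.rangeRestrict := V.normalizerMonoidHom.rangeRestrict_surjective
  let S' : Sylow 2 (Lin V) := (S.subtype hSV).mapSurjective hsurj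
  have hS' : ∀ x : Lin V, x ∈ (S' : Subgroup (Lin V)) ↔ ∃ s : normalizer (V : Set G), (s : G) ∈ (S : Subgroup G) ∧ rr s = x := by
    intro x
    show x ∈ ((S.subtype hSV : Sylow 2 (normalizer (V : Set G))) : Subgroup _).map V.normalizerMonoidHom.rangeRestrict ↔ _
    rw [Subgroup.mem_map]
    constructor
    · rintro ⟨s, hs, rfl⟩
      exact ⟨s, hs, rfl⟩
    · rintro ⟨s, hs, rfl⟩
      exact ⟨s, hs, rfl⟩
  have hconj : ∀ s : normalizer (V : Set G), (s : G) ∈ (S : Subgroup G) → ∀ x ∈ M.toCo.E, rr s * x * (rr s)⁻¹ ∈ M.toCo.E := by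
    intro s hs x hx
    obtain ⟨h, rfl⟩ := rr_surj x
    obtain ⟨A, hA⟩ := (M.mem_E_iff h).1 hx
    obtain ⟨B, hB⟩ := hS s hs h A hA
    rw [← rr_inv, ← rr_mul, ← rr_mul]
    exact (M.mem_E_iff _).2 ⟨B, hB⟩
  have hN : (S' : Subgroup (Lin V)) ≤ normalizer (M.toCo.E : Set (Lin V)) := by
    intro x hx
    obtain ⟨s, hs, rfl⟩ := (hS' x).1 hx
    rw [mem_normalizer_iff]
    intro y
    constructor
    · exact hconj s hs y
    · intro hy
      have h1 := hconj s⁻¹ (inv_mem hs) _ hy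
      rw [rr_inv, inv_inv] at h1
      have e : (rr s)⁻¹ * (rr s * y * (rr s)⁻¹) * rr s = y := by group
      rwa [e] at h1
  rcases M.toCo.dich S' hN with h | ⟨h4, hf, w, hw0, hw1, hw2⟩
  · left
    intro g hg h' A hA
    have h1 := h (rr ⟨g, hg⟩) A
    rw [(M.ind_iff ⟨h', M.mem_normalizer hA⟩ A).1 hA, ← rr_inv, ← rr_mul, ← rr_mul] at h1
    exact (M.mem_E_iff _).1 h1
  · right
    have hmul : ∀ (g : normalizer (V : Set G)) (x : Fin 2 → F), M.e (M.toCo.T (rr g)⁻¹ x) = (g : G)⁻¹ * M.e x * g := by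
      intro g x
      rw [← rr_inv, M.e_T]
      simp
    have hfix : ∀ x, (∀ s ∈ (S' : Subgroup (Lin V)), M.toCo.T s x = x) ↔ M.e x ∈ centralizer ((S : Subgroup G) : Set G) := by
      intro x
      rw [mem_centralizer_iff]
      constructor
      · intro h s hs
        have h1 := h _ ((hS' _).2 ⟨⟨s, hSV hs⟩, hs, rfl⟩)
        have h2 := M.e_T ⟨s, hSV hs⟩ x
        rw [h1] at h2
        rw [eq_mul_inv_iff_mul_eq] at h2
        exact h2.symm
      · intro h s hs
        obtain ⟨s, hs', rfl⟩ := (hS' s).1 hs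
        apply M.e_inj
        rw [M.e_T, h s hs', mul_inv_cancel_right]
    refine ⟨h4, ?_, w, hw0, ?_, ?_, ?_⟩
    · rintro w hw _ ⟨c, rfl⟩ hr v hv hvw
      obtain ⟨x, rfl⟩ := (M.mem_iff v).1 hv
      have hc : c ≠ 0 := by
        rintro rfl
        exact hr (by rw [zero_smul, M.e_zero])
      obtain ⟨P, hP⟩ := exists_ap_e hw
      have hPc : ap P⁻¹ (c • w) = ![c, 0] := by
        rw [← hP, ← ap_smul, ap_inv_ap]
        apply ext2 <;> simp
      have hline : ∀ z : Fin 2 → F, z 1 = 0 → M.e (ap P z) ∈ M.line w := by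
        intro z hz
        refine M.e_mem_line.2 ⟨z 0, ?_⟩
        rw [← hP, ← ap_smul]
        congr 1
        apply ext2 <;> simp [hz]
      have hx1 : ap P⁻¹ x 1 ≠ 0 := by
        intro h
        apply hvw
        have := hline _ h
        rwa [ap_ap_inv] at this
      obtain ⟨k, hk1, hk2⟩ := hf c (ap P⁻¹ x) hc hx1
      obtain ⟨k, rfl⟩ := rr_surj k
      obtain ⟨p, hp⟩ := M.lift P
      have hpV := M.mem_normalizer hp
      have hp' : ∀ y, p⁻¹ * M.e y * p = M.e (ap P⁻¹ y) := by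
        intro y
        have h1 := hp (ap P⁻¹ y)
        rw [ap_ap_inv] at h1
        rw [← h1]; group
      refine ⟨p * k * p⁻¹, mul_mem (mul_mem hpV k.2) (inv_mem hpV), ?_, ?_⟩
      · rw [mem_cj]
        have e : (p * k * p⁻¹)⁻¹ * M.e (c • w) * (p * k * p⁻¹) =
            p * ((k : G)⁻¹ * (p⁻¹ * M.e (c • w) * p) * k) * p⁻¹ := by group
        rw [e, hp', hPc, ← hmul, hp]
        exact hline _ hk1
      · rw [mem_cj]
        have e : (p * k * p⁻¹)⁻¹ * M.e x * (p * k * p⁻¹) =
            p * ((k : G)⁻¹ * (p⁻¹ * M.e x * p) * k) * p⁻¹ := by group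
        rw [e, hp', ← hmul, hp]
        exact hline _ hk2
    · -- `S` normalises the line
      intro s hs
      have hs' : rr ⟨s, hSV hs⟩ ∈ (S' : Subgroup (Lin V)) := (hS' _).2 ⟨⟨s, hSV hs⟩, hs, rfl⟩
      have key : ∀ s : normalizer (V : Set G), (s : G) ∈ (S : Subgroup G) → ∀ z ∈ M.line w, (s : G) * z * (s : G)⁻¹ ∈ M.line w := by
        rintro s hs _ ⟨c, rfl⟩
        have hs' : rr s ∈ (S' : Subgroup (Lin V)) := (hS' _).2 ⟨s, hs, rfl⟩
        obtain ⟨σ, hσ⟩ := M.toCo.exists_sg (hN hs')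
        rw [← M.e_T, hσ, hw1 _ hs']
        exact ⟨_, rfl⟩
      rw [mem_normalizer_iff]
      intro z
      constructor
      · exact key ⟨s, hSV hs⟩ hs z
      · intro hz
        have h1 := key ⟨s⁻¹, hSV (inv_mem hs)⟩ (inv_mem hs) _ hz
        have e : s⁻¹ * (s * z * s⁻¹) * s⁻¹⁻¹ = z := by group
        rwa [e] at h1
    · rintro v ⟨hv, hvS⟩
      obtain ⟨x, rfl⟩ := (M.mem_iff v).1 hv
      rcases hw2 x ((hfix x).2 hvS) with rfl | rfl
      · rw [M.e_zero]; exact one_mem _
      · exact ⟨1, by rw [one_smul]⟩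
    · have h1 : ((V ⊓ centralizer ((S : Subgroup G) : Set G) : Subgroup G) : Set G) = {1, M.e w} := by
        ext v
        constructor
        · rintro ⟨hv, hvS⟩
          obtain ⟨x, rfl⟩ := (M.mem_iff v).1 hv
          rcases hw2 x ((hfix x).2 hvS) with rfl | rfl
          · left; exact M.e_zero
          · right; rfl
        · rintro (rfl | rfl)
          · exact one_mem (V ⊓ centralizer ((S : Subgroup G) : Set G))
          · exact ⟨M.e_mem w, (hfix w).1 hw1⟩
      have h2 : Nat.card ↥(V ⊓ centralizer ((S : Subgroup G) : Set G)) =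
          ((V ⊓ centralizer ((S : Subgroup G) : Set G) : Subgroup G) : Set G).ncard := rfl
      rw [h2, h1, Set.ncard_pair]
      intro h
      exact hw0 (M.e_eq_one.1 h.symm)

end PreMod

end Cfsg.Agent.Omega.NatPair
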