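import Cfsg.Agent.Omega.NatPair.Norm

/-!
# LEMMA NORM for a Sylow 2-subgroup `T` of `N_G(V)`

`PreMod.dich_sub`: `PreMod.dich` with `T ≤ N_G(V)` a 2-group, `¬ 2 ∣ |N_G(V) : T|`, in place of a Sylow 2-subgroup of `G`
(`PreMod.dich` for the group `N_G(V)`).
-/

set_option autoImplicit false
set_option linter.unusedSectionVars false

namespace Cfsg.Agent.Omega.NatPair

open Subgroup Cfsg.Agent.Lib.SL2Mat

namespace PreMod

variable {G : Type*} [Group G] {F : Type*} [Field F] {V : Subgroup G} (M : PreMod F V)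

/-- `V` as a module for the group `N_G(V)` -/
def sub : PreMod F (V.subgroupOf (normalizer (V : Set G))) where
  e x := ⟨M.e x, le_normalizer (M.e_mem x)⟩
  e_add x y := Subtype.ext (M.e_add x y)
  e_inj _ _ h := M.e_inj (congrArg Subtype.val h)
  mem_iff g := by
    rw [mem_subgroupOf, M.mem_iff]
    exact ⟨fun ⟨x, hx⟩ => ⟨x, Subtype.ext hx⟩, fun ⟨x, hx⟩ => ⟨x, congrArg Subtype.val hx⟩⟩
  lift A := by
    obtain ⟨g, hg⟩ := M.lift A
    exact ⟨⟨g, M.mem_normalizer hg⟩, fun x => Subtype.ext (hg x)⟩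

theorem sub_ind {g : normalizer (V : Set G)} {A : Matrix.SpecialLinearGroup (Fin 2) F} :
    M.sub.Ind g A ↔ M.Ind (g : G) A :=
  ⟨fun h x => congrArg Subtype.val (h x), fun h x => Subtype.ext (h x)⟩

theorem sub_Nm {g : normalizer (V : Set G)} : M.sub.Nm g ↔ M.Nm (g : G) := by
  constructor
  · intro h k A hA
    obtain ⟨B, hB⟩ := h ⟨k, M.mem_normalizer hA⟩ A (M.sub_ind.2 hA)
    exact ⟨B, M.sub_ind.1 hB⟩
  · intro h k A hA
    obtain ⟨B, hB⟩ := h (k : G) A (M.sub_ind.1 hA)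
    exact ⟨B, M.sub_ind.2 hB⟩

theorem mem_sub_line {g : normalizer (V : Set G)} {w : Fin 2 → F} : g ∈ M.sub.line w ↔ (g : G) ∈ M.line w :=
  ⟨fun ⟨c, hc⟩ => ⟨c, congrArg Subtype.val hc⟩, fun ⟨c, hc⟩ => ⟨c, Subtype.ext hc⟩⟩

theorem mem_normalizer_sub {H N : Subgroup G} {g : N} (hg : (g : G) ∈ normalizer (H : Set G)) :
    g ∈ normalizer ((H.subgroupOf N : Subgroup N) : Set N) := by
  rw [mem_normalizer_iff]
  intro x
  rw [mem_subgroupOf, mem_subgroupOf]
  exact mem_normalizer_iff.1 hg x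

/-- **LEMMA NORM** for a Sylow 2-subgroup `T` of `N_G(V)` -/
theorem dich_sub [Finite G] [Finite F] [CharP F 2] {T : Subgroup G} (hT2 : IsPGroup 2 T)
    (hTV : T ≤ normalizer (V : Set G)) (hTs : ¬ 2 ∣ T.relIndex (normalizer (V : Set G)))
    (hT : ∀ t ∈ T, M.Nm t) : (∀ g ∈ normalizer (V : Set G), M.Nm g) ∨ M.Exc T := by
  have : Fact (Nat.Prime 2) := ⟨Nat.prime_two⟩
  set N : Subgroup G := normalizer (V : Set G) with hN
  have hp : IsPGroup 2 (T.subgroupOf N) := hT2.comap_of_injective N.subtype N.subtype_injective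
  let S : Sylow 2 N := hp.toSylow hTs
  have hS : ∀ x : N, x ∈ (S : Subgroup N) ↔ (x : G) ∈ T := fun x => Iff.rfl
  have hn : ∀ x : N, x ∈ normalizer ((V.subgroupOf N : Subgroup N) : Set N) := fun x =>
    mem_normalizer_sub x.2
  rcases M.sub.dich S (fun x _ => hn x) (fun x hx => M.sub_Nm.2 (hT x ((hS x).1 hx))) with h | h
  · left
    intro g hg
    exact M.sub_Nm.1 (h ⟨g, hg⟩ (hn _))
  · right
    refine ⟨h.card, ?_, ?_⟩
    · intro w hw r hr hr1 v hv hvw
      obtain ⟨g, -, h1, h2⟩ := h.fuse w hw ⟨r, le_normalizer (M.line_le w hr)⟩ (M.mem_sub_line.2 hr)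
        (fun e => hr1 (congrArg Subtype.val e)) ⟨v, le_normalizer hv⟩ hv
        (fun e => hvw (M.mem_sub_line.1 e))
      rw [mem_cj] at h1 h2
      exact ⟨g, g.2, mem_cj.2 (M.mem_sub_line.1 h1), mem_cj.2 (M.mem_sub_line.1 h2)⟩
    · obtain ⟨w, hw, h1, h2, h3⟩ := h.point
      have hc : ∀ x : N, x ∈ centralizer ((S : Subgroup N) : Set N) ↔ (x : G) ∈ centralizer (T : Set G) := by
        intro x
        rw [mem_centralizer_iff, mem_centralizer_iff]
        constructor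
        · intro hx t ht
          exact congrArg Subtype.val (hx ⟨t, hTV ht⟩ ht)
        · intro hx t ht
          exact Subtype.ext (hx t ht)
      refine ⟨w, hw, ?_, ?_, ?_⟩
      · intro t ht
        have h4 := h1 (show (⟨t, hTV ht⟩ : N) ∈ (S : Subgroup N) from ht)
        rw [mem_normalizer_iff] at h4 ⊢
        intro x
        constructor
        · intro hx
          exact M.mem_sub_line.1 ((h4 ⟨x, le_normalizer (M.line_le w hx)⟩).1 (M.mem_sub_line.2 hx))
        · intro hx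
          have hxV : x ∈ V := by
            have h5 := (mem_normalizer_iff.1 (hTV ht) x).2 (M.line_le w hx)
            exact h5
          exact M.mem_sub_line.1 ((h4 ⟨x, le_normalizer hxV⟩).2 (M.mem_sub_line.2 hx))
      · rintro x ⟨hx, hxT⟩
        exact M.mem_sub_line.1 (h2 (show (⟨x, le_normalizer hx⟩ : N) ∈ _ from ⟨hx, (hc _).2 hxT⟩))
      · rw [← h3]
        refine Nat.card_congr ⟨fun x => ⟨⟨x, le_normalizer x.2.1⟩, ⟨x.2.1, (hc _).2 x.2.2⟩⟩,
          fun x => ⟨x, ⟨x.2.1, (hc _).1 x.2.2⟩⟩, fun x => rfl, fun x => rfl⟩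

end PreMod

end Cfsg.Agent.Omega.NatPair
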