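import Cfsg.Agent.Omega.NatPair.NormP1
import Cfsg.Agent.Omega.NatPair.NormExc

/-!
# LEMMA NORM', (III) + (IV) (helper958, bb OMEGA #18813): `N_G(V)` is semilinear

`Co F L V`, `O` a 2-subgroup of `N_L(E)` which is normalised by the stabiliser of `r` in `L` and fixes `r`.  If `O ≠ 1` then
`E` is normal in `L`.

`line_of_fix` : an element `n` fixing `e₁` fixes the line `F e₁`.  Proof without any assumption on `|F|` : `a₀ = up c₀ ∈ O`,
`a' = n a₀ n⁻¹`, `σ` the field automorphism of `a'`, `σ² = 1 ≠ σ`, `κ = det(e₁, v₁)`, `v₁ ∈ n(F e₁)`.  Every vector `v` is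
with `a' v` in a common `g(F e₁)`, so every `u` with `a₀ u`; `det` has values in `Fix(σ) κ` on all `g(F e₁)`, but
`det(u, a₀ u) = c₀ y²` is arbitrary.
-/

set_option autoImplicit false
set_option linter.unusedSectionVars false

namespace Cfsg.Agent.Omega.NatPair.NormLev.Co

open Subgroup Cfsg.Agent.Lib.SL2Mat
open NormExc (exists_ap2)

theorem eq_of_sq_cyclic {C : Type*} [Group C] [Finite C] [IsCyclic C] {a b : C} (ha : a ^ 2 = 1) (hb : b ^ 2 = 1)
    (ha1 : a ≠ 1) (hb1 : b ≠ 1) : a = b := by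
  classical
  by_contra hab
  have := Fintype.ofFinite C
  have h1 := IsCyclic.card_pow_eq_one_le (α := C) (n := 2) (by norm_num)
  have h2 : ({1, a, b} : Finset C) ⊆ Finset.univ.filter (fun x => x ^ 2 = 1) := by
    intro x hx
    simp only [Finset.mem_insert, Finset.mem_singleton] at hx
    rw [Finset.mem_filter]
    refine ⟨Finset.mem_univ _, ?_⟩
    rcases hx with rfl | rfl | rfl
    · exact one_pow _
    · exact ha
    · exact hb
  have h3 := Finset.card_le_card h2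
  have h4 : ({1, a, b} : Finset C).card = 3 :=
    Finset.card_eq_three.2 ⟨1, a, b, ha1.symm, hb1.symm, hab, rfl⟩
  omega

theorem dt_ap {F : Type*} [Field F] (A : Matrix.SpecialLinearGroup (Fin 2) F) (x y : Fin 2 → F) :
    dt (ap A x) (ap A y) = dt x y := by
  unfold dt
  rw [ap_zero', ap_zero', ap_one', ap_one']
  linear_combination (x 0 * y 1 - x 1 * y 0) * det_eq A

variable {F L V : Type*} [Field F] [Group L] [Group V] [MulDistribMulAction L V] (M : Co F L V)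

theorem dt_T [Finite F] {o : L} (ho : o ∈ normalizer (M.E : Set L)) (x y : Fin 2 → F) :
    dt (M.T o x) (M.T o y) = dt (M.T o ![1, 0]) (M.T o ![0, 1]) * M.sg ⟨o, ho⟩ (dt x y) := by
  set σ := M.sg ⟨o, ho⟩ with hσ
  have key : ∀ x, M.T o x = σ (x 0) • M.T o ![1, 0] + σ (x 1) • M.T o ![0, 1] := by
    intro x
    have h2 : x = x 0 • ![1, 0] + x 1 • ![0, 1] := by
      apply ext2 <;> simp
    have h3 := M.sg_spec ⟨o, ho⟩
    nth_rewrite 1 [h2]
    rw [M.T_add, h3, h3]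
  rw [key x, key y]
  unfold dt
  simp only [Pi.add_apply, Pi.smul_apply, smul_eq_mul, map_sub, map_mul]
  ring

/-- the normal form of the elements of `N(E)` fixing `e₁` -/
theorem nf [Finite F] {o : L} (ho : o ∈ normalizer (M.E : Set L)) (h1 : M.T o ![1, 0] = ![1, 0]) :
    ∃ β δ : F, δ ≠ 0 ∧ ∀ x, M.T o x = ![M.sg ⟨o, ho⟩ (x 0) + M.sg ⟨o, ho⟩ (x 1) * β, M.sg ⟨o, ho⟩ (x 1) * δ] := by
  set σ := M.sg ⟨o, ho⟩ with hσ
  have key : ∀ x, M.T o x = ![σ (x 0) + σ (x 1) * M.T o ![0, 1] 0, σ (x 1) * M.T o ![0, 1] 1] := by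
    intro x
    have h2 : x = x 0 • ![1, 0] + x 1 • ![0, 1] := by
      apply ext2 <;> simp
    have h3 := M.sg_spec ⟨o, ho⟩
    nth_rewrite 1 [h2]
    rw [M.T_add, h3, h3, h1]
    apply ext2
    · simp [hσ]
    · simp [hσ]
  refine ⟨_, _, ?_, key⟩
  intro h
  have h2 := M.T_T_inv o ![0, 1]
  have h3 := congrFun h2 1
  rw [key] at h3
  simp [h] at h3

/-- conjugation on the transvections -/
theorem conj_up [Finite F] {o : L} (ho : o ∈ normalizer (M.E : Set L)) {β δ : F} (hδ : δ ≠ 0)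
    (h : ∀ x, M.T o x = ![M.sg ⟨o, ho⟩ (x 0) + M.sg ⟨o, ho⟩ (x 1) * β, M.sg ⟨o, ho⟩ (x 1) * δ]) (c : F) :
    o * M.m (up c) = M.m (up (M.sg ⟨o, ho⟩ c / δ)) * o := by
  refine M.ext (fun x => ?_)
  rw [M.T_mul, M.T_mul, M.T_m, M.T_m, h x, ap_up, h, ap_up]
  apply ext2
  · simp only [Matrix.cons_val_zero, Matrix.cons_val_one, Matrix.cons_val_fin_one, map_add, map_mul]
    field_simp
    ring
  · simp only [Matrix.cons_val_one, Matrix.cons_val_fin_one]

theorem T_up_e1 (c : F) : M.T (M.m (up c)) ![1, 0] = ![1, 0] := by rw [M.T_m, ap_up_e]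

theorem T_up_smul (c s : F) : M.T (M.m (up c)) (s • ![1, 0]) = s • ![1, 0] := by rw [M.T_m, ap_smul, ap_up_e]

theorem one_of_fix_up {c : F} (hc : c ≠ 0) {x : Fin 2 → F} (h : M.T (M.m (up c)) x = x) : x 1 = 0 := by
  rw [M.T_m, ap_up] at h
  have h2 := congrFun h 0
  simpa [hc] using h2

theorem eq_smul_e1 {x : Fin 2 → F} (h : x 1 = 0) : x = x 0 • ![1, 0] := by
  apply ext2 <;> simp [h]

/-- a linear 2-element of `N(E)` fixing `e₁` is a transvection -/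
theorem mem_Up_of_lin [Finite F] [CharP F 2] {o : L} (ho : o ∈ normalizer (M.E : Set L)) (h1 : M.T o ![1, 0] = ![1, 0])
    {k : ℕ} (hk : o ^ 2 ^ k = 1) (hs : M.sg ⟨o, ho⟩ = 1) : o ∈ M.Up := by
  obtain ⟨β, δ, hδ, h⟩ := M.nf ho h1
  rw [hs] at h
  have hT : ∀ x, M.T o x = ![x 0 + x 1 * β, x 1 * δ] := h
  have hpow : ∀ (n : ℕ) x, M.T (o ^ n) x 1 = x 1 * δ ^ n := by
    intro n
    induction n with
    | zero => intro x; rw [pow_zero, M.T_one, pow_zero, mul_one]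
    | succ n ih =>
      intro x
      rw [pow_succ', M.T_mul, hT]
      simp only [Matrix.cons_val_one, Matrix.cons_val_fin_one, ih, pow_succ]
      ring
  have h3 := hpow (2 ^ k) ![0, 1]
  rw [hk, M.T_one] at h3
  have hδ1 : δ = 1 := by
    have h4 : δ ^ 2 ^ k = 1 := by simpa using h3.symm
    have h5 : (δ - 1) ^ 2 ^ k = 0 := by rw [sub_pow_char_pow, h4, one_pow, sub_self]
    exact sub_eq_zero.1 (pow_eq_zero_iff (by positivity) |>.1 h5)
  refine ⟨β, M.ext (fun x => ?_)⟩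
  rw [M.T_m, hT, ap_up, hδ1]
  apply ext2
  · simp [mul_comm]
  · simp

section main

variable [Finite F] [CharP F 2] {O : Subgroup L} (hO2 : IsPGroup 2 O) (hOE : O ≤ normalizer (M.E : Set L))
  (hOr : ∀ o ∈ O, M.T o ![1, 0] = ![1, 0])
  (hn : ∀ n : L, M.T n ![1, 0] = ![1, 0] → ∀ o ∈ O, n * o * n⁻¹ ∈ O)
include hOE hOr hn

/-- `O` contains a transvection -/
theorem exists_up_mem (h1 : O ≠ ⊥) : ∃ c : F, c ≠ 0 ∧ M.m (up c) ∈ O := by
  by_contra hne
  push Not at hne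
  have hU : ∀ o ∈ O, o ∈ M.Up → o = 1 := by
    rintro _ ho ⟨c, rfl⟩
    by_cases hc : c = 0
    · rw [hc, up_zero, M.m_one]
    · exact absurd ho (hne c hc)
  apply h1
  rw [eq_bot_iff]
  intro o ho
  rw [mem_bot]
  obtain ⟨β, δ, hδ, h⟩ := M.nf (hOE ho) (hOr o ho)
  set σ := M.sg ⟨o, hOE ho⟩ with hσ
  have key : ∀ c : F, σ c / δ = c := by
    intro c
    have h2 : M.m (up c) * o⁻¹ * (M.m (up c))⁻¹ ∈ O := hn _ (M.T_up_e1 c) _ (inv_mem ho)
    have h3 : o * (M.m (up c) * o⁻¹ * (M.m (up c))⁻¹) ∈ O := mul_mem ho h2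
    have h4 : o * (M.m (up c) * o⁻¹ * (M.m (up c))⁻¹) = M.m (up (σ c / δ - c)) := by
      have e : o * (M.m (up c) * o⁻¹ * (M.m (up c))⁻¹) = o * M.m (up c) * o⁻¹ * (M.m (up c))⁻¹ := by group
      rw [e, M.conj_up (hOE ho) hδ h, mul_inv_cancel_right, ← M.m_inv, up_inv, ← M.m_mul, up_mul, ← hσ, sub_eq_add_neg]
    have h5 := hU _ h3 (by rw [h4]; exact ⟨_, rfl⟩)
    rw [h4, ← M.m_one] at h5
    have h6 := M.m_inj h5
    rw [← up_zero] at h6
    exact sub_eq_zero.1 (up_inj h6)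
  have hδ1 : δ = 1 := by
    have h2 := key 1
    rw [map_one, one_div] at h2
    exact inv_eq_one.1 h2
  have hσ1 : ∀ c, σ c = c := by
    intro c
    have h2 := key c
    rwa [hδ1, div_one] at h2
  refine hU o ho ⟨β, M.ext (fun x => ?_)⟩
  rw [M.T_m, h, ap_up, hδ1, hσ1, hσ1]
  apply ext2
  · simp [mul_comm]
  · simp

include hO2

theorem line_of_fix (h1 : O ≠ ⊥) {n : L} (hn1 : M.T n ![1, 0] = ![1, 0]) (c : F) :
    ∃ d : F, M.T n (c • ![1, 0]) = d • ![1, 0] := by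
  have hcyc : IsCyclic (RingAut F) := LieRecognition.FieldSemilinear.isCyclic_ringAut F
  have hfinA : Finite (RingAut F) := Finite.of_injective (fun s : F ≃+* F => (s : F → F)) DFunLike.coe_injective
  have hpow : ∀ o ∈ O, ∃ k : ℕ, o ^ 2 ^ k = 1 := fun o ho => by
    obtain ⟨k, hk⟩ := hO2 ⟨o, ho⟩
    exact ⟨k, congrArg Subtype.val hk⟩
  by_contra hne
  obtain ⟨c₀, hc₀, ha₀⟩ := M.exists_up_mem hOE hOr hn h1
  set a₀ := M.m (up c₀) with ha₀d
  have ha₀2 : a₀ * a₀ = 1 := by rw [ha₀d, ← M.m_mul, up_mul, CharTwo.add_self_eq_zero, up_zero, M.m_one]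
  set v₁ := M.T n (c • ![1, 0]) with hv₁
  set a' := n * a₀ * n⁻¹ with ha'
  have ha'O : a' ∈ O := hn n hn1 a₀ ha₀
  have ha'2 : a' * a' = 1 := by
    rw [ha', show n * a₀ * n⁻¹ * (n * a₀ * n⁻¹) = n * (a₀ * a₀) * n⁻¹ by group, ha₀2, mul_one, mul_inv_cancel]
  set σ := M.sg ⟨a', hOE ha'O⟩ with hσ
  set μ := dt (M.T a' ![1, 0]) (M.T a' ![0, 1]) with hμ
  have hdt : ∀ x y, dt (M.T a' x) (M.T a' y) = μ * σ (dt x y) := fun x y => M.dt_T (hOE ha'O) x y
  have hfix : ∀ x, M.T a' (M.T n x) = M.T n (M.T a₀ x) := by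
    intro x
    rw [ha', M.T_mul, M.T_mul, M.T_inv_T]
  have hfixv : M.T a' v₁ = v₁ := by rw [hv₁, hfix, M.T_up_smul]
  -- `C_V(a') = n(F e₁)`
  have hCV : ∀ x, M.T a' x = x → ∃ t : F, x = M.T n (t • ![1, 0]) := by
    intro x hx
    have h2 : M.T a₀ (M.T n⁻¹ x) = M.T n⁻¹ x := by
      have h3 := hfix (M.T n⁻¹ x)
      rw [M.T_T_inv, hx] at h3
      rw [← M.T_inv_T n (M.T a₀ (M.T n⁻¹ x)), ← h3]
    have h4 := eq_smul_e1 (M.one_of_fix_up hc₀ h2)
    exact ⟨_, by rw [← h4, M.T_T_inv]⟩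
  set κ := dt ![1, 0] v₁ with hκd
  have hκ0 : κ ≠ 0 := by
    intro h
    obtain ⟨d, hd⟩ := exists_smul_of_dt e1_ne h
    exact hne ⟨d, hd⟩
  have hκ : κ = μ * σ κ := by
    have h2 := hdt ![1, 0] v₁
    rwa [hOr a' ha'O, hfixv] at h2
  have hμ0 : μ ≠ 0 := by
    rintro h
    rw [h, zero_mul] at hκ
    exact hκ0 hκ
  have hσκ : σ κ ≠ 0 := fun h => hκ0 (by rw [hκ, h, mul_zero])
  have hF0 : ∀ z, z = μ * σ z → σ (z / κ) = z / κ := by
    intro z hz
    rw [map_div₀, div_eq_div_iff hσκ hκ0]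
    have h2 : μ * (σ z * κ) = μ * (z * σ κ) := by
      have e1 : μ * (σ z * κ) = (μ * σ z) * κ := by ring
      have e2 : μ * (z * σ κ) = z * (μ * σ κ) := by ring
      rw [e1, e2, ← hz, ← hκ]
    exact mul_left_cancel₀ hμ0 h2
  -- `v` and `a' v` lie in a common member
  have P1 : ∀ v, ∃ (g : L) (t₁ t₂ : F), v = M.T g (t₁ • ![1, 0]) ∧ M.T a' v = M.T g (t₂ • ![1, 0]) := by
    intro v
    set z := dt v (M.T a' v) with hz
    have hz1 : z = μ * σ z := by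
      have h2 := hdt v (M.T a' v)
      rw [← M.T_mul, ha'2, M.T_one] at h2
      rw [← h2, hz]
      unfold dt
      have h3 : ∀ a b : F, a - b = b - a := fun a b => by
        rw [CharTwo.sub_eq_add, CharTwo.sub_eq_add, add_comm]
      rw [h3, mul_comm, mul_comm (v 0)]
    by_cases hz0 : z = 0
    · by_cases hv : v = 0
      · refine ⟨1, 0, 0, ?_, ?_⟩
        · rw [zero_smul, M.T_zero, hv]
        · rw [zero_smul, M.T_zero, hv, M.T_zero]
      · obtain ⟨d, hd⟩ := exists_smul_of_dt hv hz0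
        obtain ⟨A, hA⟩ := exists_ap_e hv
        refine ⟨M.m A, 1, d, ?_, ?_⟩
        · rw [M.T_m, one_smul, hA]
        · rw [M.T_m, ap_smul, hA, hd]
    · set s := z / κ with hs
      have hsz : s * κ = z := div_mul_cancel₀ _ hκ0
      have hsf : M.T a' (s • v₁) = s • v₁ := by
        have h2 := M.sg_spec ⟨a', hOE ha'O⟩ s v₁
        rw [← hσ, hF0 z hz1] at h2
        rw [show M.T a' (s • v₁) = s • M.T a' v₁ from h2, hfixv]
      obtain ⟨t, ht⟩ := hCV _ hsf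
      have h3 : dt ![1, 0] (s • v₁) = z := by rw [dt_smul, ← hκd, hsz]
      obtain ⟨A, hA1, hA2⟩ := exists_ap2 (f₁ := ![1, 0]) (f₂ := s • v₁) (g₁ := v) (g₂ := M.T a' v)
        (by rw [h3]; exact hz0) (by rw [h3])
      refine ⟨M.m A * n, 1, t, ?_, ?_⟩
      · rw [one_smul, M.T_mul, hn1, M.T_m, hA1]
      · rw [M.T_mul (M.m A) n, ← ht, M.T_m, hA2]
  have P2 : ∀ u, ∃ (g : L) (t₁ t₂ : F), u = M.T g (t₁ • ![1, 0]) ∧ M.T a₀ u = M.T g (t₂ • ![1, 0]) := by
    intro u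
    obtain ⟨g, t₁, t₂, h2, h3⟩ := P1 (M.T n u)
    refine ⟨n⁻¹ * g, t₁, t₂, ?_, ?_⟩
    · rw [M.T_mul, ← h2, M.T_inv_T]
    · rw [M.T_mul, ← h3, hfix, M.T_inv_T]
  -- `det` on the members
  have Q : ∀ (g : L) (t₁ t₂ : F), dt (M.T g (t₁ • ![1, 0])) (M.T g (t₂ • ![1, 0])) =
      μ * σ (dt (M.T g (t₁ • ![1, 0])) (M.T g (t₂ • ![1, 0]))) := by
    intro g t₁ t₂
    by_cases ht : t₁ = 0
    · rw [ht, zero_smul, M.T_zero]
      have : ∀ y : Fin 2 → F, dt 0 y = 0 := fun y => by unfold dt; simp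
      rw [this, map_zero, mul_zero]
    have hx0 : t₁ • (![1, 0] : Fin 2 → F) ≠ 0 := smul_ne_zero ht e1_ne
    obtain ⟨A, hA⟩ := exists_ap_e (M.T_ne_zero (g := g) hx0)
    have hB : ∀ s : F, ap (dg t₁ ht) (s • ![1, 0]) = (s * t₁) • ![1, 0] := by
      intro s
      apply ext2
      · rw [ap_zero']; simp [mul_comm]
      · rw [ap_one']; simp
    set g' := (M.m A)⁻¹ * g * M.m (dg t₁ ht) with hg'
    have hg'T : ∀ s : F, M.T (M.m A) (M.T g' (s • ![1, 0])) = M.T g ((s * t₁) • ![1, 0]) := by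
      intro s
      rw [← M.T_mul, hg', show M.m A * ((M.m A)⁻¹ * g * M.m (dg t₁ ht)) = g * M.m (dg t₁ ht) by group, M.T_mul, M.T_m, hB]
    have hg'1 : M.T g' ![1, 0] = ![1, 0] := by
      have h2 := hg'T 1
      rw [one_smul, one_mul, ← hA, M.T_m] at h2
      have h3 := congrArg (ap A⁻¹) h2
      rwa [ap_inv_ap, ap_inv_ap] at h3
    set y' := M.T g' ((t₂ / t₁) • ![1, 0]) with hy'
    have hy : M.T g (t₂ • ![1, 0]) = ap A y' := by
      have h2 := hg'T (t₂ / t₁)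
      rw [div_mul_cancel₀ _ ht, M.T_m] at h2
      rw [← h2]
    rw [hy, ← hA, dt_ap]
    set o := g' * a₀ * g'⁻¹ with ho
    have hoO : o ∈ O := hn g' hg'1 a₀ ha₀
    have ho2 : o * o = 1 := by
      rw [ho, show g' * a₀ * g'⁻¹ * (g' * a₀ * g'⁻¹) = g' * (a₀ * a₀) * g'⁻¹ by group, ha₀2, mul_one, mul_inv_cancel]
    have hoy : M.T o y' = y' := by
      rw [ho, hy', M.T_mul, M.T_mul, M.T_inv_T, M.T_up_smul]
    have ho1 : o ≠ 1 := by
      intro h
      have h2 : a₀ = 1 := by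
        have e : a₀ = g'⁻¹ * o * g' := by rw [ho]; group
        rw [e, h]; group
      rw [ha₀d, ← M.m_one] at h2
      have h3 := M.m_inj h2
      rw [← up_zero] at h3
      exact hc₀ (up_inj h3)
    obtain ⟨k, hk⟩ := hpow o hoO
    by_cases hso : M.sg ⟨o, hOE hoO⟩ = 1
    · obtain ⟨d, hd⟩ := M.mem_Up_of_lin (hOE hoO) (hOr o hoO) hk hso
      have hd0 : d ≠ 0 := by
        rintro rfl
        rw [up_zero, M.m_one] at hd
        exact ho1 hd.symm
      rw [← hd] at hoy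
      have h2 := M.one_of_fix_up hd0 hoy
      have h3 : dt ![1, 0] y' = 0 := by
        unfold dt
        simp [h2]
      rw [h3, map_zero, mul_zero]
    · -- `σ_o = σ`
      have hmul : ∀ (x y : L) (hx : x ∈ O) (hy : y ∈ O),
          M.sg ⟨x * y, hOE (mul_mem hx hy)⟩ = M.sg ⟨x, hOE hx⟩ * M.sg ⟨y, hOE hy⟩ := fun x y hx hy =>
        map_mul M.sgHom ⟨x, hOE hx⟩ ⟨y, hOE hy⟩
      have hsone : M.sg ⟨1, one_mem _⟩ = (1 : RingAut F) := map_one M.sgHom
      have hsq : ∀ (x : L) (hx : x ∈ O), x * x = 1 → (M.sg ⟨x, hOE hx⟩ : RingAut F) ^ 2 = 1 := by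
        intro x hx hxx
        rw [pow_two, ← hmul x x hx hx]
        have e : (⟨x * x, hOE (mul_mem hx hx)⟩ : normalizer (M.E : Set L)) = ⟨1, one_mem _⟩ := Subtype.ext hxx
        rw [e, hsone]
      by_cases hσ1 : σ = 1
      · -- impossible: `a'` would be a transvection
        obtain ⟨k', hk'⟩ := hpow a' ha'O
        obtain ⟨d, hd⟩ := M.mem_Up_of_lin (hOE ha'O) (hOr a' ha'O) hk' hσ1
        have hd0 : d ≠ 0 := by
          rintro rfl
          rw [up_zero, M.m_one] at hd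
          have h2 : a₀ = 1 := by
            have e : a₀ = n⁻¹ * a' * n := by rw [ha']; group
            rw [e, ← hd]; group
          rw [ha₀d, ← M.m_one] at h2
          have h3 := M.m_inj h2
          rw [← up_zero] at h3
          exact hc₀ (up_inj h3)
        rw [← hd] at hfixv
        have h2 := M.one_of_fix_up hd0 hfixv
        exact absurd ⟨_, eq_smul_e1 h2⟩ hne
      · have heq : M.sg ⟨o, hOE hoO⟩ = σ := eq_of_sq_cyclic (C := RingAut F) (hsq o hoO ho2) (hsq a' ha'O ha'2) hso hσ1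
        -- `a' o` is linear
        have h2 : M.sg ⟨a' * o, hOE (mul_mem ha'O hoO)⟩ = 1 := by
          rw [hmul a' o ha'O hoO, heq, ← pow_two]
          exact hsq a' ha'O ha'2
        obtain ⟨k', hk'⟩ := hpow (a' * o) (mul_mem ha'O hoO)
        obtain ⟨d, hd⟩ := M.mem_Up_of_lin (hOE (mul_mem ha'O hoO)) (hOr _ (mul_mem ha'O hoO)) hk' h2
        have h3 : o = a' * M.m (up d) := by rw [hd, ← mul_assoc, ha'2, one_mul]
        have h4 : dt (M.T o ![1, 0]) (M.T o y') = μ * σ (dt ![1, 0] y') := by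
          rw [h3, M.T_mul a', M.T_mul a', hdt, M.T_m, M.T_m, dt_ap]
        rwa [hOr o hoO, hoy] at h4
  -- `σ = 1`
  have hσ1 : σ = 1 := by
    ext z
    have : Fintype F := Fintype.ofFinite F
    obtain ⟨y, hy⟩ : ∃ y : F, y ^ 2 = z * κ / c₀ := by
      obtain ⟨y, hy⟩ := (PerfectRing.bijective_frobenius (R := F) (p := 2)).2 (z * κ / c₀)
      exact ⟨y, hy⟩
    obtain ⟨g, t₁, t₂, h2, h3⟩ := P2 ![0, y]
    have h4 := Q g t₁ t₂
    rw [← h2, ← h3, ha₀d, M.T_m, ap_up] at h4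
    have h5 : dt ![0, y] ![(![0, y] : Fin 2 → F) 0 + c₀ * (![0, y] : Fin 2 → F) 1, (![0, y] : Fin 2 → F) 1] = z * κ := by
      unfold dt
      simp only [Matrix.cons_val_zero, Matrix.cons_val_one, Matrix.cons_val_fin_one]
      have e : (0 : F) * y - y * (0 + c₀ * y) = -(c₀ * y ^ 2) := by ring
      rw [e, CharTwo.neg_eq, hy]
      field_simp
    rw [h5, map_mul] at h4
    have h6 : z * κ = σ z * κ := by
      calc z * κ = μ * (σ z * σ κ) := h4
        _ = σ z * (μ * σ κ) := by ring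
        _ = σ z * κ := by rw [← hκ]
    exact (mul_right_cancel₀ hκ0 h6).symm
  obtain ⟨k', hk'⟩ := hpow a' ha'O
  obtain ⟨d, hd⟩ := M.mem_Up_of_lin (hOE ha'O) (hOr a' ha'O) hk' hσ1
  have hd0 : d ≠ 0 := by
    rintro rfl
    rw [up_zero, M.m_one] at hd
    have h2 : a₀ = 1 := by
      have e : a₀ = n⁻¹ * a' * n := by rw [ha']; group
      rw [e, ← hd]; group
    rw [ha₀d, ← M.m_one] at h2
    have h3 := M.m_inj h2
    rw [← up_zero] at h3
    exact hc₀ (up_inj h3)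
  rw [← hd] at hfixv
  exact hne ⟨_, eq_smul_e1 (M.one_of_fix_up hd0 hfixv)⟩

end main

/-- **LEMMA NORM'** (no assumption on `|F|`) -/
theorem norm_of_o2' [Finite F] [CharP F 2] {r : Fin 2 → F} (hr : r ≠ 0) {O : Subgroup L} (hO2 : IsPGroup 2 O)
    (hOE : O ≤ normalizer (M.E : Set L)) (hOr : ∀ o ∈ O, M.T o r = r)
    (hn : ∀ n : L, M.T n r = r → ∀ o ∈ O, n * o * n⁻¹ ∈ O) (h1 : O ≠ ⊥) (g : L) : g ∈ normalizer (M.E : Set L) := by
  obtain ⟨P, hP⟩ := exists_ap_e hr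
  set k := M.m P with hk
  have hkr : M.T k ![1, 0] = r := by rw [hk, M.T_m, hP]
  have hkr' : M.T k⁻¹ r = ![1, 0] := by rw [← hkr, M.T_inv_T]
  have hkE : k ∈ normalizer (M.E : Set L) := le_normalizer (M.m_mem P)
  refine M.norm_of_fix e1_ne (fun n hn1 c => ?_) g
  have hmem : ∀ x : L, x ∈ O.comap (MulAut.conj k).toMonoidHom ↔ k * x * k⁻¹ ∈ O := fun x => Iff.rfl
  refine M.line_of_fix (O := O.comap (MulAut.conj k).toMonoidHom) ?_ ?_ ?_ ?_ ?_ hn1 c
  · exact hO2.comap_of_injective _ (MulAut.conj k).injective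
  · intro x hx
    have h2 := mul_mem (mul_mem (inv_mem hkE) (hOE ((hmem x).1 hx))) hkE
    have e : k⁻¹ * (k * x * k⁻¹) * k = x := by group
    rwa [e] at h2
  · intro x hx
    have h2 := hOr _ ((hmem x).1 hx)
    have e : x = k⁻¹ * (k * x * k⁻¹) * k := by group
    rw [e, M.T_mul, M.T_mul, hkr, h2, hkr']
  · intro m hm x hx
    rw [hmem] at hx ⊢
    have h2 := hn (k * m * k⁻¹) (by rw [M.T_mul, M.T_mul, hkr', hm, hkr]) _ hx
    have e : k * m * k⁻¹ * (k * x * k⁻¹) * (k * m * k⁻¹)⁻¹ = k * (m * x * m⁻¹) * k⁻¹ := by group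
    rwa [e] at h2
  · intro h
    apply h1
    rw [eq_bot_iff]
    intro x hx
    have h2 : k⁻¹ * x * k ∈ O.comap (MulAut.conj k).toMonoidHom := by
      rw [hmem]
      have e : k * (k⁻¹ * x * k) * k⁻¹ = x := by group
      rwa [e]
    rw [h, mem_bot] at h2
    have e : x = k * (k⁻¹ * x * k) * k⁻¹ := by group
    rw [mem_bot, e, h2]
    group

/-- **LEMMA NORM'** -/
theorem norm_of_o2 [Finite F] [CharP F 2] [Finite L] (_h4 : 4 ≤ Nat.card F) {r : Fin 2 → F} (hr : r ≠ 0)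
    {O : Subgroup L} (hO2 : IsPGroup 2 O) (hOE : O ≤ normalizer (M.E : Set L)) (hOr : ∀ o ∈ O, M.T o r = r)
    (hn : ∀ n : L, M.T n r = r → ∀ o ∈ O, n * o * n⁻¹ ∈ O) (h1 : O ≠ ⊥) (g : L) : g ∈ normalizer (M.E : Set L) :=
  M.norm_of_o2' hr hO2 hOE hOr hn h1 g

end Cfsg.Agent.Omega.NatPair.NormLev.Co
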