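import Cfsg.Agent.Omega.NatPair.NormSub

/-!
# LEMMA NORM for a subgroup `X` of `N_G(V)` inducing `SL₂(F)` (#23282, (P1))

`PreMod.dich_subX`: `PreMod.dich` for the group `X`, `V ≤ X ≤ N_G(V)`, and `T ≤ X` a 2-group, `¬ 2 ∣ |X : T|`.
-/

set_option autoImplicit false
set_option linter.unusedSectionVars false

namespace Cfsg.Agent.Omega.NatPair

open Subgroup Cfsg.Agent.Lib.SL2Mat

namespace PreMod

variable {G : Type*} [Group G] {F : Type*} [Field F] {V : Subgroup G} (M : PreMod F V)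

/-- **the exceptional alternative of LEMMA NORM** for the group `X` -/
structure ExcX (X T : Subgroup G) : Prop where
  card : Nat.card F = 4
  fuse : ∀ w : Fin 2 → F, w ≠ 0 → ∀ r ∈ M.line w, r ≠ 1 → ∀ v ∈ V, v ∉ M.line w →
    ∃ g ∈ X, r ∈ cj g (M.line w) ∧ v ∈ cj g (M.line w)
  point : ∃ w : Fin 2 → F, w ≠ 0 ∧ T ≤ normalizer ((M.line w : Subgroup G) : Set G) ∧
    V ⊓ centralizer (T : Set G) ≤ M.line w ∧ Nat.card ↥(V ⊓ centralizer (T : Set G)) = 2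

variable {X : Subgroup G}

/-- `V` as a module for the group `X` -/
def subX (hVX : V ≤ X) (hlift : ∀ A, ∃ g ∈ X, M.Ind g A) : PreMod F (V.subgroupOf X) where
  e x := ⟨M.e x, hVX (M.e_mem x)⟩
  e_add x y := Subtype.ext (M.e_add x y)
  e_inj _ _ h := M.e_inj (congrArg Subtype.val h)
  mem_iff g := by
    rw [mem_subgroupOf, M.mem_iff]
    exact ⟨fun ⟨x, hx⟩ => ⟨x, Subtype.ext hx⟩, fun ⟨x, hx⟩ => ⟨x, congrArg Subtype.val hx⟩⟩
  lift A := by
    obtain ⟨g, hgX, hg⟩ := hlift A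
    exact ⟨⟨g, hgX⟩, fun x => Subtype.ext (hg x)⟩

variable {hVX : V ≤ X} {hlift : ∀ A, ∃ g ∈ X, M.Ind g A}

theorem subX_ind {g : X} {A : Matrix.SpecialLinearGroup (Fin 2) F} :
    (M.subX hVX hlift).Ind g A ↔ M.Ind (g : G) A :=
  ⟨fun h x => congrArg Subtype.val (h x), fun h x => Subtype.ext (h x)⟩

theorem mem_subX_line {g : X} {w : Fin 2 → F} : g ∈ (M.subX hVX hlift).line w ↔ (g : G) ∈ M.line w :=
  ⟨fun ⟨c, hc⟩ => ⟨c, congrArg Subtype.val hc⟩, fun ⟨c, hc⟩ => ⟨c, Subtype.ext hc⟩⟩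

/-- **LEMMA NORM** for a subgroup `X` of `N_G(V)` and a Sylow 2-subgroup `T` of `X` -/
theorem dich_subX [Finite G] [Finite F] [CharP F 2] {X T : Subgroup G} (hXV : X ≤ normalizer (V : Set G))
    (hVX : V ≤ X) (hlift : ∀ A, ∃ g ∈ X, M.Ind g A) (hT2 : IsPGroup 2 T) (hTX : T ≤ X)
    (hTs : ¬ 2 ∣ T.relIndex X) (hT : ∀ t ∈ T, M.Nm t) :
    (∀ g ∈ X, ∀ h ∈ X, ∀ A, M.Ind h A → ∃ B, M.Ind (g * h * g⁻¹) B) ∨ M.ExcX X T := by
  have : Fact (Nat.Prime 2) := ⟨Nat.prime_two⟩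
  have hp : IsPGroup 2 (T.subgroupOf X) := hT2.comap_of_injective X.subtype X.subtype_injective
  let S : Sylow 2 X := hp.toSylow hTs
  have hS : ∀ x : X, x ∈ (S : Subgroup X) ↔ (x : G) ∈ T := fun x => Iff.rfl
  have hn : ∀ x : X, x ∈ normalizer ((V.subgroupOf X : Subgroup X) : Set X) := fun x =>
    mem_normalizer_sub (hXV x.2)
  rcases (M.subX hVX hlift).dich S (fun x _ => hn x) (fun x hx k A hA => by
      obtain ⟨B, hB⟩ := hT x ((hS x).1 hx) (k : G) A (M.subX_ind.1 hA)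
      exact ⟨B, M.subX_ind.2 hB⟩) with h | h
  · left
    intro g hg k hk A hA
    obtain ⟨B, hB⟩ := h ⟨g, hg⟩ (hn _) ⟨k, hk⟩ A (M.subX_ind.2 hA)
    exact ⟨B, M.subX_ind.1 hB⟩
  · right
    refine ⟨h.card, ?_, ?_⟩
    · intro w hw r hr hr1 v hv hvw
      obtain ⟨g, -, h1, h2⟩ := h.fuse w hw ⟨r, hVX (M.line_le w hr)⟩ (M.mem_subX_line.2 hr)
        (fun e => hr1 (congrArg Subtype.val e)) ⟨v, hVX hv⟩ hv
        (fun e => hvw (M.mem_subX_line.1 e))
      rw [mem_cj] at h1 h2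
      exact ⟨g, g.2, mem_cj.2 (M.mem_subX_line.1 h1), mem_cj.2 (M.mem_subX_line.1 h2)⟩
    · obtain ⟨w, hw, h1, h2, h3⟩ := h.point
      have hc : ∀ x : X, x ∈ centralizer ((S : Subgroup X) : Set X) ↔ (x : G) ∈ centralizer (T : Set G) := by
        intro x
        rw [mem_centralizer_iff, mem_centralizer_iff]
        constructor
        · intro hx t ht
          exact congrArg Subtype.val (hx ⟨t, hTX ht⟩ ht)
        · intro hx t ht
          exact Subtype.ext (hx t ht)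
      refine ⟨w, hw, ?_, ?_, ?_⟩
      · intro t ht
        have h4 := h1 (show (⟨t, hTX ht⟩ : X) ∈ (S : Subgroup X) from ht)
        rw [mem_normalizer_iff] at h4 ⊢
        intro x
        constructor
        · intro hx
          exact M.mem_subX_line.1 ((h4 ⟨x, hVX (M.line_le w hx)⟩).1 (M.mem_subX_line.2 hx))
        · intro hx
          have hxV : x ∈ V := by
            have h5 := (mem_normalizer_iff.1 (hXV (hTX ht)) x).2 (M.line_le w hx)
            exact h5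
          exact M.mem_subX_line.1 ((h4 ⟨x, hVX hxV⟩).2 (M.mem_subX_line.2 hx))
      · rintro x ⟨hx, hxT⟩
        exact M.mem_subX_line.1 (h2 (show (⟨x, hVX hx⟩ : X) ∈ _ from ⟨hx, (hc _).2 hxT⟩))
      · rw [← h3]
        refine Nat.card_congr ⟨fun x => ⟨⟨x, hVX x.2.1⟩, ⟨x.2.1, (hc _).2 x.2.2⟩⟩,
          fun x => ⟨x, ⟨x.2.1, (hc _).1 x.2.2⟩⟩, fun x => rfl, fun x => rfl⟩

end PreMod

end Cfsg.Agent.Omega.NatPair
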