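import Cfsg.Agent.Omega.NatPair.Norm
import Cfsg.Agent.Omega.NatPair.Mod

/-!
# No transvections (helper958, bb OMEGA #23282, step (c))

`V = F²`, `4 ≤ |F|`, `X ≤ N_G(V)` induces at least `SL₂(F)`, a Sylow 2-subgroup `T` of `X` is semilinear, `X` fuses every
`F`-line with every pair (LEMMA NORM, second alternative).  Then no element of `N_G(X)` acts as a transvection of `V`
over `F₂`: `PreMod.tv_free`.
-/

set_option autoImplicit false
set_option linter.unusedSectionVars false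

namespace Cfsg.Agent.Omega.NatPair

open Subgroup Cfsg.Agent.Lib.SL2Mat

namespace PreMod

variable {G : Type*} [Group G]

/-- `g` acts on `V` as a transvection (over `F₂`) with centre `c` -/
def Tv (V : Subgroup G) (c g : G) : Prop :=
  c ∈ V ∧ c ≠ 1 ∧ g ∈ normalizer (V : Set G) ∧ (∀ v ∈ V, g * v * g⁻¹ = v ∨ g * v * g⁻¹ = v * c) ∧
    ∃ v ∈ V, g * v * g⁻¹ ≠ v

namespace Tv

variable {V : Subgroup G} {c g : G}

theorem fix_c (h : Tv V c g) (hsq : ∀ v ∈ V, v * v = 1) : g * c * g⁻¹ = c := by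
  rcases h.2.2.2.1 c h.1 with h1 | h1
  · exact h1
  · exfalso
    rw [hsq c h.1] at h1
    apply h.2.1
    have h2 : g * c = g := by
      have := mul_inv_eq_iff_eq_mul.1 h1
      simpa using this
    exact mul_eq_left.1 h2

theorem move (h : Tv V c g) {v : G} (hv : v ∈ V) (hne : g * v * g⁻¹ ≠ v) : g * v * g⁻¹ = v * c :=
  (h.2.2.2.1 v hv).resolve_left hne

/-- the square acts trivially -/
theorem sq (h : Tv V c g) (hsq : ∀ v ∈ V, v * v = 1) {v : G} (hv : v ∈ V) : g * (g * v * g⁻¹) * g⁻¹ = v := by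
  rcases h.2.2.2.1 v hv with h1 | h1
  · rw [h1, h1]
  · rw [h1]
    have e : g * (v * c) * g⁻¹ = g * v * g⁻¹ * (g * c * g⁻¹) := by group
    rw [e, h1, h.fix_c hsq, mul_assoc, hsq c h.1, mul_one]

theorem inv_act (h : Tv V c g) (hsq : ∀ v ∈ V, v * v = 1) {v : G} (hv : v ∈ V) : g⁻¹ * v * g⁻¹⁻¹ = g * v * g⁻¹ := by
  have h1 := h.sq hsq hv
  calc g⁻¹ * v * g⁻¹⁻¹ = g⁻¹ * (g * (g * v * g⁻¹) * g⁻¹) * g⁻¹⁻¹ := by rw [h1]
    _ = g * v * g⁻¹ := by group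

theorem inv (h : Tv V c g) (hsq : ∀ v ∈ V, v * v = 1) : Tv V c g⁻¹ := by
  refine ⟨h.1, h.2.1, inv_mem h.2.2.1, fun v hv => ?_, ?_⟩
  · rw [h.inv_act hsq hv]; exact h.2.2.2.1 v hv
  · obtain ⟨v, hv, hne⟩ := h.2.2.2.2
    exact ⟨v, hv, by rwa [h.inv_act hsq hv]⟩

theorem conj (h : Tv V c g) {l : G} (hl : l ∈ normalizer (V : Set G)) : Tv V (l * c * l⁻¹) (l * g * l⁻¹) := by
  have hm : ∀ v ∈ V, l⁻¹ * v * l ∈ V := fun v hv => by
    have := (mem_normalizer_iff.1 (inv_mem hl) v).1 hv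
    simpa using this
  refine ⟨(mem_normalizer_iff.1 hl c).1 h.1, ?_, mul_mem (mul_mem hl h.2.2.1) (inv_mem hl), fun v hv => ?_, ?_⟩
  · intro e
    apply h.2.1
    exact conj_eq_one_iff.1 e
  · have e : l * g * l⁻¹ * v * (l * g * l⁻¹)⁻¹ = l * (g * (l⁻¹ * v * l) * g⁻¹) * l⁻¹ := by group
    rcases h.2.2.2.1 _ (hm v hv) with h1 | h1
    · left; rw [e, h1]; group
    · right; rw [e, h1]; group
  · obtain ⟨v, hv, hne⟩ := h.2.2.2.2
    refine ⟨l * v * l⁻¹, (mem_normalizer_iff.1 hl v).1 hv, fun e => hne ?_⟩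
    have e2 : l * g * l⁻¹ * (l * v * l⁻¹) * (l * g * l⁻¹)⁻¹ = l * (g * v * g⁻¹) * l⁻¹ := by group
    rw [e2] at e
    exact mul_left_cancel (mul_right_cancel e)

/-- the product of two transvections with the same centre -/
theorem mul_act (h : Tv V c g) {g' : G} (h' : Tv V c g') (hsq : ∀ v ∈ V, v * v = 1) {v : G} (hv : v ∈ V) :
    g * g' * v * (g * g')⁻¹ = v ∨ g * g' * v * (g * g')⁻¹ = v * c := by
  have e : g * g' * v * (g * g')⁻¹ = g * (g' * v * g'⁻¹) * g⁻¹ := by group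
  rw [e]
  rcases h'.2.2.2.1 v hv with h1 | h1
  · rw [h1]; exact h.2.2.2.1 v hv
  · rw [h1]
    have e2 : g * (v * c) * g⁻¹ = g * v * g⁻¹ * (g * c * g⁻¹) := by group
    rw [e2, h.fix_c hsq]
    rcases h.2.2.2.1 v hv with h2 | h2
    · right; rw [h2]
    · left; rw [h2, mul_assoc, hsq c h.1, mul_one]

theorem pow_even (h : Tv V c g) (hsq : ∀ v ∈ V, v * v = 1) (k : ℕ) {v : G} (hv : v ∈ V) :
    g ^ (2 * k) * v * (g ^ (2 * k))⁻¹ = v := by
  induction k with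
  | zero => simp
  | succ k ih =>
    have e : g ^ (2 * (k + 1)) * v * (g ^ (2 * (k + 1)))⁻¹ = g * (g * (g ^ (2 * k) * v * (g ^ (2 * k))⁻¹) * g⁻¹) * g⁻¹ := by
      rw [show 2 * (k + 1) = 2 + 2 * k by ring, pow_add]
      group
    rw [e, ih, h.sq hsq hv]

theorem pow_odd (h : Tv V c g) (hsq : ∀ v ∈ V, v * v = 1) {m : ℕ} (hm : ¬ 2 ∣ m) {v : G} (hv : v ∈ V) :
    g ^ m * v * (g ^ m)⁻¹ = g * v * g⁻¹ := by
  obtain ⟨k, rfl⟩ := Nat.odd_iff.2 (Nat.two_dvd_ne_zero.1 hm)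
  have e : g ^ (2 * k + 1) * v * (g ^ (2 * k + 1))⁻¹ = g * (g ^ (2 * k) * v * (g ^ (2 * k))⁻¹) * g⁻¹ := by
    rw [pow_succ']
    group
  rw [e, h.pow_even hsq k hv]

theorem of_act (h : Tv V c g) {g' : G} (hn : g' ∈ normalizer (V : Set G))
    (ha : ∀ v ∈ V, g' * v * g'⁻¹ = g * v * g⁻¹) : Tv V c g' := by
  refine ⟨h.1, h.2.1, hn, fun v hv => ?_, ?_⟩
  · rw [ha v hv]; exact h.2.2.2.1 v hv
  · obtain ⟨v, hv, hne⟩ := h.2.2.2.2
    exact ⟨v, hv, by rwa [ha v hv]⟩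

end Tv

variable {F : Type*} [Field F] {V : Subgroup G} (M : PreMod F V)

/-- an element which, with its inverse, normalises the `SL₂(F)`, is semilinear -/
theorem exists_semi_of_nm {g : G} (hg : g ∈ normalizer (V : Set G)) (hN : M.Nm g⁻¹) :
    ∃ (T : (Fin 2 → F) → (Fin 2 → F)) (σ : F → F), (∀ x, g * M.e x * g⁻¹ = M.e (T x)) ∧
      ∀ (a : F) x, T (a • x) = σ a • T x := by
  have h1 : ∀ x, ∃ y, M.e y = g * M.e x * g⁻¹ := fun x =>
    (M.mem_iff _).1 ((mem_normalizer_iff.1 hg _).1 (M.e_mem x))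
  have h2 : ∀ x, ∃ y, M.e y = g⁻¹ * M.e x * g := fun x =>
    (M.mem_iff _).1 (by
      have := (mem_normalizer_iff.1 (inv_mem hg) _).1 (M.e_mem x)
      simpa using this)
  choose T hT using h1
  choose T' hT' using h2
  obtain ⟨σ, hσ⟩ := exists_semi T T' (fun x y => M.e_inj (by
      rw [hT, M.e_add, M.e_add, hT, hT]; group))
    (fun x => M.e_inj (by rw [hT', hT]; group)) (fun x => M.e_inj (by rw [hT, hT']; group))
    (fun A => by
      obtain ⟨h, hA⟩ := M.lift A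
      obtain ⟨B, hB⟩ := hN h A hA
      refine ⟨B, fun x => M.e_inj ?_⟩
      rw [hT', ← hA, hT, ← hB]
      group)
  exact ⟨T, σ, fun x => (hT x).symm, hσ⟩

theorem exists_ne (h4 : 4 ≤ Nat.card F) : ∃ a : F, a ≠ 0 ∧ a ≠ 1 := by
  by_contra h
  push Not at h
  have : Finite F := Nat.finite_of_card_ne_zero (by omega)
  have h1 : Nat.card F ≤ Nat.card Bool := by
    refine Nat.card_le_card_of_injective (fun a : F => (by classical exact decide (a = 0) : Bool)) ?_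
    intro a b hab
    simp only [decide_eq_decide] at hab
    by_cases ha : a = 0
    · rw [ha, (hab.1 ha)]
    · have hb : b ≠ 0 := fun e => ha (hab.2 e)
      rw [h a ha, h b hb]
  simp at h1
  omega

theorem exists_dt {x : Fin 2 → F} (hx : x ≠ 0) : ∃ y, dt x y ≠ 0 := by
  by_cases h0 : x 0 = 0
  · have h1 : x 1 ≠ 0 := fun h => hx (ext2 h0 h)
    refine ⟨![1, 0], ?_⟩
    simpa [dt] using h1
  · refine ⟨![0, 1], ?_⟩
    simpa [dt] using h0

/-- a semilinear element is not a transvection -/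
theorem not_tv_of_nm [CharP F 2] (h4 : 4 ≤ Nat.card F) {g : G} (hN : M.Nm g⁻¹) (c : G) : ¬ Tv V c g := by
  intro h
  have hsq : ∀ v ∈ V, v * v = 1 := fun v hv => M.sq hv
  obtain ⟨T, σ, hT, hσ⟩ := M.exists_semi_of_nm h.2.2.1 hN
  obtain ⟨x₁, hx₁⟩ := (M.mem_iff c).1 h.1
  have hx0 : x₁ ≠ 0 := fun e => h.2.1 (by rw [← hx₁, e, M.e_zero])
  obtain ⟨a, ha0, ha1⟩ := exists_ne h4
  -- the moved vectors lie in the line of the centre
  have key : ∀ w, g * M.e w * g⁻¹ ≠ M.e w → dt x₁ w = 0 := by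
    intro w hw
    by_contra hd
    have h1 := h.move (M.e_mem w) hw
    rw [← hx₁, ← M.e_add, hT] at h1
    have h2 : T w = w + x₁ := M.e_inj h1
    have hdd : dt x₁ x₁ = 0 := by unfold dt; ring
    have h3 : T (a • w) = σ a • (w + x₁) := by rw [hσ, h2]
    have h5 : dt x₁ (T (a • w)) = σ a * dt x₁ w := by
      rw [h3, dt_smul, dt_add, hdd, add_zero]
    rcases h.2.2.2.1 _ (M.e_mem (a • w)) with h6 | h6
    · rw [hT] at h6
      have h7 : T (a • w) = a • w := M.e_inj h6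
      rw [h7, dt_smul] at h5
      have h8 : σ a = a := (mul_right_cancel₀ hd h5).symm
      rw [h7, h8, smul_add] at h3
      have h9 : a • x₁ = 0 := left_eq_add.1 h3
      rcases smul_eq_zero.1 h9 with h10 | h10
      · exact ha0 h10
      · exact hx0 h10
    · rw [hT, ← hx₁, ← M.e_add] at h6
      have h7 : T (a • w) = a • w + x₁ := M.e_inj h6
      rw [h7, dt_add, dt_smul, hdd, add_zero] at h5
      have h8 : σ a = a := (mul_right_cancel₀ hd h5).symm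
      rw [h7, h8, smul_add] at h3
      have h9 : x₁ = a • x₁ := add_left_cancel h3
      have h10 : (1 - a) • x₁ = 0 := by rw [sub_smul, one_smul, ← h9, sub_self]
      rcases smul_eq_zero.1 h10 with h11 | h11
      · exact ha1 (sub_eq_zero.1 h11).symm
      · exact hx0 h11
  obtain ⟨v, hv, hne⟩ := h.2.2.2.2
  obtain ⟨w, rfl⟩ := (M.mem_iff v).1 hv
  have hw := key w hne
  obtain ⟨u, hu⟩ := exists_dt hx0
  have h1 : g * M.e u * g⁻¹ = M.e u := by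
    by_contra hh
    exact hu (key u hh)
  have h2 : g * M.e (w + u) * g⁻¹ = M.e (w + u) := by
    by_contra hh
    apply hu
    have := key (w + u) hh
    rwa [dt_add, hw, zero_add] at this
  apply hne
  have e : g * M.e (w + u) * g⁻¹ = g * M.e w * g⁻¹ * (g * M.e u * g⁻¹) := by rw [M.e_add]; group
  rw [e, h1, M.e_add] at h2
  exact mul_right_cancel h2

variable {X T N : Subgroup G}

/-- some element of `X` fixes the centre and moves the axis -/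
theorem exists_move_axis [CharP F 2] (hlift : ∀ A, ∃ g ∈ X, M.Ind g A)
    (h4 : 4 ≤ Nat.card F)
    (hfuse : ∀ w : Fin 2 → F, w ≠ 0 → ∀ r ∈ M.line w, r ≠ 1 → ∀ v ∈ V, v ∉ M.line w →
      ∃ g ∈ X, r ∈ cj g (M.line w) ∧ v ∈ cj g (M.line w)) {c g : G} (h : Tv V c g) :
    ∃ l ∈ X, l * c * l⁻¹ = c ∧ ∃ v ∈ V, g * v * g⁻¹ = v ∧ g * (l * v * l⁻¹) * g⁻¹ ≠ l * v * l⁻¹ := by
  by_contra hcon
  push Not at hcon
  have hsq : ∀ v ∈ V, v * v = 1 := fun v hv => M.sq hv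
  obtain ⟨x₀, hx₀⟩ := (M.mem_iff c).1 h.1
  have hx0 : x₀ ≠ 0 := fun e => h.2.1 (by rw [← hx₀, e, M.e_zero])
  obtain ⟨a, ha0, ha1⟩ := exists_ne h4
  have hdd : dt x₀ x₀ = 0 := by unfold dt; ring
  -- (A) a fixed vector outside the line of `c`
  obtain ⟨y₀, hy₀, hyd⟩ : ∃ y, g * M.e y * g⁻¹ = M.e y ∧ dt x₀ y ≠ 0 := by
    by_contra hA
    push Not at hA
    obtain ⟨y, hy⟩ := exists_dt hx0
    have hmv : ∀ z, dt x₀ z ≠ 0 → g * M.e z * g⁻¹ = M.e z * c := fun z hz =>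
      h.move (M.e_mem z) fun e => hz (hA z e)
    have h1 := hmv y hy
    have h2 := hmv (a • y) (by rw [dt_smul]; exact mul_ne_zero ha0 hy)
    have h3 := hmv (y + a • y) (by
      rw [dt_add, dt_smul, ← one_add_mul]
      refine mul_ne_zero (fun e => ha1 ?_) hy
      have : a = -1 := by linear_combination e
      rw [this, CharTwo.neg_eq])
    have e : g * M.e (y + a • y) * g⁻¹ = g * M.e y * g⁻¹ * (g * M.e (a • y) * g⁻¹) := by rw [M.e_add]; group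
    rw [e, h1, h2] at h3
    have hc := M.comm (M.e_mem (a • y)) h.1
    have e2 : M.e y * c * (M.e (a • y) * c) = M.e (y + a • y) := by
      rw [hc, M.e_add]
      have : M.e y * c * (c * M.e (a • y)) = M.e y * (c * c) * M.e (a • y) := by group
      rw [this, hsq c h.1, mul_one]
    rw [e2] at h3
    exact h.2.1 (left_eq_mul.1 h3)
  -- (B) the line of `c` is fixed
  have hB : ∀ b : F, g * M.e (b • x₀) * g⁻¹ = M.e (b • x₀) := by
    intro b
    obtain ⟨A, hA1, hA2⟩ := NormExc.exists_ap2 (f₁ := x₀) (f₂ := y₀) (g₁ := x₀) (g₂ := y₀ + b • x₀) hyd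
      (by rw [dt_add, dt_smul, hdd, mul_zero, add_zero])
    obtain ⟨l, hl, hlA⟩ := hlift A
    have h1 := hcon l hl (by rw [← hx₀, hlA, hA1]) (M.e y₀) (M.e_mem _) hy₀
    rw [hlA, hA2] at h1
    have e : g * M.e (y₀ + b • x₀) * g⁻¹ = g * M.e y₀ * g⁻¹ * (g * M.e (b • x₀) * g⁻¹) := by rw [M.e_add]; group
    rw [e, hy₀, M.e_add] at h1
    exact mul_left_cancel h1
  -- (C) everything is fixed
  obtain ⟨v, hv, hne⟩ := h.2.2.2.2
  apply hne
  by_cases hvl : v ∈ M.line x₀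
  · obtain ⟨b, rfl⟩ := hvl
    exact hB b
  · obtain ⟨g₁, hg₁, hc, hvc⟩ := hfuse x₀ hx0 c ⟨1, by rw [one_smul, hx₀]⟩ h.2.1 v hv hvl
    rw [mem_cj] at hc hvc
    obtain ⟨lam, hlam⟩ := hc
    obtain ⟨mu, hmu⟩ := hvc
    have hlam0 : lam ≠ 0 := by
      rintro rfl
      rw [zero_smul, M.e_zero] at hlam
      apply h.2.1
      have : c = g₁ * (g₁⁻¹ * c * g₁) * g₁⁻¹ := by group
      rw [this, ← hlam]; group
    obtain ⟨A, hA⟩ := exists_ap hx0 (smul_ne_zero hlam0 hx0)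
    obtain ⟨τ, hτ, hτA⟩ := hlift A
    have hcc : g₁ * τ * c * (g₁ * τ)⁻¹ = c := by
      have e : g₁ * τ * c * (g₁ * τ)⁻¹ = g₁ * (τ * c * τ⁻¹) * g₁⁻¹ := by group
      rw [e, ← hx₀, hτA, hA, hlam, hx₀]; group
    have h1 := hcon (g₁ * τ) (mul_mem hg₁ hτ) hcc (M.e ((lam⁻¹ * mu) • x₀)) (M.e_mem _) (hB _)
    have e : g₁ * τ * M.e ((lam⁻¹ * mu) • x₀) * (g₁ * τ)⁻¹ = v := by
      have e2 : g₁ * τ * M.e ((lam⁻¹ * mu) • x₀) * (g₁ * τ)⁻¹ = g₁ * (τ * M.e ((lam⁻¹ * mu) • x₀) * τ⁻¹) * g₁⁻¹ := by group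
      rw [e2, hτA, ap_smul, hA, smul_smul, show lam⁻¹ * mu * lam = mu by field_simp, hmu]
      group
    rw [e] at h1
    exact h1

/-- a 2-element of `X` in place of an element of `X` -/
theorem exists_two_tv [Finite G] (hsq : ∀ v ∈ V, v * v = 1) {c z : G} (h : Tv V c z) :
    ∃ m : ℕ, Tv V c (z ^ m) ∧ IsPGroup 2 (zpowers (z ^ m)) := by
  have h2 : Nat.Prime 2 := Nat.prime_two
  obtain ⟨a, m, hm, he⟩ := Nat.exists_eq_pow_mul_and_not_dvd (orderOf_pos z).ne' 2 (by norm_num)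
  refine ⟨m, h.of_act (pow_mem h.2.2.1 m) fun v hv => h.pow_odd hsq hm hv, ?_⟩
  refine IsPGroup.of_card (n := a) ?_
  rw [Nat.card_zpowers, orderOf_pow_of_dvd (by rintro rfl; simp at hm) (by rw [he]; exact dvd_mul_left _ _), he]
  exact Nat.mul_div_cancel _ (Nat.pos_of_ne_zero (by rintro rfl; simp at hm))

/-- **No transvections** (bb OMEGA #23282 (c)). -/
theorem tv_free [Finite G] [Finite F] [CharP F 2] (M : PreMod F V) {X T N : Subgroup G}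
    (hXV : X ≤ normalizer (V : Set G)) (hlift : ∀ A, ∃ g ∈ X, M.Ind g A) (hT2 : IsPGroup 2 T) (hTX : T ≤ X)
    (hTs : ¬ 2 ∣ T.relIndex X) (hT : ∀ t ∈ T, M.Nm t) (h4 : 4 ≤ Nat.card F)
    (hfuse : ∀ w : Fin 2 → F, w ≠ 0 → ∀ r ∈ M.line w, r ≠ 1 → ∀ v ∈ V, v ∉ M.line w →
      ∃ g ∈ X, r ∈ cj g (M.line w) ∧ v ∈ cj g (M.line w))
    (hN : N ≤ normalizer (X : Set G)) : ∀ g ∈ N, ∀ c, ¬ Tv V c g := by
  intro g hg c h
  have _ := hTX
  have : Fact (Nat.Prime 2) := ⟨Nat.prime_two⟩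
  have hsq : ∀ v ∈ V, v * v = 1 := fun v hv => M.sq hv
  obtain ⟨l, hl, hlc, v, hv, hv1, hv2⟩ := M.exists_move_axis hlift h4 hfuse h
  have hlV := hXV hl
  -- the transvection `z = (l⁻¹ g l) g⁻¹` lies in `X`
  have h1 : Tv V c (l⁻¹ * g * l) := by
    have := h.conj (inv_mem hlV)
    rw [inv_inv] at this
    have e : l⁻¹ * c * l = c := by
      calc l⁻¹ * c * l = l⁻¹ * (l * c * l⁻¹) * l := by rw [hlc]
        _ = c := by group
    rwa [e] at this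
  have h2 := h.inv hsq
  have hz : Tv V c (l⁻¹ * g * l * g⁻¹) := by
    refine ⟨h.1, h.2.1, mul_mem h1.2.2.1 h2.2.2.1, fun v hv => h1.mul_act h2 hsq hv, v, hv, ?_⟩
    intro e
    apply hv2
    have e1 : g⁻¹ * v * g⁻¹⁻¹ = v := by rw [h.inv_act hsq hv, hv1]
    have e2 : l⁻¹ * g * l * g⁻¹ * v * (l⁻¹ * g * l * g⁻¹)⁻¹ = l⁻¹ * (g * (l * (g⁻¹ * v * g⁻¹⁻¹) * l⁻¹) * g⁻¹) * l := by
      group
    rw [e2, e1] at e
    calc g * (l * v * l⁻¹) * g⁻¹ = l * (l⁻¹ * (g * (l * v * l⁻¹) * g⁻¹) * l) * l⁻¹ := by group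
      _ = l * v * l⁻¹ := by rw [e]
  have hzX : l⁻¹ * g * l * g⁻¹ ∈ X := by
    have e : l⁻¹ * g * l * g⁻¹ = l⁻¹ * (g * l * g⁻¹) := by group
    rw [e]
    exact mul_mem (inv_mem hl) ((mem_normalizer_iff.1 (hN hg) l).1 hl)
  -- a 2-element of `X`, conjugate into `T`
  obtain ⟨m, hm, hp⟩ := exists_two_tv hsq hz
  have hmX : zpowers ((l⁻¹ * g * l * g⁻¹) ^ m) ≤ X := zpowers_le.2 (pow_mem hzX m)
  have hTp : IsPGroup 2 (T.subgroupOf X) := hT2.comap_of_injective X.subtype X.subtype_injective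
  have hQp : IsPGroup 2 ((zpowers ((l⁻¹ * g * l * g⁻¹) ^ m)).subgroupOf X) :=
    hp.comap_of_injective X.subtype X.subtype_injective
  obtain ⟨Q, hQ⟩ := hQp.exists_le_sylow
  obtain ⟨x, hx⟩ := MulAction.exists_smul_eq X Q (hTp.toSylow hTs)
  have hin : (x : G) * (l⁻¹ * g * l * g⁻¹) ^ m * (x : G)⁻¹ ∈ T := by
    have h5 : (⟨(l⁻¹ * g * l * g⁻¹) ^ m, hmX (mem_zpowers _)⟩ : X) ∈ (Q : Subgroup X) :=
      hQ (mem_subgroupOf.2 (mem_zpowers _))
    have h6 : x * ⟨(l⁻¹ * g * l * g⁻¹) ^ m, hmX (mem_zpowers _)⟩ * x⁻¹ ∈ ((x • Q : Sylow 2 X) : Subgroup X) := by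
      have e : x * ⟨(l⁻¹ * g * l * g⁻¹) ^ m, hmX (mem_zpowers _)⟩ * x⁻¹
          = (MulAut.conj x) • (⟨(l⁻¹ * g * l * g⁻¹) ^ m, hmX (mem_zpowers _)⟩ : X) := rfl
      rw [e]
      exact Subgroup.smul_mem_pointwise_smul _ _ _ h5
    rw [hx] at h6
    exact mem_subgroupOf.1 h6
  exact M.not_tv_of_nm h4 (hT _ (inv_mem hin)) _ (hm.conj (hXV x.2))

end PreMod

end Cfsg.Agent.Omega.NatPair
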