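import Mathlib
import Cfsg.Agent.ClassTwoFusion.QuadStruct
import Cfsg.Agent.SmallSimple.TransferInvol

/-!
# Weakly closed quadratic TI-subgroups with cyclic quotient  (LEMMA NORM, bb OMEGA #12618, abstract part)

`L` acts faithfully on the elementary abelian 2-group `V`, `A ≤ S ∈ Syl₂(L)`, `A` quadratic, `C_V(a) = C_V(A)` for
`1 ≠ a ∈ A`, `|V : C_V(A)| = |A|`, `|V| = |A|²`, `S / A` cyclic.  If `A` is strongly closed in `S` then the subgroups
`C_V(A^g)` meet trivially; if it is not then `|A| ≤ 4`.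
-/

set_option autoImplicit false
set_option linter.unusedSectionVars false

namespace Cfsg.Agent.Omega.NatPair.NormAbs

open Subgroup
open Cfsg.Agent.ClassTwoFusion.Quad

variable {L V : Type*} [Group L] [Group V] [MulDistribMulAction L V]

/-- `g A g⁻¹` -/
def cj (g : L) (A : Subgroup L) : Subgroup L := A.map (MulAut.conj g).toMonoidHom

theorem mem_cj {g x : L} {A : Subgroup L} : x ∈ cj g A ↔ g⁻¹ * x * g ∈ A := by
  constructor
  · rintro ⟨y, hy, rfl⟩
    have e : g⁻¹ * (MulAut.conj g).toMonoidHom y * g = y := by simp [mul_assoc]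
    rw [e]; exact hy
  · intro h
    exact ⟨_, h, by simp [mul_assoc]⟩

theorem conj_mem_cj {g x : L} {A : Subgroup L} (hx : x ∈ A) : g * x * g⁻¹ ∈ cj g A := by
  rw [mem_cj]
  have e : g⁻¹ * (g * x * g⁻¹) * g = x := by group
  rw [e]; exact hx

theorem cj_mul (g h : L) (A : Subgroup L) : cj (g * h) A = cj g (cj h A) := by
  ext x
  rw [mem_cj, mem_cj, mem_cj]
  have e : (g * h)⁻¹ * x * (g * h) = h⁻¹ * (g⁻¹ * x * g) * h := by group
  rw [e]

theorem cj_one (A : Subgroup L) : cj 1 A = A := by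
  ext x
  rw [mem_cj]; simp

theorem cj_mono {g : L} {A B : Subgroup L} (h : A ≤ B) : cj g A ≤ cj g B := Subgroup.map_mono h

theorem cj_inv_cj (g : L) (A : Subgroup L) : cj g⁻¹ (cj g A) = A := by
  rw [← cj_mul, inv_mul_cancel, cj_one]

theorem cj_cj_inv (g : L) (A : Subgroup L) : cj g (cj g⁻¹ A) = A := by
  rw [← cj_mul, mul_inv_cancel, cj_one]

theorem card_cj (g : L) (A : Subgroup L) : Nat.card (cj g A) = Nat.card A :=
  (Nat.card_congr (A.equivMapOfInjective _ (MulAut.conj g).injective).toEquiv).symm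

theorem le_cj_iff {g : L} {A B : Subgroup L} : A ≤ cj g B ↔ cj g⁻¹ A ≤ B := by
  constructor
  · intro h
    rw [← cj_inv_cj g B]
    exact cj_mono h
  · intro h
    rw [← cj_cj_inv g A]
    exact cj_mono h

theorem isPGroup_cj {g : L} {A : Subgroup L} (h : IsPGroup 2 A) : IsPGroup 2 (cj g A) := h.map _

theorem mem_cv_cj {g : L} {A : Subgroup L} {v : V} : v ∈ cv V ((cj g A : Subgroup L) : Set L) ↔
    g⁻¹ • v ∈ cv V (A : Set L) := by
  constructor
  · intro hv a ha
    have h1 := hv _ (conj_mem_cj (g := g) ha)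
    rw [eq_inv_smul_iff, ← mul_smul, ← mul_smul]
    exact h1
  · intro hv a ha
    have h1 := hv _ (mem_cj.1 ha)
    rw [eq_inv_smul_iff, smul_smul, smul_smul] at h1
    have e : g * (g⁻¹ * a * g) * g⁻¹ = a := by group
    rwa [mul_assoc, ← mul_assoc g, e] at h1

/-- The hypotheses. -/
structure Inp (V : Type*) [Group V] [MulDistribMulAction L V] {C : Type*} [CommGroup C] (S : Sylow 2 L) (A : Subgroup L)
    (φ : ↥(S : Subgroup L) →* C) : Prop where
  comm : ∀ v w : V, v * w = w * v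
  sq : ∀ v : V, v * v = 1
  faith : ∀ x : L, (∀ v : V, x • v = v) → x = 1
  AS : A ≤ (S : Subgroup L)
  ker : ∀ s : (S : Subgroup L), φ s = 1 ↔ (s : L) ∈ A
  cyc : IsCyclic C
  quad : ∀ a ∈ A, ∀ b ∈ A, ∀ v : V, b • d a v = d a v
  reg : ∀ a ∈ A, a ≠ 1 → cv V ({a} : Set L) = cv V (A : Set L)
  idx : (cv V (A : Set L)).index = Nat.card A
  card : Nat.card V = Nat.card A * Nat.card A
  lin : ∀ s ∈ (S : Subgroup L), (∀ v ∈ cv V (A : Set L), s • v = v) → (∀ v : V, d s v ∈ cv V (A : Set L)) → s ∈ A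
  fix : ∀ s ∈ (S : Subgroup L), s ∉ A → Nat.card ↥(A ⊓ centralizer ({s} : Set L)) ^ 2 ≤ Nat.card A
  four : 4 ≤ Nat.card A

namespace Inp

variable {C : Type*} [CommGroup C] {S : Sylow 2 L} {A : Subgroup L} {φ : ↥(S : Subgroup L) →* C}
variable (h : Inp V S A φ)
include h

theorem inv_eq (v : V) : v⁻¹ = v := inv_eq_of_mul_eq_one_right (h.sq v)

theorem smul_eq (x : L) (v : V) : x • v = d x v * v := by
  unfold d
  rw [mul_assoc, h.sq, mul_one]

theorem d_mem {a : L} (ha : a ∈ A) (v : V) : d a v ∈ cv V (A : Set L) := fun b hb => h.quad a ha b hb v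

/-- elements acting trivially on `U` and `V / U` have order two and commute -/
theorem stab {U : Subgroup V} {x y : L} (hx : ∀ v ∈ U, x • v = v) (hx' : ∀ v : V, d x v ∈ U)
    (hy : ∀ v ∈ U, y • v = v) (hy' : ∀ v : V, d y v ∈ U) : x * y = y * x := by
  have key : ∀ v : V, (x * y) • v = (y * x) • v := by
    intro v
    rw [mul_smul, mul_smul, h.smul_eq y v, h.smul_eq x v, smul_mul', smul_mul', hx _ (hy' v), hy _ (hx' v),
      h.smul_eq x v, h.smul_eq y v, ← mul_assoc, ← mul_assoc, h.comm (d y v)]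
  have h3 : (y * x)⁻¹ * (x * y) = 1 := h.faith _ (fun v => by rw [mul_smul, key v, inv_smul_smul])
  rw [inv_mul_eq_one] at h3
  exact h3.symm

theorem stab_sq {U : Subgroup V} {x : L} (hx : ∀ v ∈ U, x • v = v) (hx' : ∀ v : V, d x v ∈ U) : x * x = 1 := by
  apply h.faith
  intro v
  rw [mul_smul, h.smul_eq x v, smul_mul', hx _ (hx' v), h.smul_eq x v, ← mul_assoc, h.sq, one_mul]

theorem A_comm {a b : L} (ha : a ∈ A) (hb : b ∈ A) : a * b = b * a :=
  h.stab (U := cv V (A : Set L)) (fun _ hv => hv a ha) (h.d_mem ha) (fun _ hv => hv b hb) (h.d_mem hb)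

theorem A_sq {a : L} (ha : a ∈ A) : a * a = 1 :=
  h.stab_sq (U := cv V (A : Set L)) (fun _ hv => hv a ha) (h.d_mem ha)

/-- the stabilizer of `V > U > 1` -/
def stb (U : Subgroup V) : Subgroup L where
  carrier := {x | (∀ v ∈ U, x • v = v) ∧ ∀ v : V, d x v ∈ U}
  one_mem' := ⟨fun v _ => one_smul L v, fun v => by
    show (1 : L) • v * v ∈ U
    rw [one_smul, h.sq]; exact one_mem _⟩
  mul_mem' := by
    rintro x y ⟨hx, hx'⟩ ⟨hy, hy'⟩
    refine ⟨fun v hv => by rw [mul_smul, hy v hv, hx v hv], fun v => ?_⟩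
    show (x * y) • v * v ∈ U
    rw [mul_smul, h.smul_eq y v, smul_mul', hx _ (hy' v), h.smul_eq x v, mul_assoc, mul_assoc, h.sq, mul_one]
    exact mul_mem (hy' v) (hx' v)
  inv_mem' := by
    rintro x ⟨hx, hx'⟩
    have h1 := h.stab_sq hx hx'
    have h2 : x⁻¹ = x := inv_eq_of_mul_eq_one_right h1
    rw [h2]
    exact ⟨hx, hx'⟩

theorem mem_stb {U : Subgroup V} {x : L} : x ∈ h.stb U ↔ (∀ v ∈ U, x • v = v) ∧ ∀ v : V, d x v ∈ U := Iff.rfl

theorem isPGroup : IsPGroup 2 A := S.isPGroup'.to_le h.AS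

theorem norm {s : L} (hs : s ∈ (S : Subgroup L)) {a : L} (ha : a ∈ A) : s * a * s⁻¹ ∈ A := by
  have h1 := (h.ker ⟨s * a * s⁻¹, mul_mem (mul_mem hs (h.AS ha)) (inv_mem hs)⟩).1 (by
    have e : (⟨s * a * s⁻¹, mul_mem (mul_mem hs (h.AS ha)) (inv_mem hs)⟩ : ↥(S : Subgroup L)) =
        ⟨s, hs⟩ * ⟨a, h.AS ha⟩ * ⟨s, hs⟩⁻¹ := rfl
    rw [e, map_mul, map_mul, (h.ker ⟨a, h.AS ha⟩).2 ha, mul_one, map_inv, mul_inv_cancel])
  exact h1

theorem norm' {s : L} (hs : s ∈ (S : Subgroup L)) {a : L} (ha : a ∈ A) : s⁻¹ * a * s ∈ A := by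
  have := h.norm (inv_mem hs) ha
  rwa [inv_inv] at this

/-- two elements of `S - A` whose squares are in `A` are congruent modulo `A` -/
theorem uniq {s t : L} (hs : s ∈ (S : Subgroup L)) (hsA : s ∉ A) (hs2 : s * s ∈ A) (ht : t ∈ (S : Subgroup L))
    (htA : t ∉ A) (ht2 : t * t ∈ A) : φ ⟨s, hs⟩ = φ ⟨t, ht⟩ := by
  have hcyc := h.cyc
  have h1 : φ ⟨s, hs⟩ ^ 2 = 1 := by
    rw [← map_pow, pow_two]
    exact (h.ker _).2 hs2
  have h2 : φ ⟨t, ht⟩ ^ 2 = 1 := by
    rw [← map_pow, pow_two]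
    exact (h.ker _).2 ht2
  have h3 : φ ⟨s, hs⟩ ≠ 1 := fun e => hsA ((h.ker _).1 e)
  have h4 : φ ⟨t, ht⟩ ≠ 1 := fun e => htA ((h.ker _).1 e)
  obtain ⟨g, hg⟩ := hcyc.exists_generator
  obtain ⟨m, hm⟩ := mem_zpowers_iff.1 (hg (φ ⟨s, hs⟩))
  obtain ⟨n, hn⟩ := mem_zpowers_iff.1 (hg (φ ⟨t, ht⟩))
  rw [← hm] at h1 h3
  rw [← hn] at h2 h4
  rw [← hm, ← hn]
  rw [← zpow_natCast, ← zpow_mul] at h1 h2
  have h1' := orderOf_dvd_iff_zpow_eq_one.2 h1
  have h2' := orderOf_dvd_iff_zpow_eq_one.2 h2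
  have h3' : ¬ (orderOf g : ℤ) ∣ m := fun e => h3 (orderOf_dvd_iff_zpow_eq_one.1 e)
  have h4' : ¬ (orderOf g : ℤ) ∣ n := fun e => h4 (orderOf_dvd_iff_zpow_eq_one.1 e)
  have h5 : (orderOf g : ℤ) ∣ m - n := by
    obtain ⟨a, ha⟩ := h1'
    obtain ⟨b, hb⟩ := h2'
    have h6 : a % 2 = 1 := by
      rcases Int.emod_two_eq_zero_or_one a with e | e
      · exfalso
        apply h3'
        obtain ⟨k, hk⟩ := Int.dvd_of_emod_eq_zero e
        exact ⟨k, by push_cast at ha; rw [hk] at ha; linarith⟩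
      · exact e
    have h7 : b % 2 = 1 := by
      rcases Int.emod_two_eq_zero_or_one b with e | e
      · exfalso
        apply h4'
        obtain ⟨k, hk⟩ := Int.dvd_of_emod_eq_zero e
        exact ⟨k, by push_cast at hb; rw [hk] at hb; linarith⟩
      · exact e
    obtain ⟨k, hk⟩ : (2 : ℤ) ∣ a - b := by omega
    refine ⟨k, ?_⟩
    push_cast at ha hb
    have : a = b + 2 * k := by linarith
    rw [this] at ha
    linarith
  have h8 := orderOf_dvd_iff_zpow_eq_one.1 h5
  rw [zpow_sub, mul_inv_eq_one] at h8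
  exact h8

/-- an elementary abelian subgroup of `S` which meets `A` trivially has order at most two -/
theorem card_le_two [Finite L] {U : Subgroup L} (hU : U ≤ (S : Subgroup L)) (hsq : ∀ u ∈ U, u * u = 1)
    (hUA : ∀ u ∈ U, u ∈ A → u = 1) : Nat.card U ≤ 2 := by
  by_contra hlt
  push Not at hlt
  have h1 : ∃ u ∈ U, u ≠ 1 := by
    by_contra hc
    push Not at hc
    have : U = ⊥ := (eq_bot_iff_forall _).2 hc
    rw [this, card_bot] at hlt
    omega
  obtain ⟨u, hu, hu1⟩ := h1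
  have h2 : ∃ w ∈ U, w ≠ 1 ∧ w ≠ u := by
    by_contra hc
    push Not at hc
    have h3 : (U : Set L) ⊆ {1, u} := by
      intro w hw
      by_cases hw1 : w = 1
      · exact Or.inl hw1
      · exact Or.inr (hc w hw hw1)
    have h4 : Nat.card U ≤ Nat.card ({1, u} : Set L) := Nat.card_mono (Set.toFinite _) h3
    have h5 : Nat.card ({1, u} : Set L) ≤ 2 := by
      rw [Nat.card_coe_set_eq]
      exact (Set.ncard_insert_le 1 {u}).trans (by rw [Set.ncard_singleton])
    omega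
  obtain ⟨w, hw, hw1, hwu⟩ := h2
  have e := h.uniq (hU hu) (fun hA => hu1 (hUA u hu hA)) (by rw [hsq u hu]; exact one_mem _) (hU hw)
    (fun hA => hw1 (hUA w hw hA)) (by rw [hsq w hw]; exact one_mem _)
  have h3 : (⟨w, hU hw⟩⁻¹ * ⟨u, hU hu⟩ : ↥(S : Subgroup L)).1 ∈ A := (h.ker _).1 (by
    rw [map_mul, map_inv, e, inv_mul_cancel])
  have h4 := hUA _ (mul_mem (inv_mem hw) hu) h3
  rw [inv_mul_eq_one] at h4
  exact hwu h4

variable [Finite L]

/-- `A` is weakly closed -/
theorem wc {g : L} (hg : cj g A ≤ (S : Subgroup L)) : cj g A = A := by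
  have hsqB : ∀ b ∈ cj g A, b * b = 1 := by
    intro b hb
    have h1 := h.A_sq (mem_cj.1 hb)
    have e : b * b = g * (g⁻¹ * b * g * (g⁻¹ * b * g)) * g⁻¹ := by group
    rw [e, h1, mul_one, mul_inv_cancel]
  by_cases hB : ∀ b ∈ cj g A, b ∈ A → b = 1
  · have h1 := h.card_le_two hg hsqB hB
    rw [card_cj] at h1
    have := h.four
    omega
  · push Not at hB
    obtain ⟨b, hb, hbA, hb1⟩ := hB
    have hcv : cv V ((cj g A : Subgroup L) : Set L) = cv V (A : Set L) := by
      rw [← h.reg b hbA hb1]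
      ext v
      rw [mem_cv_cj, mem_cv_singleton]
      have h2 : g⁻¹ * b * g ≠ 1 := by
        intro e
        apply hb1
        have e2 : b = g * (g⁻¹ * b * g) * g⁻¹ := by group
        rw [e2, e, mul_one, mul_inv_cancel]
      rw [← h.reg _ (mem_cj.1 hb) h2, mem_cv_singleton, smul_smul, mul_assoc, mul_inv_cancel, mul_one, mul_smul,
        smul_left_cancel_iff]
    have hle : cj g A ≤ A := by
      intro c hc
      refine h.lin c (hg hc) (fun v hv => ?_) (fun v => ?_)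
      · rw [← hcv] at hv
        exact hv c hc
      · rw [← hcv, mem_cv_cj]
        have h3 := h.d_mem (mem_cj.1 hc) (g⁻¹ • v)
        have e : d (g⁻¹ * c * g) (g⁻¹ • v) = g⁻¹ • d c v := by
          unfold d
          rw [smul_mul', smul_smul, smul_smul, mul_assoc, mul_assoc, mul_inv_cancel, mul_one]
        rwa [e] at h3
    exact Subgroup.eq_of_le_of_card_ge hle (by rw [card_cj])

/-- a 2-subgroup containing `A^g` lies in a Sylow group in which it is the weakly closed one -/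
theorem exists_syl {g : L} {Q : Subgroup L} (hQ : IsPGroup 2 Q) (hg : cj g A ≤ Q) :
    ∃ x : L, cj x A = cj g A ∧ cj x⁻¹ Q ≤ (S : Subgroup L) := by
  obtain ⟨T, hT⟩ := hQ.exists_le_sylow
  obtain ⟨x, rfl⟩ := MulAction.exists_smul_eq L S T
  rw [coe_smul_sylow] at hT
  have h1 : Q ≤ cj x (S : Subgroup L) := hT
  have h2 := le_cj_iff.1 h1
  refine ⟨x, ?_, h2⟩
  have h3 : cj (x⁻¹ * g) A ≤ (S : Subgroup L) := by
    rw [cj_mul]
    exact (cj_mono hg).trans h2
  have h4 := h.wc h3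
  rw [cj_mul] at h4
  calc cj x A = cj x (cj x⁻¹ (cj g A)) := by rw [h4]
    _ = cj g A := cj_cj_inv _ _

/-- `A` is TI -/
theorem ti {g k : L} {a : L} (ha : a ∈ cj g A) (ha' : a ∈ cj k A) (ha1 : a ≠ 1) : cj g A = cj k A := by
  have hcv1 : ∀ {g : L}, a ∈ cj g A → cv V ((cj g A : Subgroup L) : Set L) = cv V ({a} : Set L) := by
    intro g ha
    ext v
    have h2 : g⁻¹ * a * g ≠ 1 := by
      intro e
      apply ha1
      have e2 : a = g * (g⁻¹ * a * g) * g⁻¹ := by group
      rw [e2, e, mul_one, mul_inv_cancel]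
    rw [mem_cv_cj, mem_cv_singleton, ← h.reg _ (mem_cj.1 ha) h2, mem_cv_singleton, smul_smul, mul_assoc,
      mul_inv_cancel, mul_one, mul_smul, smul_left_cancel_iff]
  have hd : ∀ {g : L}, a ∈ cj g A → ∀ c ∈ cj g A, ∀ v : V, d c v ∈ cv V ({a} : Set L) := by
    intro g ha c hc v
    rw [← hcv1 ha, mem_cv_cj]
    have h3 := h.d_mem (mem_cj.1 hc) (g⁻¹ • v)
    have e : d (g⁻¹ * c * g) (g⁻¹ • v) = g⁻¹ • d c v := by
      unfold d
      rw [smul_mul', smul_smul, smul_smul, mul_assoc, mul_assoc, mul_inv_cancel, mul_one]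
    rwa [e] at h3
  have hf : ∀ {g : L}, a ∈ cj g A → ∀ c ∈ cj g A, ∀ v ∈ cv V ({a} : Set L), c • v = v := by
    intro g ha c hc v hv
    rw [← hcv1 ha] at hv
    exact hv c hc
  -- the join is a 2-group
  have hp : IsPGroup 2 ↥(cj g A ⊔ cj k A) := by
    have hle : cj g A ⊔ cj k A ≤ h.stb (cv V ({a} : Set L)) :=
      sup_le (fun c hc => ⟨hf ha c hc, hd ha c hc⟩) (fun c hc => ⟨hf ha' c hc, hd ha' c hc⟩)
    intro x
    have h1 := hle x.2
    exact ⟨1, Subtype.ext (by
      rw [pow_one, SubmonoidClass.coe_pow, pow_two]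
      exact h.stab_sq h1.1 h1.2)⟩
  obtain ⟨x, hx1, hx2⟩ := h.exists_syl hp (le_sup_left : cj g A ≤ _)
  have h3 : cj (x⁻¹ * k) A ≤ (S : Subgroup L) := by
    rw [cj_mul]
    exact (cj_mono le_sup_right).trans hx2
  have h4 := h.wc h3
  rw [cj_mul] at h4
  calc cj g A = cj x A := hx1.symm
    _ = cj x (cj x⁻¹ (cj k A)) := by rw [h4]
    _ = cj k A := cj_cj_inv _ _

omit [Finite L] in
theorem cj_eq_self {s : L} (hs : s ∈ (S : Subgroup L)) : cj s A = A := by
  ext x
  rw [mem_cj]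
  constructor
  · intro hx
    have h1 := h.norm hs hx
    have e : s * (s⁻¹ * x * s) * s⁻¹ = x := by group
    rwa [e] at h1
  · intro hx
    exact h.norm' hs hx

/-- `a ↦ (s⁻¹ a s) a` -/
def dl (s : L) (hs : s ∈ (S : Subgroup L)) : A →* A where
  toFun a := ⟨s⁻¹ * a * s * a, mul_mem (h.norm' hs a.2) a.2⟩
  map_one' := Subtype.ext (by simp)
  map_mul' a b := Subtype.ext (by
    have h1 := h.A_comm (h.norm' hs b.2) a.2
    show s⁻¹ * ((a : L) * b) * s * (a * b) = s⁻¹ * a * s * a * (s⁻¹ * b * s * b)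
    calc s⁻¹ * ((a : L) * b) * s * (a * b) = (s⁻¹ * a * s) * ((s⁻¹ * b * s) * a) * b := by group
      _ = _ := by rw [h1]; group)

theorem dl_mem {s : L} (hs : s ∈ (S : Subgroup L)) (hs2 : s * s ∈ A) (a : A) :
    ((h.dl s hs a : A) : L) ∈ A ⊓ centralizer ({s} : Set L) := by
  refine mem_inf.2 ⟨(h.dl s hs a).2, mem_centralizer_singleton_iff.2 ?_⟩
  show s⁻¹ * a * s * a * s = s * (s⁻¹ * a * s * a)
  have h1 : s * s * (a : L) = a * (s * s) := h.A_comm hs2 a.2
  have h2 := h.A_comm (h.norm' hs a.2) a.2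
  have h3 : s * (a : L) = s⁻¹ * a * (s * s) := by
    rw [mul_assoc, ← h1]; group
  calc s⁻¹ * a * s * a * s = (a : L) * (s⁻¹ * a * s) * s := by rw [← h2]
    _ = a * (s⁻¹ * a * (s * s)) := by group
    _ = a * (s * a) := by rw [← h3]
    _ = s * (s⁻¹ * a * s * a) := by group

theorem dl_ker {s : L} (hs : s ∈ (S : Subgroup L)) (a : A) :
    h.dl s hs a = 1 ↔ (a : L) ∈ A ⊓ centralizer ({s} : Set L) := by
  have h0 := h.A_sq a.2
  have h1 : (a : L)⁻¹ = a := inv_eq_of_mul_eq_one_right h0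
  constructor
  · intro e
    refine mem_inf.2 ⟨a.2, mem_centralizer_singleton_iff.2 ?_⟩
    have e1 : s⁻¹ * (a : L) * s * a = 1 := congrArg Subtype.val e
    have e2 : s⁻¹ * (a : L) * s = a := (eq_inv_of_mul_eq_one_left e1).trans h1
    have e3 : s * (s⁻¹ * (a : L) * s) = s * a := by rw [e2]
    rw [← e3]; group
  · intro hc
    have hc := mem_centralizer_singleton_iff.1 (mem_inf.1 hc).2
    apply Subtype.ext
    show s⁻¹ * (a : L) * s * a = 1
    rw [mul_assoc s⁻¹, hc]
    rw [inv_mul_cancel_left, h0]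

theorem card_eq_mul {s : L} (hs : s ∈ (S : Subgroup L)) :
    Nat.card A = Nat.card (h.dl s hs).range * Nat.card ↥(A ⊓ centralizer ({s} : Set L)) := by
  have h1 : (h.dl s hs).ker = (A ⊓ centralizer ({s} : Set L)).subgroupOf A := by
    ext a
    rw [MonoidHom.mem_ker, h.dl_ker, mem_subgroupOf]
  have h2 : Nat.card ↥((A ⊓ centralizer ({s} : Set L)).subgroupOf A) = Nat.card ↥(A ⊓ centralizer ({s} : Set L)) :=
    Nat.card_congr (subgroupOfEquivOfLe inf_le_left).toEquiv
  rw [← h2, ← h1, mul_comm, ← index_ker, card_mul_index]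

theorem card_le_sq {s : L} (hs : s ∈ (S : Subgroup L)) (hs2 : s * s ∈ A) :
    Nat.card A ≤ Nat.card ↥(A ⊓ centralizer ({s} : Set L)) ^ 2 := by
  rw [h.card_eq_mul hs, pow_two]
  apply Nat.mul_le_mul_right
  have h1 : (h.dl s hs).range.map A.subtype ≤ A ⊓ centralizer ({s} : Set L) := by
    rintro _ ⟨_, ⟨a, rfl⟩, rfl⟩
    exact h.dl_mem hs hs2 a
  calc Nat.card (h.dl s hs).range = Nat.card ((h.dl s hs).range.map A.subtype) :=
        Nat.card_congr ((h.dl s hs).range.equivMapOfInjective _ A.subtype_injective).toEquiv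
    _ ≤ _ := card_le_of_le h1

/-- an involution in `s A` -/
theorem exists_inv {s : L} (hs : s ∈ (S : Subgroup L)) (hsA : s ∉ A) (hs2 : s * s ∈ A) :
    ∃ a ∈ A, (s * a) * (s * a) = 1 := by
  have hle : (h.dl s hs).range.map A.subtype ≤ A ⊓ centralizer ({s} : Set L) := by
    rintro _ ⟨_, ⟨a, rfl⟩, rfl⟩
    exact h.dl_mem hs hs2 a
  have hc1 : Nat.card (h.dl s hs).range = Nat.card ((h.dl s hs).range.map A.subtype) :=
    Nat.card_congr ((h.dl s hs).range.equivMapOfInjective _ A.subtype_injective).toEquiv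
  have h2 := h.fix s hs hsA
  rw [h.card_eq_mul hs, pow_two] at h2
  have h3 := Nat.le_of_mul_le_mul_right h2 Nat.card_pos
  rw [hc1] at h3
  have h4 := Subgroup.eq_of_le_of_card_ge hle h3
  have h5 : (s * s)⁻¹ ∈ A ⊓ centralizer ({s} : Set L) := by
    refine mem_inf.2 ⟨inv_mem hs2, mem_centralizer_singleton_iff.2 ?_⟩
    group
  rw [← h4] at h5
  obtain ⟨_, ⟨a, rfl⟩, ha⟩ := h5
  refine ⟨a, a.2, ?_⟩
  have ha' : s⁻¹ * (a : L) * s * a = (s * s)⁻¹ := ha
  calc s * (a : L) * (s * a) = s * s * (s⁻¹ * a * s * a) := by group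
    _ = 1 := by rw [ha', mul_inv_cancel]

/-- strongly closed -/
def Strong (_ : Inp V S A φ) : Prop := ∀ a ∈ A, ∀ g : L, g * a * g⁻¹ ∈ (S : Subgroup L) → g * a * g⁻¹ ∈ A

theorem odd_index : Odd (S : Subgroup L).index := by
  rw [← Nat.not_even_iff_odd, even_iff_two_dvd]
  exact S.not_dvd_index

/-- the kernel of the transfer to `S / A` -/
theorem exists_Y (hst : h.Strong) : ∃ Y : Subgroup L, Y.Normal ∧ A ≤ Y ∧ ∀ s ∈ (S : Subgroup L), s ∈ Y → s ∈ A := by
  have hfi : (S : Subgroup L).FiniteIndex := inferInstance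
  refine ⟨(MonoidHom.transfer φ).ker, inferInstance, ?_, ?_⟩
  · intro a ha
    rw [MonoidHom.mem_ker]
    refine SmallSimple.TransferInvol.transfer_eq_of_odd_index _ φ a ?_ h.odd_index 1 (one_pow 2) ?_
    · rw [pow_two]; exact h.A_sq ha
    · intro x hx
      obtain ⟨g, hg⟩ := isConj_iff.1 hx
      rw [h.ker, ← hg]
      exact hst a ha g (by rw [hg]; exact x.2)
  · -- the crucial part
    have key : ∀ s ∈ (S : Subgroup L), s ∉ A → s * s ∈ A → s ∉ (MonoidHom.transfer φ).ker := by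
      intro s hs hsA hs2 hsY
      obtain ⟨a, ha, ht⟩ := h.exists_inv hs hsA hs2
      have haY : a ∈ (MonoidHom.transfer φ).ker := by
        rw [MonoidHom.mem_ker]
        refine SmallSimple.TransferInvol.transfer_eq_of_odd_index _ φ a ?_ h.odd_index 1 (one_pow 2) ?_
        · rw [pow_two]; exact h.A_sq ha
        · intro x hx
          obtain ⟨g, hg⟩ := isConj_iff.1 hx
          rw [h.ker, ← hg]
          exact hst a ha g (by rw [hg]; exact x.2)
      have htY : s * a ∈ (MonoidHom.transfer φ).ker := mul_mem hsY haY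
      have htS : s * a ∈ (S : Subgroup L) := mul_mem hs (h.AS ha)
      have htA : s * a ∉ A := fun e => hsA ((Subgroup.mul_mem_cancel_right _ ha).1 e)
      have h1 : φ ⟨s * a, htS⟩ ≠ 1 := fun e => htA ((h.ker _).1 e)
      apply h1
      rw [MonoidHom.mem_ker] at htY
      rw [← htY]
      symm
      refine SmallSimple.TransferInvol.transfer_eq_of_odd_index _ φ (s * a) (by rw [pow_two]; exact ht) h.odd_index
        _ ?_ ?_
      · rw [← map_pow, pow_two]
        have e : (⟨s * a, htS⟩ * ⟨s * a, htS⟩ : ↥(S : Subgroup L)) = 1 := Subtype.ext ht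
        rw [e, map_one]
      · intro x hx
        obtain ⟨g, hg⟩ := isConj_iff.1 hx
        have hx2 : (x : L) * x = 1 := by
          rw [← hg]
          have e : g * (s * a) * g⁻¹ * (g * (s * a) * g⁻¹) = g * ((s * a) * (s * a)) * g⁻¹ := by group
          rw [e, ht, mul_one, mul_inv_cancel]
        have hxA : (x : L) ∉ A := by
          intro hxA
          have h2 := hst x hxA g⁻¹ (by
            rw [← hg]
            have e : g⁻¹ * (g * (s * a) * g⁻¹) * g⁻¹⁻¹ = s * a := by group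
            rw [e]; exact htS)
          rw [← hg] at h2
          have e : g⁻¹ * (g * (s * a) * g⁻¹) * g⁻¹⁻¹ = s * a := by group
          rw [e] at h2
          exact htA h2
        exact h.uniq x.2 hxA (by rw [hx2]; exact one_mem _) htS htA (by rw [ht]; exact one_mem _)
    intro s hs hsY
    by_contra hsA
    -- the last power outside `A`
    obtain ⟨n, hn⟩ : ∃ n : ℕ, s ^ 2 ^ n = 1 := by
      obtain ⟨n, hn⟩ := S.isPGroup' ⟨s, hs⟩
      exact ⟨n, congrArg Subtype.val hn⟩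
    have hex : ∃ n : ℕ, s ^ 2 ^ n ∈ A := ⟨n, by rw [hn]; exact one_mem _⟩
    classical
    obtain ⟨m, hm⟩ : ∃ m, Nat.find hex = m + 1 := by
      rcases hk : Nat.find hex with _ | m
      · have h1 := Nat.find_spec hex
        rw [hk, pow_zero, pow_one] at h1
        exact absurd h1 hsA
      · exact ⟨m, rfl⟩
    have h1 := Nat.find_spec hex
    have h2 := Nat.find_min hex (m := m) (by omega)
    rw [hm, pow_succ, pow_mul, pow_two] at h1
    exact key (s ^ 2 ^ m) (pow_mem hs _) h2 h1 (pow_mem hsY _)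

/-- **Strongly closed**: the fixed point spaces of different conjugates meet trivially. -/
theorem disj [Finite V] (hst : h.Strong) {g : L} (hg : cj g A ≠ A) : cv V (A : Set L) ⊓ cv V ((cj g A : Subgroup L) : Set L) = ⊥ := by
  obtain ⟨Y, hYn, hAY, hSY⟩ := h.exists_Y hst
  have hcY : ∀ g, cj g A ≤ Y := fun g x hx => by
    have h1 := hYn.conj_mem _ (hAY (mem_cj.1 hx)) g
    have e : g * (g⁻¹ * x * g) * g⁻¹ = x := by group
    rwa [e] at h1
  -- 2-subgroups of `Y`
  have h2Y : ∀ Q : Subgroup Y, IsPGroup 2 Q → ∃ g, Q.map Y.subtype ≤ cj g A := by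
    intro Q hQ
    obtain ⟨T, hT⟩ := (hQ.map Y.subtype).exists_le_sylow
    obtain ⟨x, rfl⟩ := MulAction.exists_smul_eq L S T
    rw [coe_smul_sylow] at hT
    refine ⟨x, fun y hy => ?_⟩
    obtain ⟨s, hs, hsy⟩ := hT hy
    have h1 : (MulAut.conj x).toMonoidHom s = y := hsy
    have h2 : y = x * s * x⁻¹ := by rw [← h1]; simp
    have h3 : s ∈ Y := by
      have h4 := hYn.conj_mem y (by obtain ⟨z, -, rfl⟩ := hy; exact z.2) x⁻¹
      rw [h2] at h4
      have e : x⁻¹ * (x * s * x⁻¹) * x⁻¹⁻¹ = s := by group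
      rwa [e] at h4
    rw [h2]
    exact conj_mem_cj (hSY s hs h3)
  have hsyl : ∀ T : Sylow 2 Y, ∃ g, ∀ y : Y, y ∈ (T : Subgroup Y) ↔ (y : L) ∈ cj g A := by
    intro T
    obtain ⟨g, hg⟩ := h2Y T T.isPGroup'
    refine ⟨g, ?_⟩
    have h1 : (T : Subgroup Y) ≤ (cj g A).subgroupOf Y := fun y hy => hg ⟨y, hy, rfl⟩
    have h2 : IsPGroup 2 ((cj g A).subgroupOf Y) :=
      (isPGroup_cj h.isPGroup).of_injective ((subgroupOfEquivOfLe (hcY g)).toMonoidHom)
        (subgroupOfEquivOfLe (hcY g)).injective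
    have h3 := T.is_maximal' h2 h1
    intro y
    rw [← h3, mem_subgroupOf]
  have hsyl' : ∀ g : L, ∃ T : Sylow 2 Y, ∀ y : Y, y ∈ (T : Subgroup Y) ↔ (y : L) ∈ cj g A := by
    intro g
    have h2 : IsPGroup 2 ((cj g A).subgroupOf Y) :=
      (isPGroup_cj h.isPGroup).of_injective ((subgroupOfEquivOfLe (hcY g)).toMonoidHom)
        (subgroupOfEquivOfLe (hcY g)).injective
    obtain ⟨T, hT⟩ := h2.exists_le_sylow
    obtain ⟨k, hk⟩ := hsyl T
    have h3 : cj g A ≤ cj k A := by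
      intro x hx
      have h4 : (⟨x, hcY g hx⟩ : Y) ∈ (T : Subgroup Y) := hT hx
      exact (hk _).1 h4
    have h4 : cj g A = cj k A := Subgroup.eq_of_le_of_card_ge h3 (by rw [card_cj, card_cj])
    exact ⟨T, fun y => by rw [hk, h4]⟩
  have hcard : ∀ (T : Sylow 2 Y) (g : L), (∀ y : Y, y ∈ (T : Subgroup Y) ↔ (y : L) ∈ cj g A) →
      Nat.card T = Nat.card A := by
    intro T g hT
    have h1 : (T : Subgroup Y) = (cj g A).subgroupOf Y := by
      ext y
      rw [hT, mem_subgroupOf]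
    show Nat.card (T : Subgroup Y) = _
    rw [h1, Nat.card_congr (subgroupOfEquivOfLe (hcY g)).toEquiv, card_cj]
  have hcv : ∀ (T : Sylow 2 Y) (g : L), (∀ y : Y, y ∈ (T : Subgroup Y) ↔ (y : L) ∈ cj g A) →
      cv V ((T : Subgroup Y) : Set Y) = cv V ((cj g A : Subgroup L) : Set L) := by
    intro T g hT
    ext v
    constructor
    · intro hv a ha
      exact hv ⟨a, hcY g ha⟩ ((hT _).2 ha)
    · intro hv a ha
      exact hv a ((hT a).1 ha)
  have hidx : ∀ g : L, (cv V ((cj g A : Subgroup L) : Set L)).index = Nat.card A := by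
    intro g
    rw [← h.idx]
    exact QData.index_cv_map_conj A g
  have hN : NData Y V := by
    refine ⟨h.comm, h.sq, fun x hx => Subtype.ext (h.faith x hx), ?_, ?_, ?_, ?_⟩
    · intro Q hQ x hx y hy v
      obtain ⟨g, hg⟩ := h2Y Q hQ
      have h1 := mem_cj.1 (hg ⟨x, hx, rfl⟩)
      have h2 := mem_cj.1 (hg ⟨y, hy, rfl⟩)
      have h3 := h.quad _ h1 _ h2 (g⁻¹ • v)
      have h4 := congrArg (fun w => g • w) h3
      unfold d at h4 ⊢
      simp only [smul_mul', smul_smul] at h4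
      have e1 : g * (g⁻¹ * (Y.subtype y) * g * (g⁻¹ * (Y.subtype x) * g * g⁻¹)) = (y : L) * x := by
        show g * (g⁻¹ * (y : L) * g * (g⁻¹ * (x : L) * g * g⁻¹)) = _
        group
      have e2 : g * (g⁻¹ * (Y.subtype y) * g * g⁻¹) = (y : L) := by
        show g * (g⁻¹ * (y : L) * g * g⁻¹) = _
        group
      have e3 : g * (g⁻¹ * (Y.subtype x) * g * g⁻¹) = (x : L) := by
        show g * (g⁻¹ * (x : L) * g * g⁻¹) = _
        group
      rw [e1, e2, e3, mul_inv_cancel, one_smul] at h4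
      show (y : L) • ((x : L) • v * v) = (x : L) • v * v
      rw [smul_mul', smul_smul]
      exact h4
    · intro T
      obtain ⟨g, hg⟩ := hsyl T
      rw [hcv T g hg, hidx, hcard T g hg]
    · intro T t ht ht1
      obtain ⟨g, hg⟩ := hsyl T
      rw [hcv T g hg]
      ext v
      have h1 := mem_cj.1 ((hg t).1 ht)
      have h2 : g⁻¹ * (t : L) * g ≠ 1 := by
        intro e
        apply ht1
        apply Subtype.ext
        have e2 : (t : L) = g * (g⁻¹ * t * g) * g⁻¹ := by group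
        rw [e2, e, mul_one, mul_inv_cancel]; rfl
      rw [mem_cv_cj, ← h.reg _ h1 h2, mem_cv_singleton, mem_cv_singleton, smul_smul, mul_assoc, mul_inv_cancel, mul_one,
        mul_smul, smul_left_cancel_iff]
      rfl
    · obtain ⟨T, hT⟩ := hsyl' 1
      obtain ⟨T', hT'⟩ := hsyl' g
      refine ⟨T, T', fun e => hg ?_⟩
      ext x
      have h1 := hT
      rw [cj_one] at h1
      constructor
      · intro hx
        have h2 := (hT' ⟨x, hcY g hx⟩).2 hx
        rw [← e] at h2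
        exact (h1 _).1 h2
      · intro hx
        have h2 := (h1 ⟨x, hAY hx⟩).2 hx
        rw [e] at h2
        exact (hT' _).1 h2
  obtain ⟨T, hT⟩ := hsyl' 1
  obtain ⟨T', hT'⟩ := hsyl' g
  have hne : T ≠ T' := by
    intro e
    apply hg
    ext x
    have h1 := hT
    rw [cj_one] at h1
    constructor
    · intro hx
      have h2 := (hT' ⟨x, hcY g hx⟩).2 hx
      rw [← e] at h2
      exact (h1 _).1 h2
    · intro hx
      have h2 := (h1 ⟨x, hAY hx⟩).2 hx
      rw [e] at h2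
      exact (hT' _).1 h2
  have h5 := hN.index_inf hne
  rw [hcv T 1 hT, hcv T' g hT', hcard T 1 hT, cj_one, ← h.card] at h5
  have h6 := card_mul_index (cv V (A : Set L) ⊓ cv V ((cj g A : Subgroup L) : Set L))
  rw [h5] at h6
  have h7 : 0 < Nat.card V := Nat.card_pos
  have h8 : Nat.card ↥(cv V (A : Set L) ⊓ cv V ((cj g A : Subgroup L) : Set L)) = 1 :=
    Nat.eq_of_mul_eq_mul_right h7 (by rw [h6, one_mul])
  exact card_eq_one.1 h8

/-- **Not strongly closed**: `|A| = 4`. -/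
theorem card_eq_four (hst : ¬ h.Strong) : Nat.card A = 4 := by
  have h4 := h.four
  unfold Strong at hst
  push Not at hst
  obtain ⟨a, ha, g, htS, htA⟩ := hst
  set t := g * a * g⁻¹ with ht
  have ha1 : a ≠ 1 := by
    intro e
    apply htA
    rw [ht, e, mul_one, mul_inv_cancel]
    exact one_mem _
  have ht2 : t * t = 1 := by
    have e : t * t = g * (a * a) * g⁻¹ := by rw [ht]; group
    rw [e, h.A_sq ha, mul_one, mul_inv_cancel]
  have ht1 : t ≠ 1 := fun e => htA (by rw [e]; exact one_mem _)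
  have htB : t ∈ cj g A := conj_mem_cj ha
  have h1 := h.card_le_sq htS (by rw [ht2]; exact one_mem _)
  set U := A ⊓ centralizer ({t} : Set L) with hU
  -- `U` normalises `B = A^g`
  have hnB : ∀ u ∈ U, cj u (cj g A) = cj g A := by
    intro u hu
    rw [← cj_mul]
    have hc := mem_centralizer_singleton_iff.1 (mem_inf.1 hu).2
    refine h.ti (g := u * g) (k := g) (a := t) ?_ htB ht1
    rw [cj_mul, mem_cj]
    have e : u⁻¹ * t * u = t := by rw [mul_assoc, ← hc, inv_mul_cancel_left]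
    rw [e]; exact htB
  have hp : IsPGroup 2 ↥(U ⊔ cj g A) := by
    apply IsPGroup.to_sup_of_normal_right' (h.isPGroup.to_le inf_le_left) (isPGroup_cj h.isPGroup)
    intro u hu
    rw [mem_normalizer_iff]
    intro x
    have h2 := hnB u hu
    constructor
    · intro hx
      rw [← h2]
      exact conj_mem_cj hx
    · intro hx
      have h3 : u * x * u⁻¹ ∈ cj u (cj g A) := by rw [h2]; exact hx
      have h4 := mem_cj.1 h3
      have e : u⁻¹ * (u * x * u⁻¹) * u = x := by group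
      rwa [e] at h4
  obtain ⟨x, hx1, hx2⟩ := h.exists_syl hp (le_sup_right : cj g A ≤ _)
  have h5 : Nat.card (cj x⁻¹ U) ≤ 2 := by
    apply h.card_le_two ((cj_mono le_sup_left).trans hx2)
    · intro u hu
      have h6 := mem_cj.1 hu
      have h7 := h.A_sq (mem_inf.1 h6).1
      have e : u * u = x⁻¹ * (x⁻¹⁻¹ * u * x⁻¹ * (x⁻¹⁻¹ * u * x⁻¹)) * x := by group
      rw [e, h7, mul_one, inv_mul_cancel]
    · intro u hu huA
      by_contra hu1
      have h6 := mem_cj.1 hu
      rw [inv_inv] at h6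
      have h7 : x * u * x⁻¹ ∈ cj g A := by rw [← hx1]; exact conj_mem_cj huA
      have h8 : x * u * x⁻¹ ≠ 1 := by
        intro e
        apply hu1
        have e2 : u = x⁻¹ * (x * u * x⁻¹) * x := by group
        rw [e2, e, mul_one, inv_mul_cancel]
      have h9 := h.ti (g := 1) (k := g) (by rw [cj_one]; exact (mem_inf.1 h6).1) h7 h8
      rw [cj_one] at h9
      apply htA
      rw [h9]
      exact htB
  rw [card_cj] at h5
  have h6 : Nat.card U ^ 2 ≤ 2 ^ 2 := Nat.pow_le_pow_left h5 2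
  omega

end Inp

end Cfsg.Agent.Omega.NatPair.NormAbs
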