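import Cfsg.Agent.Omega.NatPair.NormLev

/-!
# LEMMA NORM' (bb OMEGA #18813), parts (I) and (II)

(I) an element which maps every `F`-line onto an `F`-line normalises `SL₂(F)`;
(II) it is enough to look at the elements fixing one nonzero vector.
-/

set_option autoImplicit false
set_option linter.unusedSectionVars false

namespace Cfsg.Agent.Omega.NatPair.NormLev

open Subgroup Cfsg.Agent.Lib.SL2Mat

/-- an additive map preserving every line of `F²` is a scalar -/
theorem exists_scalar_of_lines {F : Type*} [Field F] (φ : (Fin 2 → F) → (Fin 2 → F))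
    (hadd : ∀ x y, φ (x + y) = φ x + φ y) (hl : ∀ x, ∃ d : F, φ x = d • x) : ∃ c : F, ∀ x, φ x = c • x := by
  have key : ∀ a b : F, φ ![a, b] = φ ![a, 0] + φ ![0, b] := by
    intro a b
    rw [← hadd]
    congr 1
    apply ext2 <;> simp
  have h1 : ∀ a : F, φ ![a, 0] 1 = 0 := by
    intro a
    obtain ⟨d, hd⟩ := hl ![a, 0]
    rw [hd]; simp
  have h0 : ∀ b : F, φ ![0, b] 0 = 0 := by
    intro b
    obtain ⟨d, hd⟩ := hl ![0, b]
    rw [hd]; simp
  -- the two coordinates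
  have hab : ∀ a b : F, φ ![a, b] = ![φ ![a, 0] 0, φ ![0, b] 1] := by
    intro a b
    rw [key]
    apply ext2
    · simp [h0]
    · simp [h1]
  -- the lines `F (1, m)`
  have hm : ∀ m : F, φ ![0, m] 1 = m * φ ![1, 0] 0 := by
    intro m
    obtain ⟨d, hd⟩ := hl ![1, m]
    rw [hab] at hd
    have e0 := congrFun hd 0
    have e1 := congrFun hd 1
    simp only [Matrix.cons_val_zero, Matrix.cons_val_one, Matrix.cons_val_fin_one, Pi.smul_apply, smul_eq_mul,
      mul_one] at e0 e1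
    rw [e0, e1, mul_comm]
  -- the lines `F (m, 1)`
  have hm' : ∀ m : F, φ ![m, 0] 0 = m * φ ![0, 1] 1 := by
    intro m
    obtain ⟨d, hd⟩ := hl ![m, 1]
    rw [hab] at hd
    have e0 := congrFun hd 0
    have e1 := congrFun hd 1
    simp only [Matrix.cons_val_zero, Matrix.cons_val_one, Matrix.cons_val_fin_one, Pi.smul_apply, smul_eq_mul,
      mul_one] at e0 e1
    rw [e0, e1, mul_comm]
  have h11 : φ ![0, 1] 1 = φ ![1, 0] 0 := by rw [hm 1, one_mul]
  refine ⟨φ ![1, 0] 0, fun x => ?_⟩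
  have hx : x = ![x 0, x 1] := by apply ext2 <;> simp
  rw [hx, hab]
  apply ext2
  · simp only [Matrix.cons_val_zero, Pi.smul_apply, smul_eq_mul]
    rw [hm' (x 0), h11, mul_comm]
  · simp only [Matrix.cons_val_one, Matrix.cons_val_fin_one, Pi.smul_apply, smul_eq_mul]
    rw [hm (x 1), mul_comm]

namespace Co

variable {F L V : Type*} [Field F] [Group L] [Group V] [MulDistribMulAction L V] (M : Co F L V)

/-- `E` is generated by two conjugates of the root group -/
theorem m_mem_of' {K : Subgroup L} (h1 : ∀ a, M.m (up a) ∈ K) (h2 : ∀ a, M.m (lo a) ∈ K)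
    (A : Matrix.SpecialLinearGroup (Fin 2) F) : M.m A ∈ K := by
  obtain ⟨a, b, c, d, rfl⟩ := exists_up_lo A
  rw [M.m_mul, M.m_mul, M.m_mul]
  exact mul_mem (mul_mem (mul_mem (h1 a) (h2 b)) (h1 c)) (h2 d)

/-- the transvection `A up(a) A⁻¹` moves into the direction of `A e₁` -/
theorem T_conj_up (A : Matrix.SpecialLinearGroup (Fin 2) F) (a : F) (y : Fin 2 → F) :
    ap (A * up a * A⁻¹) y - y = (a * ap A⁻¹ y 1) • ap A ![1, 0] := by
  obtain ⟨z, rfl⟩ : ∃ z, ap A z = y := ⟨ap A⁻¹ y, ap_ap_inv A y⟩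
  rw [ap_mul, ap_mul, ap_inv_ap]
  have h1 : ap (up a) z = z + (a * z 1) • ![1, 0] := by
    rw [ap_up]
    apply ext2 <;> simp
  rw [h1, ap_add, ap_smul]
  abel

/-- a semilinear `g` conjugates transvections to transvections -/
theorem conj_up_mem {g : L} {s s' : F → F} (hs : ∀ (c : F) x, M.T g (c • x) = s c • M.T g x)
    (hs' : ∀ (c : F) x, M.T g⁻¹ (c • x) = s' c • M.T g⁻¹ x) (A : Matrix.SpecialLinearGroup (Fin 2) F) (a : F) :
    g * M.m (A * up a * A⁻¹) * g⁻¹ ∈ M.E := by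
  set B := A * up a * A⁻¹ with hB
  set x := M.T g (ap A ![1, 0]) with hx
  have hA0 : ap A ![1, 0] ≠ 0 := by
    intro h
    have h2 := ap_inv_ap A ![1, 0]
    rw [h] at h2
    have h3 : ap A⁻¹ (0 : Fin 2 → F) = 0 := by
      apply ext2
      · rw [ap_zero']; simp
      · rw [ap_one']; simp
    rw [h3] at h2
    exact e1_ne h2.symm
  have hT : ∀ y, M.T (g * M.m B * g⁻¹) y = M.T g (ap B (M.T g⁻¹ y)) := by
    intro y
    rw [M.T_mul, M.T_mul, M.T_m]
  -- `s' ` inverts `s` up to the direction: `s (s' c) = c`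
  have hss : ∀ c : F, s (s' c) = c := by
    intro c
    have h1 : M.T g (M.T g⁻¹ (c • ![1, 0])) = s (s' c) • M.T g (M.T g⁻¹ ![1, 0]) := by
      rw [hs', hs]
    rw [M.T_T_inv, M.T_T_inv] at h1
    exact (smul_left_injective F e1_ne h1).symm
  obtain ⟨C, hC⟩ := NatPair.exists_of_fix (x := x) (M.T_ne_zero hA0) (M.T (g * M.m B * g⁻¹)) (M.T_add _)
    (by
      intro c y
      rw [hT, hT, hs', ap_smul, hs, hss])
    (by
      rw [hT, hx, M.T_inv_T]
      congr 1
      have h1 := T_conj_up A a (ap A ![1, 0])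
      rw [ap_inv_ap] at h1
      simp only [Matrix.cons_val_one, Matrix.cons_val_fin_one, mul_zero, zero_smul] at h1
      exact sub_eq_zero.1 h1)
    (by
      intro y
      refine ⟨s (a * ap A⁻¹ (M.T g⁻¹ y) 1), ?_⟩
      have h1 := T_conj_up A a (M.T g⁻¹ y)
      rw [sub_eq_iff_eq_add] at h1
      rw [hT, h1, M.T_add, M.T_T_inv, hs]
      abel)
  exact ⟨C, M.ext (fun y => by
    show M.T (M.m C) y = _
    rw [M.T_m, hC])⟩

/-- semilinear elements conjugate `E` into `E` -/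
theorem conj_mem_of_semi {g : L} {s s' : F → F} (hs : ∀ (c : F) x, M.T g (c • x) = s c • M.T g x)
    (hs' : ∀ (c : F) x, M.T g⁻¹ (c • x) = s' c • M.T g⁻¹ x) {u : L} (hu : u ∈ M.E) : g * u * g⁻¹ ∈ M.E := by
  obtain ⟨A, rfl⟩ := M.mem_E.1 hu
  exact M.m_mem_of' (K := M.E.comap (MulAut.conj g).toMonoidHom)
    (fun a => by
      have h1 := M.conj_up_mem hs hs' 1 a
      rw [one_mul, inv_one, mul_one] at h1
      exact h1)
    (fun a => by
      have h1 := M.conj_up_mem hs hs' (wm 1 one_ne_zero) (-a)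
      have h2 : lo a = wm 1 one_ne_zero * up (-a) * (wm 1 one_ne_zero)⁻¹ := by
        rw [wm_up, mul_assoc, mul_inv_cancel, mul_one]
        congr 1
        simp
      rw [← h2] at h1
      exact h1) A

/-- a line preserving `g` is semilinear -/
theorem exists_semi_of_lines {g : L} (h : ∀ (x : Fin 2 → F) (c : F), ∃ d : F, M.T g (c • x) = d • M.T g x) :
    ∃ s : F → F, ∀ (c : F) x, M.T g (c • x) = s c • M.T g x := by
  have key : ∀ c : F, ∃ d : F, ∀ x, M.T g (c • M.T g⁻¹ x) = d • x := by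
    intro c
    refine exists_scalar_of_lines (fun x => M.T g (c • M.T g⁻¹ x)) ?_ ?_
    · intro x y
      show M.T g (c • M.T g⁻¹ (x + y)) = _
      rw [M.T_add, smul_add, M.T_add]
    · intro x
      obtain ⟨d, hd⟩ := h (M.T g⁻¹ x) c
      refine ⟨d, ?_⟩
      show M.T g (c • M.T g⁻¹ x) = _
      rw [hd, M.T_T_inv]
  choose s hs using key
  refine ⟨s, fun c x => ?_⟩
  have h1 := hs c (M.T g x)
  rwa [M.T_inv_T] at h1

/-- **(I)** an element mapping every `F`-line onto an `F`-line normalises `SL₂(F)` -/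
theorem mem_normalizer_of_lines [Finite F] {g : L}
    (h : ∀ (x : Fin 2 → F) (c : F), ∃ d : F, M.T g (c • x) = d • M.T g x)
    (h' : ∀ (x : Fin 2 → F) (c : F), ∃ d : F, M.T g⁻¹ (c • x) = d • M.T g⁻¹ x) :
    g ∈ normalizer (M.E : Set L) := by
  obtain ⟨s, hs⟩ := M.exists_semi_of_lines h
  obtain ⟨s', hs'⟩ := M.exists_semi_of_lines h'
  rw [mem_normalizer_iff]
  intro u
  refine ⟨fun hu => M.conj_mem_of_semi hs hs' hu, fun hu => ?_⟩
  have h1 := M.conj_mem_of_semi (g := g⁻¹) hs' (by rw [inv_inv]; exact hs) hu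
  have e : g⁻¹ * (g * u * g⁻¹) * g⁻¹⁻¹ = u := by group
  rwa [e] at h1

/-- **(II)** it is enough to look at the elements fixing the nonzero vector `r` -/
theorem norm_of_fix [Finite F] {r : Fin 2 → F} (hr : r ≠ 0)
    (h : ∀ n : L, M.T n r = r → ∀ c : F, ∃ d : F, M.T n (c • r) = d • r) (g : L) :
    g ∈ normalizer (M.E : Set L) := by
  have key : ∀ (g : L) (x : Fin 2 → F) (c : F), ∃ d : F, M.T g (c • x) = d • M.T g x := by
    intro g x c
    by_cases hx : x = 0
    · refine ⟨0, ?_⟩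
      rw [hx, smul_zero, M.T_zero, smul_zero]
    obtain ⟨A, hA⟩ := NatPair.exists_ap hr hx
    obtain ⟨B, hB⟩ := NatPair.exists_ap hr (M.T_ne_zero (g := g) hx)
    have hT : ∀ y, M.T ((M.m B)⁻¹ * g * M.m A) y = ap B⁻¹ (M.T g (ap A y)) := by
      intro y
      rw [M.T_mul, M.T_mul, M.T_m, ← M.m_inv, M.T_m]
    obtain ⟨d, hd⟩ := h ((M.m B)⁻¹ * g * M.m A) (by rw [hT, hA, ← hB, ap_inv_ap]) c
    refine ⟨d, ?_⟩
    rw [hT, ap_smul, hA] at hd
    have h1 := congrArg (ap B) hd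
    rwa [ap_ap_inv, ap_smul, hB] at h1
  exact M.mem_normalizer_of_lines (key g) (key g⁻¹)

end Co

end Cfsg.Agent.Omega.NatPair.NormLev
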