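import Cfsg.Agent.Omega.NatPair.NormP2
import Cfsg.Agent.Omega.NatPair.Norm

/-!
# LEMMA NORM', group level (helper958, WrCv TEXT 3, bb #18813)

* `Nm.rr_conj`, `nm_of_rr` : `N_G(V)` against the linear group `Lin V = N_G(V) / C_G(V)`;
* `PreMod.norm_of_o2` : the group level of `NormLev.Co.norm_of_o2`.
-/

set_option autoImplicit false
set_option linter.unusedSectionVars false

namespace Cfsg.Agent.Omega.NatPair.PreMod

open Subgroup Cfsg.Agent.Lib.SL2Mat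

variable {G : Type*} [Group G] {F : Type*} [Field F] {V : Subgroup G} (M : PreMod F V)

/-- an element of `N_G(V)` which normalises the `SL₂(F)`, on the linear level -/
theorem Nm.rr_conj {s : normalizer (V : Set G)} (hs : M.Nm s) : ∀ x ∈ M.toCo.E, rr s * x * (rr s)⁻¹ ∈ M.toCo.E := by
  intro x hx
  obtain ⟨h, rfl⟩ := rr_surj x
  obtain ⟨A, hA⟩ := (M.mem_E_iff h).1 hx
  obtain ⟨B, hB⟩ := hs h A hA
  rw [← rr_inv, ← rr_mul, ← rr_mul]
  exact (M.mem_E_iff _).2 ⟨B, hB⟩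

/-- `rr g` normalises `E` for all `g ∈ N_G(V)`: all of `N_G(V)` normalises the `SL₂(F)` -/
theorem nm_of_rr (h : ∀ g : normalizer (V : Set G), rr g ∈ normalizer (M.toCo.E : Set (Lin V))) :
    ∀ g ∈ normalizer (V : Set G), M.Nm g := by
  intro g hg h' A hA
  have h2 : rr ⟨h', M.mem_normalizer hA⟩ ∈ M.toCo.E := (M.mem_E_iff _).2 ⟨A, hA⟩
  have h3 := (mem_normalizer_iff.1 (h ⟨g, hg⟩) _).1 h2
  rw [← rr_inv, ← rr_mul, ← rr_mul] at h3
  exact (M.mem_E_iff _).1 h3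

/-- **LEMMA NORM'**, group level: a nontrivial 2-group `O` which centralises `r ∈ V`, is normal in
`N_G(V) ∩ C_G(r)` and normalises the `SL₂(F)`, does not centralise `V`. -/
theorem norm_of_o2' [Finite F] [CharP F 2] {r : G} (hr : r ∈ V) (hr1 : r ≠ 1)
    {O : Subgroup G} (hO2 : IsPGroup 2 O) (hOV : O ≤ normalizer (V : Set G)) (hON : ∀ o ∈ O, M.Nm o)
    (hOr : ∀ o ∈ O, o * r = r * o)
    (hn : ∀ n ∈ normalizer (V : Set G), n * r = r * n → n ∈ normalizer (O : Set G))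
    (h1 : ¬ O ≤ centralizer (V : Set G)) : ∀ g ∈ normalizer (V : Set G), M.Nm g := by
  obtain ⟨x, rfl⟩ := (M.mem_iff r).1 hr
  set O' : Subgroup (Lin V) := (O.subgroupOf (normalizer (V : Set G))).map V.normalizerMonoidHom.rangeRestrict
    with hO'
  have hmem : ∀ y : Lin V, y ∈ O' ↔ ∃ o : normalizer (V : Set G), (o : G) ∈ O ∧ rr o = y := by
    intro y
    rw [hO', Subgroup.mem_map]
    constructor
    · rintro ⟨o, ho, rfl⟩
      exact ⟨o, mem_subgroupOf.1 ho, rfl⟩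
    · rintro ⟨o, ho, rfl⟩
      exact ⟨o, mem_subgroupOf.2 ho, rfl⟩
  have hTx : ∀ n : normalizer (V : Set G), M.toCo.T (rr n) x = x ↔ (n : G) * M.e x = M.e x * n := by
    intro n
    rw [← M.e_inj.eq_iff, M.e_T, mul_inv_eq_iff_eq_mul]
  apply M.nm_of_rr
  intro g
  refine M.toCo.norm_of_o2' (O := O') (r := x) (fun h => hr1 (by rw [h, M.e_zero])) ?_ ?_ ?_ ?_ ?_ _
  · exact (hO2.comap_of_injective (normalizer (V : Set G)).subtype
      (normalizer (V : Set G)).subtype_injective).map _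
  · intro y hy
    obtain ⟨o, ho, rfl⟩ := (hmem y).1 hy
    rw [mem_normalizer_iff]
    intro z
    constructor
    · exact Nm.rr_conj M (hON o ho) z
    · intro hz
      have h2 := Nm.rr_conj M (s := o⁻¹) (hON _ (inv_mem ho)) _ hz
      rw [rr_inv, inv_inv] at h2
      have e : (rr o)⁻¹ * (rr o * z * (rr o)⁻¹) * rr o = z := by group
      rwa [e] at h2
  · intro y hy
    obtain ⟨o, ho, rfl⟩ := (hmem y).1 hy
    exact (hTx o).2 (hOr o ho)
  · intro n hn1 y hy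
    obtain ⟨o, ho, rfl⟩ := (hmem y).1 hy
    obtain ⟨n, rfl⟩ := rr_surj n
    rw [← rr_inv, ← rr_mul, ← rr_mul]
    refine (hmem _).2 ⟨_, ?_, rfl⟩
    exact (mem_normalizer_iff.1 (hn n n.2 ((hTx n).1 hn1)) _).1 ho
  · intro h0
    apply h1
    intro o ho
    have h2 : rr ⟨o, hOV ho⟩ = 1 := by
      have h3 : rr ⟨o, hOV ho⟩ ∈ O' := (hmem _).2 ⟨⟨o, hOV ho⟩, ho, rfl⟩
      rwa [h0, mem_bot] at h3
    rw [mem_centralizer_iff]
    intro v hv
    have h3 := rr_smul ⟨o, hOV ho⟩ ⟨v, hv⟩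
    rw [h2, one_smul] at h3
    exact eq_mul_inv_iff_mul_eq.1 h3

/-- the literal form of TCARD 3 -/
theorem norm_of_o2 [Finite F] [CharP F 2] (_h4 : 4 ≤ Nat.card F) {r : G} (hr : r ∈ V) (hr1 : r ≠ 1)
    {O : Subgroup G} (hO2 : IsPGroup 2 O) (hOV : O ≤ normalizer (V : Set G)) (hON : ∀ o ∈ O, M.Nm o)
    (hOr : ∀ o ∈ O, o * r = r * o)
    (hn : ∀ n ∈ normalizer (V : Set G), n * r = r * n → n ∈ normalizer (O : Set G))
    (h1 : ¬ O ≤ centralizer (V : Set G)) : ∀ g ∈ normalizer (V : Set G), M.Nm g :=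
  M.norm_of_o2' hr hr1 hO2 hOV hON hOr hn h1

end Cfsg.Agent.Omega.NatPair.PreMod
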