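import Cfsg.Agent.Omega.NatPair.Mod

/-!
# Quadratic offenders on a natural `SL₂(q)`-module
-/

set_option autoImplicit false
set_option linter.unusedSectionVars false

namespace Cfsg.Agent.Omega.NatPair.NatMod

open Subgroup Cfsg.Agent.Lib.SL2Mat

variable {G : Type*} [Group G] {F : Type*} [Field F] {V : Subgroup G} (M : NatMod F V)

/-- the vectors fixed by `A` -/
theorem card_fix (A : Subgroup G) : Nat.card {x : Fin 2 → F // ∀ a ∈ A, a * M.e x = M.e x * a} *
    (centralizer (A : Set G)).relIndex V = Nat.card F ^ 2 := by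
  have h1 : Nat.card {x : Fin 2 → F // ∀ a ∈ A, a * M.e x = M.e x * a} =
      Nat.card ((centralizer (A : Set G)).subgroupOf V) := by
    refine Nat.card_congr (Equiv.ofBijective
      (fun x => ⟨⟨M.e x.1, M.e_mem _⟩, mem_subgroupOf.2 (mem_centralizer_iff.2 fun a ha => x.2 a ha)⟩) ⟨?_, ?_⟩)
    · intro x y h
      exact Subtype.ext (M.e_inj (congrArg (fun z => ((z : (centralizer (A : Set G)).subgroupOf V) : V).1) h))
    · rintro ⟨⟨v, hv⟩, hv'⟩
      obtain ⟨x, rfl⟩ := (M.mem_iff v).1 hv
      exact ⟨⟨x, fun a ha => mem_centralizer_iff.1 (mem_subgroupOf.1 hv') a ha⟩, rfl⟩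
  rw [h1, relIndex, Subgroup.card_mul_index, M.card_V]

/-- an element of `N_G(V)` with nontrivial field automorphism fixes at most `q` vectors -/
theorem card_fix_le [Finite F] {a : G} (ha : a ∈ normalizer (V : Set G)) {s : F ≃+* F}
    (hs : ∀ (c : F) x, M.act a (c • x) = s c • M.act a x) {c : F} (hc : s c ≠ c) {X : Set (Fin 2 → F)}
    (hX : ∀ x ∈ X, M.act a x = x) : Nat.card X ≤ Nat.card F := by
  have hinj : Function.Injective (fun p : X × X => (p.1.1 + c • p.2.1 : Fin 2 → F)) := by
    rintro ⟨⟨x, hx⟩, ⟨y, hy⟩⟩ ⟨⟨x', hx'⟩, ⟨y', hy'⟩⟩ h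
    have h1 : x + c • y = x' + c • y' := h
    have h2 := congrArg (M.act a) h1
    rw [M.act_add ha, M.act_add ha, hs, hs, hX x hx, hX y hy, hX x' hx', hX y' hy'] at h2
    have h3 : (s c - c) • (y - y') = 0 := by
      have e1 : x = x' + c • y' - c • y := by rw [← h1]; abel
      rw [e1] at h2
      have e2 : c • y' - c • y + s c • y = s c • y' := by
        have : x' + (c • y' - c • y + s c • y) = x' + s c • y' := by rw [← h2]; abel
        exact add_left_cancel this
      rw [sub_smul, smul_sub, smul_sub]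
      have e3 : s c • y - c • y = s c • y' - c • y' := by
        rw [← e2]; abel
      have e4 : s c • y - s c • y' - (c • y - c • y') = (s c • y - c • y) - (s c • y' - c • y') := by abel
      rw [e4, e3, sub_self]
    rcases smul_eq_zero.1 h3 with h4 | h4
    · exact absurd (sub_eq_zero.1 h4) hc
    · have h5 : y = y' := sub_eq_zero.1 h4
      subst h5
      have h6 : x = x' := add_right_cancel h1
      subst h6
      rfl
  have h1 := Nat.card_le_card_of_injective _ hinj
  rw [Nat.card_prod] at h1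
  have h2 : Nat.card (Fin 2 → F) = Nat.card F * Nat.card F := by simp [Nat.card_fun, pow_two]
  rw [h2] at h1
  by_contra hcon
  push Not at hcon
  have := Nat.mul_lt_mul_of_lt_of_le hcon hcon.le (lt_of_le_of_lt (Nat.zero_le _) hcon)
  omega

/-- **quadratic offenders on a natural module** -/
theorem quad_ff [Finite G] [Finite F] [CharP F 2] {A : Subgroup G} (hA : A ≤ normalizer (V : Set G))
    (hne : ∃ a ∈ A, ∃ v ∈ V, a * v ≠ v * a)
    (hq : ∀ a ∈ A, ∀ b ∈ A, ∀ v ∈ V, b * (a * v * a⁻¹ * v⁻¹) = (a * v * a⁻¹ * v⁻¹) * b)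
    (hoff : (centralizer (A : Set G)).relIndex V ≤ (centralizer (V : Set G)).relIndex A) :
    ∃ w, M.Quad A w := by
  have hadd := fun {a : G} (ha : a ∈ A) => M.act_add (hA ha)
  -- commutators
  have hcomm : ∀ a ∈ A, ∀ x, a * M.e x * a⁻¹ * (M.e x)⁻¹ = M.e (M.act a x - x) := by
    intro a ha x
    rw [M.e_sub, M.e_act (hA ha)]
  have hquad : ∀ a ∈ A, ∀ b ∈ A, ∀ x, M.act b (M.act a x - x) = M.act a x - x := by
    intro a ha b hb x
    rw [← M.commute_e (hA hb), ← hcomm a ha]
    exact hq a ha b hb _ (M.e_mem x)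
  have hcardpos : 0 < Nat.card F := Nat.card_pos
  by_cases hlin : ∃ a ∈ A, (∃ x, M.act a x ≠ x) ∧ ∀ (c : F) x, M.act a (c • x) = c • M.act a x
  · obtain ⟨a, ha, ⟨y, hy⟩, hal⟩ := hlin
    set w := M.act a y - y with hw
    have hw0 : w ≠ 0 := fun h => hy (sub_eq_zero.1 h)
    have hline : ∀ (c : F), ∀ b ∈ A, M.act b (c • w) = c • w := by
      intro c b hb
      have h1 := hquad a ha b hb (c • y)
      rwa [hal, ← smul_sub, ← hw] at h1
    have hfix1 : ∀ b ∈ A, M.act b w = w := by
      intro b hb
      have := hline 1 b hb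
      rwa [one_smul] at this
    have hbl : ∀ b ∈ A, ∀ (c : F) x, M.act b (c • x) = c • M.act b x := by
      intro b hb c x
      obtain ⟨s, hs⟩ := M.exists_semi (hA hb)
      have h1 : ∀ d : F, s d = d := by
        intro d
        have h2 := hline d b hb
        rw [hs, hfix1 b hb] at h2
        exact smul_left_injective F hw0 h2
      rw [hs, h1]
    have hfixa : ∀ x, M.act a x = x → ∃ c : F, x = c • w := by
      intro x hx
      by_contra hcon
      have h1 : dt w x ≠ 0 := fun h => hcon (exists_smul_of_dt hw0 h)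
      exact hy (fix_all h1 (M.act a) (hadd ha) hal (hfix1 a ha) hx y)
    have hlin : ∀ b ∈ A, ∃ B, ap B w = w ∧ M.Ind b B := by
      intro b hb
      obtain ⟨B, hB⟩ := exists_of_fix hw0 (M.act b) (hadd hb) (hbl b hb) (hfix1 b hb) (fun z => by
        obtain ⟨c, hc⟩ := hfixa (M.act b z - z) (hquad b hb a ha z)
        exact ⟨c, hc⟩)
      exact ⟨B, by rw [← hB, hfix1 b hb], M.ind_of_act (hA hb) hB⟩
    -- the fixed points
    have hfix : ∀ x, (∀ b ∈ A, b * M.e x = M.e x * b) ↔ ∃ c : F, x = c • w := by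
      intro x
      constructor
      · intro h
        exact hfixa x ((M.commute_e (hA ha)).1 (h a ha))
      · rintro ⟨c, rfl⟩ b hb
        exact (M.commute_e (hA hb)).2 (hline c b hb)
    have hcent : centralizer (A : Set G) ⊓ V = M.line w := by
      ext g
      rw [mem_inf]
      constructor
      · rintro ⟨h1, h2⟩
        obtain ⟨x, rfl⟩ := (M.mem_iff g).1 h2
        rw [M.e_mem_line, ← hfix]
        exact fun b hb => mem_centralizer_iff.1 h1 b hb
      · rintro ⟨c, rfl⟩
        refine ⟨mem_centralizer_iff.2 ?_, M.e_mem _⟩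
        exact (hfix _).2 ⟨c, rfl⟩
    have hidx : (centralizer (A : Set G)).relIndex V = Nat.card F := by
      have h1 := M.card_fix A
      have h2 : Nat.card {x : Fin 2 → F // ∀ a ∈ A, a * M.e x = M.e x * a} = Nat.card F := by
        rw [← M.card_line hw0]
        refine Nat.card_congr (Equiv.ofBijective (fun x => ⟨M.e x.1, M.e_mem_line.2 ((hfix _).1 x.2)⟩) ⟨?_, ?_⟩)
        · intro x y h
          exact Subtype.ext (M.e_inj (congrArg Subtype.val h))
        · rintro ⟨_, c, rfl⟩
          exact ⟨⟨c • w, (hfix _).2 ⟨c, rfl⟩⟩, rfl⟩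
      rw [h2, pow_two] at h1
      exact Nat.eq_of_mul_eq_mul_left hcardpos h1
    -- the transvections
    choose! τ hτ1 hτ2 using hlin
    obtain ⟨D, hD⟩ := exists_ap_e hw0
    let y₀ : Fin 2 → F := ap D ![0, 1]
    have hy₀ : dt w y₀ ≠ 0 := by
      have h1 := det_eq D
      rw [← hD]
      show dt (ap D ![1, 0]) (ap D ![0, 1]) ≠ 0
      unfold dt
      rw [ap_zero', ap_zero', ap_one', ap_one']
      simp only [Matrix.cons_val_zero, Matrix.cons_val_one, mul_one, mul_zero, add_zero, zero_add]
      intro h2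
      rw [show ent D 0 0 * ent D 1 1 - ent D 1 0 * ent D 0 1 = ent D 0 0 * ent D 1 1 - ent D 0 1 * ent D 1 0 by ring,
        h1] at h2
      exact one_ne_zero h2
    have hmove : ∀ B, ap B w = w → ∃ c : F, ap B y₀ - y₀ = c • w := by
      intro B hB
      have h1 : dt w (ap B y₀ - y₀) = 0 := by
        have h2 : dt (ap B w) (ap B y₀) = dt w y₀ := by
          unfold dt
          rw [ap_zero', ap_zero', ap_one', ap_one']
          linear_combination (w 0 * y₀ 1 - w 1 * y₀ 0) * det_eq B
        rw [hB] at h2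
        unfold dt at h2 ⊢
        rw [Pi.sub_apply, Pi.sub_apply]
        linear_combination h2
      exact exists_smul_of_dt hw0 h1
    have hdet : ∀ B B', ap B w = w → ap B' w = w → ap B y₀ = ap B' y₀ → B = B' := by
      intro B B' h1 h2 h3
      apply ap_inj
      intro x
      obtain ⟨α, β, rfl⟩ := exists_comb hy₀ x
      rw [ap_add, ap_add, ap_smul, ap_smul, ap_smul, ap_smul, h1, h2, h3]
    have hcv : ∀ b ∈ A, (∀ v ∈ V, b * v = v * b) ↔ M.act b y₀ = y₀ := by
      intro b hb
      rw [← M.commute_e (hA hb)]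
      constructor
      · intro h
        exact h _ (M.e_mem _)
      · intro h v hv
        obtain ⟨x, rfl⟩ := (M.mem_iff v).1 hv
        rw [M.commute_e (hA hb)] at h ⊢
        exact fix_all hy₀ (M.act b) (hadd hb) (hbl b hb) (hfix1 b hb) h x
    -- the map `A → F`
    have hcoord : ∀ b ∈ A, ∃ c : F, M.act b y₀ - y₀ = c • w := by
      intro b hb
      obtain ⟨c, hc⟩ := hmove _ (hτ1 b hb)
      exact ⟨c, by rw [M.act_of_ind (hτ2 b hb), hc]⟩
    choose! κ hκ using hcoord
    let K := (centralizer (V : Set G)).subgroupOf A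
    have hKiff : ∀ b b' : A, (QuotientGroup.mk b : A ⧸ K) = QuotientGroup.mk b' ↔ κ b = κ b' := by
      intro b b'
      rw [QuotientGroup.eq, mem_subgroupOf, mem_centralizer_iff]
      have hbb : (b : G)⁻¹ * b' ∈ A := mul_mem (inv_mem b.2) b'.2
      have h1 : (∀ v ∈ (V : Set G), v * (((b⁻¹ * b' : A) : G)) = ((b⁻¹ * b' : A) : G) * v) ↔
          (∀ v ∈ V, ((b : G)⁻¹ * b') * v = v * ((b : G)⁻¹ * b')) :=
        ⟨fun h v hv => (h v hv).symm, fun h v hv => (h v hv).symm⟩
      rw [h1, hcv _ hbb, M.act_mul (inv_mem (hA b.2)) (hA b'.2)]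
      have h2 : M.act (b : G)⁻¹ (M.act b' y₀) = y₀ ↔ M.act b' y₀ = M.act b y₀ := by
        constructor
        · intro h
          have := M.act_act_inv (hA b.2) (M.act b' y₀)
          rw [h] at this
          exact this.symm
        · intro h
          rw [h, M.act_inv_act (hA b.2)]
      rw [h2]
      constructor
      · intro h
        have e1 := hκ b b.2
        rw [← h, hκ b' b'.2] at e1
        exact (smul_left_injective F hw0 e1).symm
      · intro h
        have e1 := hκ b b.2
        rw [h, ← hκ b' b'.2] at e1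
        exact (sub_left_injective e1).symm
    let κ' : A ⧸ K → F := fun q => κ q.out
    have hκ' : ∀ b : A, κ' (QuotientGroup.mk b) = κ b := by
      intro b
      exact (hKiff _ _).1 (QuotientGroup.out_eq' _)
    have hκinj : Function.Injective κ' := by
      intro q q' h
      have h1 := (hKiff q.out q'.out).2 h
      rwa [QuotientGroup.out_eq', QuotientGroup.out_eq'] at h1
    have hcle : (centralizer (V : Set G)).relIndex A ≤ Nat.card F := by
      have := Nat.card_le_card_of_injective _ hκinj
      exact this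
    have hceq : (centralizer (V : Set G)).relIndex A = Nat.card F := by
      rw [hidx] at hoff
      omega
    have hκbij : Function.Bijective κ' := by
      have : Nat.card (A ⧸ K) = Nat.card F := hceq
      exact (Nat.bijective_iff_injective_and_card _).2 ⟨hκinj, this⟩
    have hsurj : ∀ c : F, ∃ b ∈ A, M.act b y₀ - y₀ = c • w := by
      intro c
      obtain ⟨q, hq'⟩ := hκbij.2 c
      refine ⟨(q.out : A), (q.out : A).2, ?_⟩
      rw [← hq', hκ _ (q.out : A).2]
    refine ⟨w, hw0, fun b hb => ⟨τ b, hτ1 b hb, hτ2 b hb⟩, ?_, hcent, hceq, hidx, ?_, ?_⟩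
    · intro B hB
      obtain ⟨c, hc⟩ := hmove B hB
      obtain ⟨b, hb, hb'⟩ := hsurj c
      refine ⟨b, hb, ?_⟩
      have h1 : τ b = B := by
        apply hdet _ _ (hτ1 b hb) hB
        rw [← M.act_of_ind (hτ2 b hb)]
        have h2 : M.act b y₀ - y₀ = ap B y₀ - y₀ := by rw [hb', hc]
        exact sub_left_injective h2
      rw [← h1]
      exact hτ2 b hb
    · intro b hb v hv
      obtain ⟨x, rfl⟩ := (M.mem_iff v).1 hv
      rw [hcomm b hb, M.e_mem_line]
      exact hfixa _ (hquad b hb a ha x)
    · rintro _ ⟨c, rfl⟩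
      obtain ⟨b, hb, hb'⟩ := hsurj c
      exact ⟨b, hb, M.e y₀, M.e_mem _, by rw [hcomm b hb, hb']⟩
  · -- no nontrivial linear element
    exfalso
    push Not at hlin
    obtain ⟨a, ha, v, hv, hav⟩ := hne
    obtain ⟨x, rfl⟩ := (M.mem_iff v).1 hv
    have hax : M.act a x ≠ x := fun h => hav ((M.commute_e (hA ha)).2 h)
    have hfield : ∀ b ∈ A, ∀ s : F ≃+* F, (∀ (c : F) x, M.act b (c • x) = s c • M.act b x) → (∃ x, M.act b x ≠ x) →
        ∃ c : F, s c ≠ c := by
      intro b hb s hs hbx
      by_contra hcon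
      push Not at hcon
      obtain ⟨c, x, hcx⟩ := hlin b hb hbx
      apply hcx
      rw [hs, hcon]
    obtain ⟨s, hs⟩ := M.exists_semi (hA ha)
    obtain ⟨c, hc⟩ := hfield a ha s hs ⟨x, hax⟩
    have h1 := M.card_fix A
    have h2 : Nat.card {x : Fin 2 → F // ∀ a ∈ A, a * M.e x = M.e x * a} ≤ Nat.card F := by
      refine M.card_fix_le (hA ha) hs hc (X := {x | ∀ a ∈ A, a * M.e x = M.e x * a}) ?_
      intro x hx
      exact (M.commute_e (hA ha)).1 (hx a ha)
    have h3 : Nat.card F ≤ (centralizer (A : Set G)).relIndex V := by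
      by_contra hcon
      push Not at hcon
      have : Nat.card {x : Fin 2 → F // ∀ a ∈ A, a * M.e x = M.e x * a} * (centralizer (A : Set G)).relIndex V <
          Nat.card F * Nat.card F := by
        calc _ ≤ Nat.card F * (centralizer (A : Set G)).relIndex V := Nat.mul_le_mul_right _ h2
          _ < _ := Nat.mul_lt_mul_of_pos_left hcon hcardpos
      rw [h1, pow_two] at this
      exact lt_irrefl _ this
    -- the order of the image
    let f : A →* RingAut F := M.sgHom.comp (inclusion hA)
    have hker : f.ker ≤ (centralizer (V : Set G)).subgroupOf A := by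
      intro b hb
      rw [mem_subgroupOf, mem_centralizer_iff]
      intro v hv
      obtain ⟨x, rfl⟩ := (M.mem_iff v).1 hv
      symm
      rw [M.commute_e (hA b.2)]
      by_contra hcon
      have hb1 : M.sg ⟨b, hA b.2⟩ = 1 := hb
      obtain ⟨c, hc⟩ := hfield b b.2 (M.sg ⟨b, hA b.2⟩) (fun c x => M.sg_spec ⟨b, hA b.2⟩ c x) ⟨x, hcon⟩
      apply hc
      rw [hb1]; rfl
    have h4 : (centralizer (V : Set G)).relIndex A ≤ Nat.card (F ≃+* F) := by
      have h5 : ((centralizer (V : Set G)).subgroupOf A).index ∣ f.ker.index := Subgroup.index_dvd_of_le hker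
      have h6 : f.ker.index ≤ Nat.card (RingAut F) := by
        rw [Subgroup.index_ker]
        have : Finite (RingAut F) := Finite.of_injective (fun e : F ≃+* F => (e : F → F)) DFunLike.coe_injective
        exact Nat.card_le_card_of_injective _ (Subtype.val_injective (p := fun x => x ∈ f.range))
      have h7 : 0 < f.ker.index := Nat.pos_of_ne_zero Subgroup.index_ne_zero_of_finite
      exact (Nat.le_of_dvd h7 h5).trans h6
    have h5 := card_ringAut_lt F
    omega

end Cfsg.Agent.Omega.NatPair.NatMod
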